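import Cfsg.Prelude.Def_Transfer
import Cfsg.Prelude.Def_Solvable
import Cfsg.Agent.Lib.Core.Cores
import Cfsg.Agent.Lib.GTwoType.SetupMat

/-!
# The two local subgroups of a group of `HS` type
-/

set_option autoImplicit false
set_option linter.style.haveILetI false
set_option linter.unusedSectionVars false
set_option maxHeartbeats 1000000

namespace Cfsg.Lib.HSType

open Cfsg Subgroup
open scoped commutatorElement

/-- The facts about the two local subgroups that the identification uses. -/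
structure Loc {G : Type*} [Group G] (t : G) (R Cy V A M : Subgroup G) : Prop where
  tne : t ≠ 1
  tsq : t * t = 1
  cardH : Nat.card (centralizer ({t} : Set G)) = 7680
  R_le : R ≤ centralizer ({t} : Set G)
  R_norm : ∀ h : G, h * t = t * h → ∀ r ∈ R, h * r * h⁻¹ ∈ R
  cardR : Nat.card R = 64
  cy_le : Cy ≤ R
  cy_comm : ∀ z ∈ Cy, ∀ r ∈ R, Commute z r
  cy_of : ∀ z ∈ R, (∀ r ∈ R, Commute z r) → z ∈ Cy
  cardCy : Nat.card Cy = 4
  sq : ∀ r ∈ R, r * r = 1 ∨ r * r = t
  cm : ∀ r ∈ R, ∀ s ∈ R, ⁅r, s⁆ = 1 ∨ ⁅r, s⁆ = t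
  quot : ∃ π : centralizer ({t} : Set G) →* Equiv.Perm (Fin 5), Function.Surjective π ∧
    ∀ h, π h = 1 ↔ (h : G) ∈ R
  cardV : Nat.card V = 8
  V_sq : ∀ v ∈ V, v * v = 1
  V_comm : ∀ v ∈ V, ∀ w ∈ V, Commute v w
  V_le : V ≤ R
  tV : t ∈ V
  hM : M = normalizer (V : Set G)
  cardM : Nat.card M = 10752
  A_le : A ≤ M
  A_norm : ∀ g ∈ M, ∀ a ∈ A, g * a * g⁻¹ ∈ A
  cardA : Nat.card A = 64
  A_comm : ∀ a ∈ A, ∀ b ∈ A, Commute a b
  A_four : ∀ a ∈ A, a ^ 4 = 1
  VA : V ≤ A
  A_two : ∀ a ∈ A, a * a = 1 → a ∈ V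
  A_root : ∀ v ∈ V, ∃ a ∈ A, a * a = v
  cen_V : ∀ g ∈ M, (∀ v ∈ V, Commute g v) → g ∈ A

theorem gl_three_two : IsSimpleGroup (GL (Fin 3) (ZMod 2)) ∧ Nat.card (GL (Fin 3) (ZMod 2)) = 168 := by
  obtain ⟨hs, hc⟩ := Cfsg.Lib.GTwoType.sl_three_two
  let f : Matrix.SpecialLinearGroup (Fin 3) (ZMod 2) →* GL (Fin 3) (ZMod 2) := Matrix.SpecialLinearGroup.toGL
  have hi : Function.Injective f := fun a b h => Subtype.ext (congrArg Units.val h)
  have hsurj : Function.Surjective f := by
    intro g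
    refine ⟨⟨(g : Matrix (Fin 3) (Fin 3) (ZMod 2)), ?_⟩, Units.ext rfl⟩
    have h1 : ∀ a : ZMod 2, a ≠ 0 → a = 1 := by decide
    exact h1 _ ((Matrix.isUnit_iff_isUnit_det _).1 g.isUnit).ne_zero
  let e := MulEquiv.ofBijective f ⟨hi, hsurj⟩
  exact ⟨e.isSimpleGroup_congr.1 hs, (Nat.card_congr e.toEquiv).symm.trans hc⟩

variable {G : Type*} [Group G] [Finite G]

/-- An elementary abelian subgroup of such a 2-group has order at most eight. -/
theorem rank_le {R Cy X : Subgroup G} {t : G} (hXR : X ≤ R) (hXc : ∀ a ∈ X, ∀ b ∈ X, Commute a b)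
    (hX2 : ∀ a ∈ X, a * a = 1) (cy_le : Cy ≤ R) (cy_comm : ∀ z ∈ Cy, ∀ r ∈ R, Commute z r)
    (cy_of : ∀ z ∈ R, (∀ r ∈ R, Commute z r) → z ∈ Cy) (hCy : Nat.card Cy = 4) (cardR : Nat.card R = 64)
    (cm : ∀ r ∈ R, ∀ s ∈ R, ⁅r, s⁆ = 1 ∨ ⁅r, s⁆ = t) (tsq : t * t = 1)
    (cy_sq : ∀ z ∈ Cy, z * z = 1 → z = 1 ∨ z = t) (tc : ∀ r ∈ R, Commute t r) : Nat.card X ≤ 8 := by
  classical
  haveI : Fact (Nat.Prime 2) := ⟨Nat.prime_two⟩
  by_contra hgt
  have hX16 : 16 ≤ Nat.card X := by
    obtain ⟨k, -, hk⟩ := (Nat.dvd_prime_pow Nat.prime_two).1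
      (show Nat.card X ∣ 2 ^ 6 by rw [show (2 : ℕ) ^ 6 = Nat.card R from cardR.symm]; exact card_dvd_of_le hXR)
    have h4 : 4 ≤ k := by
      by_contra h
      have := Nat.pow_le_pow_right (show 2 > 0 by norm_num) (show k ≤ 3 by omega)
      omega
    rw [hk]
    exact le_trans (by norm_num) (Nat.pow_le_pow_right (show 2 > 0 by norm_num) h4)
  let S : Set G := (X : Set G) ∪ Cy
  have hS : ∀ a ∈ S, ∀ b ∈ S, a * b = b * a := by
    intro a ha b hb
    rcases ha with ha | ha
    · rcases hb with hb | hb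
      · exact (hXc a ha b hb).eq
      · exact (cy_comm b hb a (hXR ha)).eq.symm
    · rcases hb with hb | hb
      · exact (cy_comm a ha b (hXR hb)).eq
      · exact (cy_comm a ha b (cy_le hb)).eq
  set W := closure S with hW
  have hWR : W ≤ R := (closure_le _).2 (Set.union_subset hXR cy_le)
  have hWc : ∀ a ∈ W, ∀ b ∈ W, Commute a b := fun a ha b hb =>
    congrArg Subtype.val ((Subgroup.isMulCommutative_closure hS).is_comm.comm ⟨a, ha⟩ ⟨b, hb⟩)
  have hXW : X ≤ W := fun a ha => subset_closure (Or.inl ha)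
  have hne : X ≠ W := by
    intro e
    have hcy : ∀ z ∈ Cy, z = 1 ∨ z = t := fun z hz =>
      cy_sq z hz (hX2 z (e ▸ subset_closure (Or.inr hz)))
    have : Nat.card Cy ≤ 2 := by
      refine le_trans (Nat.card_le_card_of_injective (fun z : Cy => decide ((z : G) = 1)) fun a b hab => ?_) (by simp)
      rcases hcy a a.2 with ha | ha <;> rcases hcy b b.2 with hb | hb <;>
        first
          | exact Subtype.ext (ha.trans hb.symm)
          | (simp [ha, hb] at hab; exact Subtype.ext (by rw [ha, hb, hab]))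
    omega
  obtain ⟨k, hk⟩ := card_dvd_of_le hXW
  have hk2 : 2 ≤ k := by
    rcases Nat.lt_or_ge k 2 with h | h
    · exfalso
      interval_cases k
      · rw [mul_zero] at hk; exact Nat.card_pos.ne' hk
      · exact hne (Subgroup.eq_of_le_of_card_ge hXW (by omega))
    · exact h
  have hW32 : 32 ≤ Nat.card W := by rw [hk]; exact le_trans (by norm_num) (Nat.mul_le_mul hX16 hk2)
  obtain ⟨m, hm⟩ := card_dvd_of_le hWR
  rw [cardR] at hm
  have hWlt : ¬ R ≤ W := by
    intro h
    have h4 : Nat.card R ≤ Nat.card Cy :=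
      card_le_of_le fun r hr => cy_of r hr fun b hb => hWc r (h hr) b (h hb)
    omega
  obtain ⟨r, hrR, hrW⟩ := SetLike.not_le_iff_exists.1 hWlt
  have hgen : ∀ b ∈ R, b ∈ W ∨ r⁻¹ * b ∈ W := by
    intro b hb
    by_contra hn
    rw [not_or] at hn
    -- three cosets of W in R
    let f : W × Fin 3 → R := fun p =>
      ⟨(![1, r, b] p.2) * p.1, mul_mem (by obtain ⟨w, i⟩ := p; fin_cases i <;> simp [hrR, hb]) (hWR p.1.2)⟩
    have hf : Function.Injective f := by
      rintro ⟨w, i⟩ ⟨v, j⟩ e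
      have e' : ![1, r, b] i * (w : G) = ![1, r, b] j * (v : G) := congrArg Subtype.val e
      have h' : (![1, r, b] i)⁻¹ * ![1, r, b] j ∈ W := by
        have : (![1, r, b] i)⁻¹ * ![1, r, b] j = w * (v : G)⁻¹ := by
          rw [inv_mul_eq_iff_eq_mul, ← mul_assoc, e', mul_inv_cancel_right]
        rw [this]; exact mul_mem w.2 (inv_mem v.2)
      have hij : i = j := by
        fin_cases i <;> fin_cases j <;> simp at h' ⊢
        · exact hrW h'
        · exact hn.1 h'
        · exact hrW h'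
        · exact hn.2 h'
        · exact hn.1 h'
        · exact hn.2 (by simpa using inv_mem h')
      subst hij
      exact Prod.ext (Subtype.ext (mul_left_cancel e')) rfl
    have := Nat.card_le_card_of_injective f hf
    rw [Nat.card_prod, Nat.card_fin, cardR] at this
    omega
  let K : Subgroup G := X ⊓ centralizer {r}
  have hKc : ∀ z ∈ K, z = 1 ∨ z = t := by
    intro z hz
    obtain ⟨hzX, hzr⟩ := Subgroup.mem_inf.1 hz
    have hzr' : Commute z r := mem_centralizer_singleton_iff.1 hzr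
    refine cy_sq z (cy_of z (hXR hzX) fun b hb => ?_) (hX2 z hzX)
    rcases hgen b hb with h | h
    · exact hWc z (hXW hzX) b h
    · have := hzr'.mul_right (hWc z (hXW hzX) _ h)
      rwa [mul_inv_cancel_left] at this
  have hK2 : Nat.card K ≤ 2 := by
    refine le_trans (Nat.card_le_card_of_injective (fun z : K => decide ((z : G) = 1)) fun a b hab => ?_) (by simp)
    rcases hKc a a.2 with ha | ha <;> rcases hKc b b.2 with hb | hb <;>
      first
        | exact Subtype.ext (ha.trans hb.symm)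
        | (simp [ha, hb] at hab; exact Subtype.ext (by rw [ha, hb, hab]))
  have hidx : ∀ a ∈ X, ∀ b ∈ X, a ∉ K → b ∉ K → a * b ∈ K := by
    intro a ha b hb hna hnb
    have hca : ⁅r, a⁆ = t := (cm r hrR a (hXR ha)).resolve_left fun h => hna
      (Subgroup.mem_inf.2 ⟨ha, mem_centralizer_singleton_iff.2 (commutatorElement_eq_one_iff_commute.1 h).eq.symm⟩)
    have hcb : ⁅r, b⁆ = t := (cm r hrR b (hXR hb)).resolve_left fun h => hnb
      (Subgroup.mem_inf.2 ⟨hb, mem_centralizer_singleton_iff.2 (commutatorElement_eq_one_iff_commute.1 h).eq.symm⟩)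
    refine Subgroup.mem_inf.2 ⟨mul_mem ha hb, mem_centralizer_singleton_iff.2 ?_⟩
    have h1 : ⁅r, a * b⁆ = ⁅r, a⁆ * (a * ⁅r, b⁆ * a⁻¹) := by simp only [commutatorElement_def]; group
    rw [hca, hcb, ← (tc a (hXR ha)).eq, mul_inv_cancel_right, tsq] at h1
    exact (commutatorElement_eq_one_iff_commute.1 h1).eq.symm
  have hbound : Nat.card X ≤ 2 * Nat.card K := by
    by_cases hall : ∀ a ∈ X, a ∈ K
    · exact le_trans (card_le_of_le hall) (by omega)
    push Not at hall
    obtain ⟨a, ha, hna⟩ := hall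
    let g : X → Bool × K := fun x =>
      if h : (x : G) ∈ K then (true, ⟨x, h⟩) else (false, ⟨a * x, hidx a ha x x.2 hna h⟩)
    have hg : Function.Injective g := by
      intro x y e
      simp only [g] at e
      split_ifs at e with h1 h2 h2 <;> simp at e <;> exact e
    refine le_trans (Nat.card_le_card_of_injective g hg) ?_
    rw [Nat.card_prod, show Nat.card Bool = 2 by simp]
  omega

/-- The facts follow from the hypotheses. -/
theorem loc_of_hyp (t : G) (ht : orderOf t = 2) (H : Subgroup G) (hH : H = centralizer ({t} : Set G))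
    (R : Subgroup G) (hR : R = (Cfsg.pCore 2 H).map H.subtype)
    (Cy E : Subgroup G) (hCy : IsCyclic Cy) (hCycard : Nat.card Cy = 4)
    (hCyle : Cy ≤ R ⊓ centralizer (R : Set G))
    (hEle : E ≤ R) (hEex : Cfsg.IsExtraspecial 2 E) (hEcard : Nat.card E = 32)
    (hprod : Cy ⊔ E = R) (hmeet : Cy ⊓ E = E ⊓ centralizer (E : Set G))
    (eH : H ⧸ Cfsg.pCore 2 H ≃* Equiv.Perm (Fin 5))
    (V : Subgroup G) (hVcomm : IsMulCommutative V) (hVexp : ∀ v ∈ V, v ^ 2 = 1) (hVcard : Nat.card V = 8)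
    (hVR : V ≤ R) (M : Subgroup G) (hM : M = normalizer (V : Set G))
    (eOM : Cfsg.pCore 2 M ≃* Multiplicative (ZMod 4 × ZMod 4 × ZMod 4))
    (eM : M ⧸ Cfsg.pCore 2 M ≃* GL (Fin 3) (ZMod 2)) :
    Loc t R Cy V ((Cfsg.pCore 2 M).map M.subtype) M := by
  classical
  subst hH
  haveI : Fact (Nat.Prime 2) := ⟨Nat.prime_two⟩
  have tsq : t * t = 1 := by rw [← pow_two, ← ht, pow_orderOf_eq_one]
  have tne : t ≠ 1 := fun h => by rw [h, orderOf_one] at ht; norm_num at ht
  have tC : t ∈ centralizer ({t} : Set G) := mem_centralizer_singleton_iff.2 rfl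
  have hmemH : ∀ {h : G}, h ∈ centralizer ({t} : Set G) ↔ h * t = t * h := mem_centralizer_singleton_iff
  have R_le : R ≤ centralizer ({t} : Set G) := hR ▸ map_subtype_le _
  have hpg : IsPGroup 2 R := hR ▸ (Core.pCore_isPGroup 2 _).map _
  have R_norm : ∀ h : G, h * t = t * h → ∀ r ∈ R, h * r * h⁻¹ ∈ R := by
    intro h hh r hr
    rw [hR] at hr ⊢
    obtain ⟨r', hr', rfl⟩ := hr
    exact ⟨⟨h, hmemH.2 hh⟩ * r' * ⟨h, hmemH.2 hh⟩⁻¹, Normal.conj_mem inferInstance r' hr' _, rfl⟩
  have cy_comm : ∀ z ∈ Cy, ∀ r ∈ R, Commute z r := fun z hz r hr =>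
    ((mem_centralizer_iff.1 (hCyle hz).2) r hr).symm
  have cy_le : Cy ≤ R := hCyle.trans inf_le_left
  -- the centre of the extraspecial factor
  have hZE : Nat.card (Subgroup.center E) = 2 := hEex.2
  have hmeet2 : Nat.card (Cy ⊓ E : Subgroup G) = 2 := by
    rw [hmeet, ← hZE]
    refine Nat.card_congr
      { toFun := fun z => ⟨⟨z.1, z.2.1⟩, Subgroup.mem_center_iff.2 fun e => Subtype.ext ((mem_centralizer_iff.1 z.2.2) e e.2)⟩
        invFun := fun z => ⟨(z.1 : G), z.1.2, mem_centralizer_iff.2 fun e he =>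
          congrArg Subtype.val (Subgroup.mem_center_iff.1 z.2 ⟨e, he⟩)⟩
        left_inv := fun _ => rfl
        right_inv := fun _ => rfl }
  have hEN : E ≤ normalizer (Cy : Set G) := by
    intro e he
    refine mem_normalizer_iff.2 fun z => ?_
    have key : ∀ w ∈ Cy, e * w * e⁻¹ = w := fun w hw => by
      rw [← (cy_comm w hw e (hEle he)).eq]; group
    constructor
    · intro hz; rw [key z hz]; exact hz
    · intro hz
      have h := key _ hz
      have : e * z * e⁻¹ = z := by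
        have := congrArg (fun w => e⁻¹ * w * e) h
        simpa [mul_assoc] using this
      rwa [this] at hz
  have hmul : ∀ r ∈ R, ∃ z ∈ Cy, ∃ e ∈ E, z * e = r := by
    intro r hr
    rw [← hprod, ← SetLike.mem_coe, coe_mul_of_right_le_normalizer_left _ _ hEN] at hr
    exact hr
  have cardR : Nat.card R = 64 := by
    let f : Cy × E → R := fun p => ⟨p.1 * p.2, mul_mem (cy_le p.1.2) (hEle p.2.2)⟩
    have hf : Function.Surjective f := fun r => by
      obtain ⟨z, hz, e, he, hze⟩ := hmul r r.2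
      exact ⟨(⟨z, hz⟩, ⟨e, he⟩), Subtype.ext hze⟩
    have h1 : ∀ r : R, Nat.card {p // f p = r} = 2 := by
      intro r
      obtain ⟨⟨z, e⟩, hze⟩ := hf r
      rw [← hmeet2]
      refine Nat.card_congr
        { toFun := fun p => ⟨(z : G)⁻¹ * p.1.1, ?_⟩
          invFun := fun w => ⟨(⟨z * w, mul_mem z.2 w.2.1⟩, ⟨(w : G)⁻¹ * e, mul_mem (inv_mem w.2.2) e.2⟩), ?_⟩
          left_inv := ?_
          right_inv := fun w => Subtype.ext (by simp) }
      · refine Subgroup.mem_inf.2 ⟨mul_mem (inv_mem z.2) p.1.1.2, ?_⟩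
        have h : (p.1.1 : G) * p.1.2 = z * e := congrArg Subtype.val (p.2.trans hze.symm)
        have h' : (z : G)⁻¹ * p.1.1 = e * (p.1.2 : G)⁻¹ := by
          rw [eq_mul_inv_iff_mul_eq, mul_assoc, h, inv_mul_cancel_left]
        rw [h']
        exact mul_mem e.2 (inv_mem p.1.2.2)
      · rw [← hze]; exact Subtype.ext (show (z : G) * w * ((w : G)⁻¹ * e) = z * e by group)
      · intro p
        refine Subtype.ext (Prod.ext (Subtype.ext (show (z : G) * ((z : G)⁻¹ * p.1.1) = p.1.1 by group))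
          (Subtype.ext ?_))
        have h : (p.1.1 : G) * p.1.2 = z * e := congrArg Subtype.val (p.2.trans hze.symm)
        show ((z : G)⁻¹ * p.1.1)⁻¹ * e = p.1.2
        rw [mul_inv_rev, inv_inv, mul_assoc, ← h, inv_mul_cancel_left]
    have h2 : Nat.card (Cy × E) = Nat.card R * 2 := by
      haveI : Fintype R := Fintype.ofFinite _
      rw [Nat.card_congr (Equiv.sigmaFiberEquiv f).symm, Nat.card_sigma]
      simp [h1, Nat.card_eq_fintype_card]
    rw [Nat.card_prod, hCycard, hEcard] at h2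
    omega
  -- the involution t
  have t_R : t ∈ R := by
    have hz : (⟨t, tC⟩ : centralizer ({t} : Set G)) ∈ Subgroup.center _ :=
      Subgroup.mem_center_iff.2 fun h => Subtype.ext (hmemH.1 h.2)
    have hn : (zpowers (⟨t, tC⟩ : centralizer ({t} : Set G))).Normal := ⟨fun a ha g => by
      obtain ⟨k, rfl⟩ := mem_zpowers_iff.1 ha
      have := Subgroup.mem_center_iff.1 (zpow_mem hz k) g
      rw [this, mul_inv_cancel_right]
      exact zpow_mem (mem_zpowers _) k⟩
    have hp : IsPGroup 2 (zpowers (⟨t, tC⟩ : centralizer ({t} : Set G))) :=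
      IsPGroup.of_card (n := 1) (by rw [Nat.card_zpowers, orderOf_mk, ht, pow_one])
    rw [hR]
    exact ⟨⟨t, tC⟩, Core.le_pCore' hn hp (mem_zpowers _), rfl⟩
  have cy_of : ∀ z ∈ R, (∀ r ∈ R, Commute z r) → z ∈ Cy := by
    intro z hz hc
    obtain ⟨w, hw, e, he, rfl⟩ := hmul z hz
    have he' : e ∈ Cy ⊓ E := by
      rw [hmeet]
      refine ⟨he, mem_centralizer_iff.2 fun b hb => ?_⟩
      have h1 := hc b (hEle hb)
      have h2 := cy_comm w hw b (hEle hb)
      have h3 : Commute e b := by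
        have := (h2.inv_left).mul_left h1
        rwa [inv_mul_cancel_left] at this
      exact h3.eq.symm
    exact mul_mem hw he'.1
  have t_cy : t ∈ Cy := cy_of t t_R fun r hr => ((mem_centralizer_singleton_iff.1 (R_le hr))).symm
  -- the only involution of Cy
  have cy_sq : ∀ z ∈ Cy, z * z = 1 → z = 1 ∨ z = t := by
    intro z hz hzz
    obtain ⟨g, hg⟩ := hCy.exists_generator
    have hgo : orderOf g = 4 := by rw [orderOf_eq_card_of_forall_mem_zpowers hg, hCycard]
    have hall : ∀ w : Cy, w * w = 1 → w = 1 ∨ w = g ^ 2 := by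
      intro w hw
      obtain ⟨k, rfl⟩ := mem_powers_iff_mem_zpowers.2 (hg w)
      change g ^ k * g ^ k = 1 at hw
      change g ^ k = 1 ∨ g ^ k = g ^ 2
      rw [← pow_add, ← orderOf_dvd_iff_pow_eq_one, hgo] at hw
      rw [← pow_mod_orderOf, hgo]
      rcases (show k % 4 = 0 ∨ k % 4 = 2 by omega) with h | h <;> rw [h]
      · exact Or.inl (pow_zero g)
      · exact Or.inr rfl
    have ht' := (hall ⟨t, t_cy⟩ (Subtype.ext tsq)).resolve_left fun h => tne (congrArg Subtype.val h)
    rcases hall ⟨z, hz⟩ (Subtype.ext hzz) with h | h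
    · exact Or.inl (congrArg Subtype.val h)
    · exact Or.inr (congrArg Subtype.val (h.trans ht'.symm))
  have cy_two : ∀ z ∈ Cy, z * z = 1 ∨ z * z = t := by
    intro z hz
    refine cy_sq _ (mul_mem hz hz) ?_
    have h : (⟨z, hz⟩ : Cy) ^ Nat.card Cy = 1 := pow_card_eq_one'
    rw [hCycard] at h
    have := congrArg Subtype.val h
    simpa [pow_succ, mul_assoc] using this
  have e_cen : ∀ z ∈ E, (∀ b ∈ E, Commute z b) → z = 1 ∨ z = t := by
    intro z hz hc
    have h : z ∈ Cy ⊓ E := hmeet ▸ ⟨hz, mem_centralizer_iff.2 fun b hb => (hc b hb).eq.symm⟩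
    refine cy_sq z h.1 ?_
    have h' : (⟨z, h⟩ : (Cy ⊓ E : Subgroup G)) ^ Nat.card (Cy ⊓ E : Subgroup G) = 1 := pow_card_eq_one'
    rw [hmeet2] at h'
    have := congrArg Subtype.val h'
    simpa [pow_two] using this
  have e_cm : ∀ a ∈ E, ∀ b ∈ E, ⁅a, b⁆ = 1 ∨ ⁅a, b⁆ = t := by
    intro a ha b hb
    have h : (⁅(⟨a, ha⟩ : E), ⟨b, hb⟩⁆) ∈ commutator E := Subgroup.commutator_mem_commutator (mem_top _) (mem_top _)
    rw [hEex.1.2.2] at h
    refine e_cen _ ?_ fun c hc => (congrArg Subtype.val (Subgroup.mem_center_iff.1 h ⟨c, hc⟩)).symm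
    exact (⁅(⟨a, ha⟩ : E), (⟨b, hb⟩ : E)⁆).2
  have e_sq : ∀ a ∈ E, a * a = 1 ∨ a * a = t := by
    intro a ha
    refine e_cen _ (mul_mem ha ha) fun b hb => ?_
    have h2 : Commute ⁅a, b⁆ a ∧ ⁅a, b⁆ * ⁅a, b⁆ = 1 := by
      rcases e_cm a ha b hb with h | h <;> rw [h]
      · exact ⟨Commute.one_left a, mul_one 1⟩
      · exact ⟨((mem_centralizer_singleton_iff.1 (R_le (hEle ha)))).symm, tsq⟩
    rw [← commutatorElement_eq_one_iff_commute]
    have e1 : ⁅a * a, b⁆ = a * ⁅a, b⁆ * a⁻¹ * ⁅a, b⁆ := by simp only [commutatorElement_def]; group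
    rw [e1, ← h2.1.eq, mul_inv_cancel_right, h2.2]
  have sq : ∀ r ∈ R, r * r = 1 ∨ r * r = t := by
    intro r hr
    obtain ⟨z, hz, e, he, rfl⟩ := hmul r hr
    have hcz : Commute e z := (cy_comm z hz e (hEle he)).symm
    rw [show z * e * (z * e) = z * z * (e * e) by rw [mul_assoc, ← mul_assoc e, hcz.eq]; group]
    rcases cy_two z hz with h | h <;> rcases e_sq e he with h' | h' <;> rw [h, h'] <;> simp [tsq]
  have cm : ∀ r ∈ R, ∀ s ∈ R, ⁅r, s⁆ = 1 ∨ ⁅r, s⁆ = t := by
    intro r hr s hs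
    obtain ⟨z, hz, e, he, rfl⟩ := hmul r hr
    obtain ⟨w, hw, f, hf, rfl⟩ := hmul s hs
    have h1 : ⁅z * e, w * f⁆ = ⁅e, f⁆ := by
      have hzc : ∀ b ∈ R, Commute z b := cy_comm z hz
      have hwc : ∀ b ∈ R, Commute w b := cy_comm w hw
      have a1 : Commute z ((e * (w * f) * e⁻¹)) := hzc _ (mul_mem (mul_mem (hEle he) hs) (inv_mem (hEle he)))
      have a2 : Commute w (e : G) := hwc _ (hEle he)
      calc ⁅z * e, w * f⁆ = z * (e * (w * f) * e⁻¹) * z⁻¹ * (w * f)⁻¹ := by
            simp only [commutatorElement_def]; group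
        _ = e * (w * f) * e⁻¹ * (w * f)⁻¹ := by rw [a1.eq, mul_inv_cancel_right]
        _ = (e * w) * f * e⁻¹ * f⁻¹ * w⁻¹ := by group
        _ = w * ⁅e, f⁆ * w⁻¹ := by rw [← a2.eq]; simp only [commutatorElement_def]; group
        _ = ⁅e, f⁆ := by
            rw [(hwc _ (by rw [commutatorElement_def]
                           exact mul_mem (mul_mem (mul_mem (hEle he) (hEle hf)) (inv_mem (hEle he))) (inv_mem (hEle hf)))).eq,
              mul_inv_cancel_right]
    rw [h1]
    exact e_cm e he f hf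
  have cardH : Nat.card (centralizer ({t} : Set G)) = 7680 := by
    rw [Subgroup.card_eq_card_quotient_mul_card_subgroup (Cfsg.pCore 2 (centralizer ({t} : Set G))),
      Nat.card_congr eH.toEquiv, Nat.card_perm, Nat.card_fin,
      show Nat.card (Cfsg.pCore 2 (centralizer ({t} : Set G))) = 64 by
        rw [← cardR, hR, card_map_of_injective (subtype_injective _)]]
    rfl
  have quot : ∃ π : centralizer ({t} : Set G) →* Equiv.Perm (Fin 5), Function.Surjective π ∧
      ∀ h, π h = 1 ↔ (h : G) ∈ R := by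
    refine ⟨eH.toMonoidHom.comp (QuotientGroup.mk' _), eH.surjective.comp (QuotientGroup.mk'_surjective _), fun h => ?_⟩
    show eH (QuotientGroup.mk h) = 1 ↔ _
    rw [map_eq_one_iff _ eH.injective, QuotientGroup.eq_one_iff, hR]
    exact ⟨fun hh => ⟨h, hh, rfl⟩, fun ⟨a, ha, e⟩ => Subtype.ext e ▸ ha⟩
  -- the elementary abelian subgroup
  have V_sq : ∀ v ∈ V, v * v = 1 := fun v hv => by rw [← pow_two]; exact hVexp v hv
  have V_comm : ∀ v ∈ V, ∀ w ∈ V, Commute v w := fun v hv w hw =>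
    congrArg Subtype.val (hVcomm.is_comm.comm ⟨v, hv⟩ ⟨w, hw⟩)
  have tV : t ∈ V := by
    let S : Set G := insert t (V : Set G)
    have hS : ∀ a ∈ S, ∀ b ∈ S, a * b = b * a := by
      intro a ha b hb
      rcases ha with rfl | ha <;> rcases hb with rfl | hb
      · rfl
      · exact ((mem_centralizer_singleton_iff.1 (R_le (hVR hb)))).symm
      · exact mem_centralizer_singleton_iff.1 (R_le (hVR ha))
      · exact (V_comm a ha b hb).eq
    set X := closure S with hXdef
    have hXR : X ≤ R := (closure_le _).2 (Set.insert_subset t_R hVR)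
    have hXc : ∀ a ∈ X, ∀ b ∈ X, Commute a b := fun a ha b hb =>
      congrArg Subtype.val ((Subgroup.isMulCommutative_closure hS).is_comm.comm ⟨a, ha⟩ ⟨b, hb⟩)
    have hX2 : ∀ a ∈ X, a * a = 1 := by
      intro a ha
      induction ha using Subgroup.closure_induction with
      | mem b hb => rcases hb with rfl | hb; exacts [tsq, V_sq b hb]
      | one => exact mul_one 1
      | mul b c hb hc hbb hcc => rw [(hXc c hc b hb).mul_mul_mul_comm, hbb, hcc, one_mul]
      | inv b _ hbb => rw [← mul_inv_rev, hbb, inv_one]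
    have hle : Nat.card X ≤ 8 := rank_le hXR hXc hX2 cy_le cy_comm cy_of hCycard cardR cm tsq
      (fun z hz h => cy_sq z hz h) (fun r hr => ((mem_centralizer_singleton_iff.1 (R_le hr))).symm)
    have hVX : V ≤ X := fun v hv => subset_closure (Or.inr hv)
    have e : V = X := Subgroup.eq_of_le_of_card_ge hVX (by omega)
    rw [e]; exact subset_closure (Or.inl rfl)
  -- the normaliser of V
  set A := (Cfsg.pCore 2 M).map M.subtype with hA
  have cardA : Nat.card A = 64 := by
    rw [hA, card_map_of_injective (subtype_injective _), Nat.card_congr eOM.toEquiv,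
      Nat.card_congr Multiplicative.toAdd, Nat.card_prod, Nat.card_prod, Nat.card_zmod]
  have cardM : Nat.card M = 10752 := by
    rw [Subgroup.card_eq_card_quotient_mul_card_subgroup (Cfsg.pCore 2 M), Nat.card_congr eM.toEquiv,
      gl_three_two.2, Nat.card_congr eOM.toEquiv, Nat.card_congr Multiplicative.toAdd, Nat.card_prod,
      Nat.card_prod, Nat.card_zmod]
  have A_le : A ≤ M := map_subtype_le _
  have A_norm : ∀ g ∈ M, ∀ a ∈ A, g * a * g⁻¹ ∈ A := by
    rintro g hg _ ⟨a, ha, rfl⟩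
    exact ⟨⟨g, hg⟩ * a * ⟨g, hg⟩⁻¹, Normal.conj_mem inferInstance a ha _, rfl⟩
  have A_comm : ∀ a ∈ A, ∀ b ∈ A, Commute a b := by
    rintro _ ⟨a, ha, rfl⟩ _ ⟨b, hb, rfl⟩
    have h := congrArg eOM.symm (mul_comm (eOM ⟨a, ha⟩) (eOM ⟨b, hb⟩))
    rw [← map_mul, ← map_mul, eOM.symm_apply_apply, eOM.symm_apply_apply] at h
    exact congrArg (fun z : Cfsg.pCore 2 M => ((z : M) : G)) h
  have four : ∀ z : ZMod 4 × ZMod 4 × ZMod 4, (4 : ℕ) • z = 0 ∧ (z + z = 0 → ∃ y, y + y = z) := by
    decide +kernel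
  have A_four : ∀ a ∈ A, a ^ 4 = 1 := by
    rintro _ ⟨a, ha, rfl⟩
    have h : eOM ((⟨a, ha⟩ : Cfsg.pCore 2 M) ^ 4) = eOM 1 := by
      rw [map_pow, map_one]
      apply Multiplicative.toAdd.injective
      have h4 := (four (Multiplicative.toAdd (eOM ⟨a, ha⟩))).1
      rw [toAdd_pow, toAdd_one]
      exact h4
    exact congrArg (fun z : Cfsg.pCore 2 M => ((z : M) : G)) (eOM.injective h)
  have hVM : V ≤ M := hM ▸ le_normalizer
  have VA : V ≤ A := by
    have hn : (V.subgroupOf M).Normal := by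
      subst hM
      exact normal_in_normalizer
    have hp : IsPGroup 2 (V.subgroupOf M) :=
      IsPGroup.of_card (n := 3) (by rw [Nat.card_congr (subgroupOfEquivOfLe hVM).toEquiv, hVcard]; norm_num)
    intro v hv
    exact ⟨⟨v, hVM hv⟩, Core.le_pCore' hn hp (mem_subgroupOf.2 hv), rfl⟩
  have A_two : ∀ a ∈ A, a * a = 1 → a ∈ V := by
    intro a ha haa
    by_contra hn
    have hcnt : ∀ s : Finset (ZMod 4 × ZMod 4 × ZMod 4), (∀ z ∈ s, z + z = 0) → s.card ≤ 8 := by
      intro s hs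
      refine le_trans (Finset.card_le_card (t := Finset.univ.filter fun z => z + z = 0)
        fun z hz => Finset.mem_filter.2 ⟨Finset.mem_univ _, hs z hz⟩) (le_of_eq ?_)
      decide +kernel
    haveI : Fintype G := Fintype.ofFinite G
    let e : G → ZMod 4 × ZMod 4 × ZMod 4 := fun g =>
      if h : g ∈ A then Multiplicative.toAdd (eOM ⟨h.choose, h.choose_spec.1⟩) else 0
    have he : ∀ g, g ∈ A → ∃ z : Cfsg.pCore 2 M, ((z : M) : G) = g ∧ e g = Multiplicative.toAdd (eOM z) := fun g hg =>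
      ⟨⟨hg.choose, hg.choose_spec.1⟩, hg.choose_spec.2, by simp [e, dif_pos hg]⟩
    let S : Finset G := insert a (Finset.univ.filter fun g => g ∈ V)
    have hS : ∀ g ∈ S, g ∈ A ∧ g * g = 1 := by
      intro g hg
      rcases Finset.mem_insert.1 hg with rfl | hg
      · exact ⟨ha, haa⟩
      · exact ⟨VA (Finset.mem_filter.1 hg).2, V_sq g (Finset.mem_filter.1 hg).2⟩
    have h1 := hcnt (S.image e) (by
      intro z hz
      obtain ⟨g, hg, rfl⟩ := Finset.mem_image.1 hz
      obtain ⟨hgA, hg2⟩ := hS g hg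
      obtain ⟨z, hz, hez⟩ := he g hgA
      rw [hez, ← toAdd_mul, ← map_mul, show z * z = 1 from Subtype.ext (Subtype.ext (by
        show ((z : M) : G) * ((z : M) : G) = 1
        rw [hz, hg2])), map_one, toAdd_one])
    rw [Finset.card_image_of_injOn (by
        intro g hg g' hg' ee
        obtain ⟨z, hz, hez⟩ := he g (hS g hg).1
        obtain ⟨z', hz', hez'⟩ := he g' (hS g' hg').1
        rw [hez, hez'] at ee
        rw [← hz, ← hz', eOM.injective (Multiplicative.toAdd.injective ee)]),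
      Finset.card_insert_of_notMem (by simp [hn])] at h1
    have h2 : (Finset.univ.filter fun g => g ∈ V).card = 8 := by
      rw [← hVcard, Nat.card_eq_fintype_card, Fintype.card_subtype]
    omega
  have A_root : ∀ v ∈ V, ∃ a ∈ A, a * a = v := by
    intro v hv
    obtain ⟨a, ha, hav⟩ := VA hv
    have hh : (⟨a, ha⟩ : Cfsg.pCore 2 M) * ⟨a, ha⟩ = 1 := Subtype.ext (Subtype.ext (by
      show (a : G) * (a : G) = 1
      rw [show (a : G) = v from hav, V_sq v hv]))
    obtain ⟨y, hy⟩ := (four (Multiplicative.toAdd (eOM ⟨a, ha⟩))).2 (by rw [← toAdd_mul, ← map_mul, hh, map_one, toAdd_one])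
    refine ⟨_, ⟨_, (eOM.symm (Multiplicative.ofAdd y)).2, rfl⟩, ?_⟩
    have h := congrArg (fun z => ((eOM.symm (Multiplicative.ofAdd z) : M) : G)) hy
    simp only [ofAdd_add, map_mul, ofAdd_toAdd, eOM.symm_apply_apply] at h
    exact h.trans hav
  have cen_V : ∀ g ∈ M, (∀ v ∈ V, Commute g v) → g ∈ A := by
    let C : Subgroup M := (centralizer (V : Set G)).subgroupOf M
    have hCn : C.Normal := by
      refine ⟨fun z hz g => mem_subgroupOf.2 (mem_centralizer_iff.2 fun v hv => ?_)⟩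
      have hgn : (g : G) ∈ normalizer (V : Set G) := hM ▸ g.2
      have hv' : (g : G)⁻¹ * v * g ∈ V := by
        have := (mem_normalizer_iff.1 (inv_mem hgn) v).1 hv
        rwa [inv_inv] at this
      have hzc := mem_centralizer_iff.1 (mem_subgroupOf.1 hz) _ hv'
      show v * ((g : G) * z * (g : G)⁻¹) = (g : G) * z * (g : G)⁻¹ * v
      calc v * ((g : G) * z * (g : G)⁻¹) = g * (((g : G)⁻¹ * v * g) * z) * (g : G)⁻¹ := by group
        _ = g * (z * ((g : G)⁻¹ * v * g)) * (g : G)⁻¹ := by rw [hzc]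
        _ = (g : G) * z * (g : G)⁻¹ * v := by group
    haveI := hCn
    haveI := gl_three_two.1
    let φ : M →* GL (Fin 3) (ZMod 2) := eM.toMonoidHom.comp (QuotientGroup.mk' _)
    have hφ : Function.Surjective φ := eM.surjective.comp (QuotientGroup.mk'_surjective _)
    rcases (Subgroup.Normal.map hCn φ hφ).eq_bot_or_eq_top with h | h
    · intro g hg hgv
      have hgC : (⟨g, hg⟩ : M) ∈ C := mem_subgroupOf.2 (mem_centralizer_iff.2 fun v hv => (hgv v hv).eq.symm)
      have h1 : φ ⟨g, hg⟩ = 1 := (Subgroup.mem_bot).1 (h ▸ mem_map_of_mem φ hgC)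
      refine ⟨⟨g, hg⟩, ?_, rfl⟩
      have h2 : eM (QuotientGroup.mk (⟨g, hg⟩ : M)) = 1 := h1
      rwa [map_eq_one_iff _ eM.injective, QuotientGroup.eq_one_iff] at h2
    · exfalso
      have h7 : 7 ∣ Nat.card C := by
        refine dvd_trans ?_ (card_map_dvd C φ)
        rw [h, card_top, gl_three_two.2]; norm_num
      have hle : Nat.card C ∣ 7680 := by
        rw [← cardH]
        refine dvd_trans (dvd_of_eq (card_map_of_injective (subtype_injective M)).symm) (card_dvd_of_le ?_)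
        rintro _ ⟨z, hz, rfl⟩
        exact mem_centralizer_singleton_iff.2 ((mem_centralizer_iff.1 (mem_subgroupOf.1 hz)) t tV).symm
      exact absurd (h7.trans hle) (by norm_num)
  exact ⟨tne, tsq, cardH, R_le, R_norm, cardR, cy_le, cy_comm, cy_of, hCycard, sq, cm, quot, hVcard, V_sq,
    V_comm, hVR, tV, hM, cardM, A_le, A_norm, cardA, A_comm, A_four, VA, A_two, A_root, cen_V⟩

end Cfsg.Lib.HSType
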