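import Mathlib

/-!
# Coordinates for a commuting triple of elements of bounded exponent
-/

set_option autoImplicit false

namespace Cfsg.Lib.HSType

/-- Exponent vectors. -/
abbrev Pt (n : ℕ) := ZMod n × ZMod n × ZMod n

/-- A matrix by its three columns. -/
abbrev Mat (n : ℕ) := Pt n × Pt n × Pt n

/-- The action of a matrix. -/
def mv {n : ℕ} (M : Mat n) (p : Pt n) : Pt n :=
  (p.1 * M.1.1 + p.2.1 * M.2.1.1 + p.2.2 * M.2.2.1,
   p.1 * M.1.2.1 + p.2.1 * M.2.1.2.1 + p.2.2 * M.2.2.2.1,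
   p.1 * M.1.2.2 + p.2.1 * M.2.1.2.2 + p.2.2 * M.2.2.2.2)

/-- The product of matrices. -/
def mm {n : ℕ} (M N : Mat n) : Mat n := (mv M N.1, mv M N.2.1, mv M N.2.2)

/-- The identity matrix. -/
def one3 (n : ℕ) : Mat n := ((1, 0, 0), (0, 1, 0), (0, 0, 1))

variable {G : Type*} [Group G] {n : ℕ}

/-- A commuting triple of exponent dividing `n`. -/
structure Tri (n : ℕ) (a b c : G) : Prop where
  pa : a ^ n = 1
  pb : b ^ n = 1
  pc : c ^ n = 1
  ab : Commute a b
  ac : Commute a c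
  bc : Commute b c

/-- The element with given exponents. -/
def pt (a b c : G) (p : Pt n) : G := a ^ p.1.val * b ^ p.2.1.val * c ^ p.2.2.val

theorem pow_val_add [NeZero n] {a : G} (h : a ^ n = 1) (x y : ZMod n) :
    a ^ (x + y).val = a ^ x.val * a ^ y.val := by
  rw [ZMod.val_add, ← pow_add, pow_eq_pow_mod (x.val + y.val) h]

theorem pow_val_mul [NeZero n] {a : G} (h : a ^ n = 1) (x y : ZMod n) :
    a ^ (x * y).val = (a ^ y.val) ^ x.val := by
  rw [ZMod.val_mul, ← pow_mul, pow_eq_pow_mod (y.val * x.val) h, mul_comm]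

theorem pt_zero (a b c : G) [NeZero n] : pt a b c (0 : Pt n) = 1 := by simp [pt]

theorem pt_e0 (a b c : G) [Fact (1 < n)] : pt a b c ((1, 0, 0) : Pt n) = a := by
  simp [pt, ZMod.val_one n]

theorem pt_e1 (a b c : G) [Fact (1 < n)] : pt a b c ((0, 1, 0) : Pt n) = b := by
  simp [pt, ZMod.val_one n]

theorem pt_e2 (a b c : G) [Fact (1 < n)] : pt a b c ((0, 0, 1) : Pt n) = c := by
  simp [pt, ZMod.val_one n]

namespace Tri

variable [NeZero n] {a b c : G}

theorem add (h : Tri n a b c) (p q : Pt n) : pt a b c (p + q) = pt a b c p * pt a b c q := by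
  unfold pt
  rw [Prod.fst_add, Prod.snd_add, Prod.fst_add, Prod.snd_add, pow_val_add h.pa, pow_val_add h.pb,
    pow_val_add h.pc]
  rw [show a ^ p.1.val * b ^ p.2.1.val * c ^ p.2.2.val * (a ^ q.1.val * b ^ q.2.1.val * c ^ q.2.2.val)
      = a ^ p.1.val * ((b ^ p.2.1.val * c ^ p.2.2.val) * a ^ q.1.val) * b ^ q.2.1.val * c ^ q.2.2.val from by group,
    ((h.ab.symm.pow_pow _ _).mul_left (h.ac.symm.pow_pow _ _)).eq]
  rw [show a ^ p.1.val * (a ^ q.1.val * (b ^ p.2.1.val * c ^ p.2.2.val)) * b ^ q.2.1.val * c ^ q.2.2.val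
      = a ^ p.1.val * a ^ q.1.val * b ^ p.2.1.val * (c ^ p.2.2.val * b ^ q.2.1.val) * c ^ q.2.2.val from by group,
    (h.bc.symm.pow_pow _ _).eq]
  group

theorem comm (h : Tri n a b c) (p q : Pt n) : Commute (pt a b c p) (pt a b c q) := by
  show _ * _ = _ * _
  rw [← h.add, ← h.add, add_comm]

theorem pow (h : Tri n a b c) (p : Pt n) (x : ZMod n) :
    pt a b c (x * p.1, x * p.2.1, x * p.2.2) = pt a b c p ^ x.val := by
  unfold pt
  rw [pow_val_mul h.pa, pow_val_mul h.pb, pow_val_mul h.pc,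
    ((h.ac.pow_pow _ _).mul_left (h.bc.pow_pow _ _)).mul_pow, (h.ab.pow_pow _ _).mul_pow]

theorem sub (h : Tri n a b c) (p q : Pt n) : pt a b c (p - q) = pt a b c p * (pt a b c q)⁻¹ := by
  rw [eq_mul_inv_iff_mul_eq, ← h.add, sub_add_cancel]

theorem neg (h : Tri n a b c) (p : Pt n) : pt a b c (-p) = (pt a b c p)⁻¹ := by
  rw [eq_inv_iff_mul_eq_one, ← h.add, neg_add_cancel, pt_zero]

theorem injective (h : Tri n a b c) (h0 : ∀ p : Pt n, pt a b c p = 1 → p = 0) :
    Function.Injective (pt (n := n) a b c) := fun p q e =>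
  sub_eq_zero.1 (h0 _ (by rw [h.sub, e, mul_inv_cancel]))

/-- Conjugation acts by the matrix of the images. -/
theorem conj (h : Tri n a b c) {g : G} {M : Mat n} (h0 : g * a * g⁻¹ = pt a b c M.1)
    (h1 : g * b * g⁻¹ = pt a b c M.2.1) (h2 : g * c * g⁻¹ = pt a b c M.2.2) (p : Pt n) :
    g * pt a b c p * g⁻¹ = pt a b c (mv M p) := by
  have e : g * pt a b c p * g⁻¹
      = pt a b c M.1 ^ p.1.val * pt a b c M.2.1 ^ p.2.1.val * pt a b c M.2.2 ^ p.2.2.val := by
    rw [← h0, ← h1, ← h2, conj_pow, conj_pow, conj_pow]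
    simp only [pt]
    group
  rw [e, ← h.pow, ← h.pow, ← h.pow, ← h.add, ← h.add]
  rfl

end Tri

end Cfsg.Lib.HSType
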