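import Mathlib

/-!
# A subgroup with the full centraliser of an involution and two classes of involutions
-/

set_option autoImplicit false

namespace Cfsg.Lib.HSType

variable {G : Type*} [Group G] [Finite G]

/-- Two involutions are conjugate, or a central involution of what they generate links one to the other. -/
theorem dihedral_pair {a b : G} (ha : a * a = 1) (hb : b * b = 1) :
    (∃ k : ℕ, (a * b) ^ k * a * ((a * b) ^ k)⁻¹ = b) ∨
      ∃ z, z ≠ 1 ∧ z * z = 1 ∧ z * a = a * z ∧ z * b = b * z ∧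
        ∃ g : G, g * a * g⁻¹ = a * z ∨ g * b * g⁻¹ = a * z := by
  obtain ⟨r, hr⟩ : ∃ r, a * b = r := ⟨_, rfl⟩
  have ha' : a⁻¹ = a := inv_eq_of_mul_eq_one_right ha
  have hb' : b⁻¹ = b := inv_eq_of_mul_eq_one_right hb
  have hbr : b = a * r := by rw [← hr, ← mul_assoc, ha, one_mul]
  have key : ∀ k : ℕ, a * r ^ k = (r ^ k)⁻¹ * a := by
    intro k
    have e : a * r * a⁻¹ = r⁻¹ := by rw [← hr, mul_inv_rev, ha', hb', ← mul_assoc, ha, one_mul]
    rw [← inv_pow, ← e, conj_pow, inv_mul_cancel_right]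
  obtain ⟨k, hk⟩ := Nat.even_or_odd' (orderOf r)
  rcases hk with hk | hk
  · right
    have hkpos : 0 < k := by
      have := orderOf_pos r; omega
    have hne : r ^ k ≠ 1 := fun e => by
      have := Nat.le_of_dvd hkpos (orderOf_dvd_of_pow_eq_one e); omega
    have h2 : r ^ k * r ^ k = 1 := by rw [← pow_add, ← two_mul, ← hk, pow_orderOf_eq_one]
    have hinv : (r ^ k)⁻¹ = r ^ k := inv_eq_of_mul_eq_one_right h2
    have hza : r ^ k * a = a * r ^ k := by rw [key, hinv]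
    have hzr : r ^ k * r = r * r ^ k := (Commute.self_pow r k).eq.symm
    refine ⟨r ^ k, hne, h2, hza, ?_, ?_⟩
    · rw [hbr, ← mul_assoc, hza, mul_assoc, hzr, mul_assoc]
    · obtain ⟨m, hm⟩ := Nat.even_or_odd' k
      rcases hm with hm | hm
      · refine ⟨(r ^ m)⁻¹, Or.inl ?_⟩
        rw [inv_inv, ← key, mul_assoc, ← pow_add, ← two_mul, ← hm]
      · refine ⟨(r ^ m)⁻¹, Or.inr ?_⟩
        rw [inv_inv, hbr, show (r ^ m)⁻¹ * (a * r) * r ^ m = ((r ^ m)⁻¹ * a) * (r * r ^ m) by group, ← key,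
          ← pow_succ', mul_assoc, ← pow_add, hm, show m + (m + 1) = 2 * m + 1 by omega]
  · left
    rw [hr]
    refine ⟨k, ?_⟩
    have hpow : r ^ (2 * k + 1) = 1 := by rw [← hk, pow_orderOf_eq_one]
    have e : r ^ k * r ^ k = r⁻¹ := by
      rw [← pow_add, ← two_mul, eq_inv_iff_mul_eq_one, ← pow_succ, hpow]
    have key' : a * (r ^ k)⁻¹ = r ^ k * a := by
      have := congrArg (fun z => r ^ k * (z * (r ^ k)⁻¹)) (key k)
      simp [mul_assoc] at this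
      exact this.symm
    rw [mul_assoc, key', ← mul_assoc, e, hbr]
    have := key 1
    rw [pow_one] at this
    exact this.symm

/-- Such a subgroup is the whole group. -/
theorem top_of_classes {G0 : Subgroup G} {t u u2 : G} (tt : t * t = 1) (t1 : t ≠ 1)
    (htG : t ∈ G0) (hC : ∀ g, g * t = t * g → g ∈ G0) (huG : u ∈ G0) (uu : u * u = 1)
    (cls : ∀ z ∈ G0, z * z = 1 → z ≠ 1 → (∃ h ∈ G0, h * t * h⁻¹ = z) ∨ ∃ h ∈ G0, h * u * h⁻¹ = z)
    (notT : ∀ g, g * t * g⁻¹ ≠ u)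
    (prod : ∀ z, z * t = t * z → (∃ h ∈ G0, h * u * h⁻¹ = z) → ∀ g, g * t * g⁻¹ ≠ t * z)
    (hut : u * t = t * u) (hu2t : u2 * t = t * u2) (hu2 : ∃ h ∈ G0, h * u * h⁻¹ = u2)
    (nsplit : ∀ k, k * t = t * k → k * u * k⁻¹ ≠ u2) : G0 = ⊤ := by
  classical
  -- conjugates of `t` in the subgroup
  have inG : ∀ g, g * t * g⁻¹ ∈ G0 → ∃ h ∈ G0, h * t * h⁻¹ = g * t * g⁻¹ := by
    intro g hg
    have hsq : g * t * g⁻¹ * (g * t * g⁻¹) = 1 := by
      rw [show g * t * g⁻¹ * (g * t * g⁻¹) = g * (t * t) * g⁻¹ by group, tt]; group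
    rcases cls _ hg hsq (fun e => t1 (conj_eq_one_iff.1 e)) with h | ⟨h, -, e⟩
    · exact h
    · exact absurd (show h⁻¹ * g * t * (h⁻¹ * g)⁻¹ = u by
        rw [show h⁻¹ * g * t * (h⁻¹ * g)⁻¹ = h⁻¹ * (g * t * g⁻¹) * h by group, ← e]; group) (notT _)
  -- elements moving one of them onto another
  have move : ∀ a g, a ∈ G0 → (∃ h, h * t * h⁻¹ = a) → g * a * g⁻¹ ∈ G0 → g ∈ G0 := by
    rintro a g ha ⟨h, rfl⟩ hg
    obtain ⟨h1, hh1, e1⟩ := inG h ha
    obtain ⟨h2, hh2, e2⟩ := inG (g * h) (by rwa [show g * h * t * (g * h)⁻¹ = g * (h * t * h⁻¹) * g⁻¹ by group])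
    have hc : h2⁻¹ * g * h1 * t = t * (h2⁻¹ * g * h1) := by
      rw [← mul_inv_eq_iff_eq_mul, show h2⁻¹ * g * h1 * t * (h2⁻¹ * g * h1)⁻¹
        = h2⁻¹ * (g * (h1 * t * h1⁻¹) * g⁻¹) * h2 by group, e1,
        show g * (h * t * h⁻¹) * g⁻¹ = g * h * t * (g * h)⁻¹ by group, ← e2]
      group
    have := mul_mem (mul_mem hh2 (hC _ hc)) (inv_mem hh1)
    rwa [show h2 * (h2⁻¹ * g * h1) * h1⁻¹ = g by group] at this
  have cent : ∀ a, a ∈ G0 → (∃ h, h * t * h⁻¹ = a) → ∀ g, g * a = a * g → g ∈ G0 := fun a ha h g e =>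
    move a g ha h (by rwa [e, mul_inv_cancel_right])
  -- conjugates of `t` commuting with `u`
  have inC : ∀ g, g * t * g⁻¹ * u = u * (g * t * g⁻¹) → g * t * g⁻¹ ∈ G0 := by
    intro g hgu
    by_contra hb
    obtain ⟨w, hw, hwu⟩ := hu2
    obtain ⟨b, hbdef⟩ : ∃ b, g * t * g⁻¹ = b := ⟨_, rfl⟩
    rw [hbdef] at hgu hb
    have bb : b * b = 1 := by
      rw [← hbdef, show g * t * g⁻¹ * (g * t * g⁻¹) = g * (t * t) * g⁻¹ by group, tt]; group
    have link : ∀ a, a ∈ G0 → (∃ h, h * t * h⁻¹ = a) → a * u = u * a →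
        ∃ m, m * u = u * m ∧ m * a * m⁻¹ = b := by
      rintro a haG ⟨h, rfl⟩ hau
      obtain ⟨a, hadef⟩ : ∃ a, h * t * h⁻¹ = a := ⟨_, rfl⟩
      rw [hadef] at haG hau ⊢
      have aa : a * a = 1 := by
        rw [← hadef, show h * t * h⁻¹ * (h * t * h⁻¹) = h * (t * t) * h⁻¹ by group, tt]; group
      rcases dihedral_pair aa bb with ⟨k, hk⟩ | ⟨z, hz1, hz2, hza, hzb, f, hf⟩
      · exact ⟨_, ((Commute.mul_left hau hgu).pow_left k).eq, hk⟩
      exfalso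
      have hzG : z ∈ G0 := cent a haG ⟨h, hadef⟩ z hza
      by_cases hzT : ∃ q, q * t * q⁻¹ = z
      · exact hb (cent z hzG hzT b hzb.symm)
      obtain ⟨h', hh', e'⟩ := inG h (hadef ▸ haG)
      rw [hadef] at e'
      have hzt : h'⁻¹ * z * h' * t = t * (h'⁻¹ * z * h') := by
        have et : t = h'⁻¹ * a * h' := by rw [← e']; group
        rw [et]
        calc h'⁻¹ * z * h' * (h'⁻¹ * a * h') = h'⁻¹ * (z * a) * h' := by group
          _ = h'⁻¹ * (a * z) * h' := by rw [hza]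
          _ = h'⁻¹ * a * h' * (h'⁻¹ * z * h') := by group
      have hzu : ∃ q ∈ G0, q * u * q⁻¹ = h'⁻¹ * z * h' := by
        rcases cls z hzG hz2 hz1 with ⟨q, -, e⟩ | ⟨q, hq, e⟩
        · exact absurd ⟨q, e⟩ hzT
        · refine ⟨h'⁻¹ * q, mul_mem (inv_mem hh') hq, ?_⟩
          rw [← e]; group
      have hazT : ∃ q, q * t * q⁻¹ = a * z := by
        rcases hf with hf | hf
        · exact ⟨f * h, by rw [← hf, ← hadef]; group⟩
        · exact ⟨f * g, by rw [← hf, ← hbdef]; group⟩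
      obtain ⟨q, hq⟩ := hazT
      refine prod _ hzt hzu (h'⁻¹ * q) ?_
      rw [show h'⁻¹ * q * t * (h'⁻¹ * q)⁻¹ = h'⁻¹ * (q * t * q⁻¹) * h' by group, hq, ← e']
      group
    obtain ⟨m1, hm1, e1⟩ := link t htG ⟨1, by group⟩ hut.symm
    obtain ⟨m2, hm2, e2⟩ := link (w⁻¹ * t * w) (mul_mem (mul_mem (inv_mem hw) htG) hw) ⟨w⁻¹, by group⟩ (by
      have eu : u = w⁻¹ * u2 * w := by rw [← hwu]; group
      rw [eu]
      calc w⁻¹ * t * w * (w⁻¹ * u2 * w) = w⁻¹ * (t * u2) * w := by group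
        _ = w⁻¹ * (u2 * t) * w := by rw [hu2t]
        _ = w⁻¹ * u2 * w * (w⁻¹ * t * w) := by group)
    have hk : (w * (m2⁻¹ * m1)) * t = t * (w * (m2⁻¹ * m1)) := by
      rw [← mul_inv_eq_iff_eq_mul, show w * (m2⁻¹ * m1) * t * (w * (m2⁻¹ * m1))⁻¹
        = w * (m2⁻¹ * (m1 * t * m1⁻¹) * m2) * w⁻¹ by group, e1, ← e2]
      group
    refine nsplit _ hk ?_
    have hm : Commute (m2⁻¹ * m1) u := (Commute.inv_left hm2).mul_left hm1
    rw [show w * (m2⁻¹ * m1) * u * (w * (m2⁻¹ * m1))⁻¹ = w * ((m2⁻¹ * m1) * u * (m2⁻¹ * m1)⁻¹) * w⁻¹ by group,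
      hm.eq, mul_inv_cancel_right, hwu]
  -- the centraliser of `u`
  have hCu : ∀ g, g * u = u * g → g ∈ G0 := by
    intro g hg
    refine move t g htG ⟨1, by group⟩ (inC g ?_)
    calc g * t * g⁻¹ * u = g * t * (g⁻¹ * u) := by group
      _ = g * t * (u * g⁻¹) := by rw [(Commute.inv_left (show Commute g u from hg)).eq]
      _ = g * (t * u) * g⁻¹ := by group
      _ = g * (u * t) * g⁻¹ := by rw [hut]
      _ = g * u * (t * g⁻¹) := by group
      _ = u * g * (t * g⁻¹) := by rw [hg]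
      _ = u * (g * t * g⁻¹) := by group
  have cenU : ∀ z, z ∈ G0 → (∃ h ∈ G0, h * u * h⁻¹ = z) → ∀ g, g * z = z * g → g ∈ G0 := by
    rintro z - ⟨h, hh, rfl⟩ g hg
    have hc : h⁻¹ * g * h * u = u * (h⁻¹ * g * h) := by
      calc h⁻¹ * g * h * u = h⁻¹ * (g * (h * u * h⁻¹)) * h := by group
        _ = h⁻¹ * (h * u * h⁻¹ * g) * h := by rw [hg]
        _ = u * (h⁻¹ * g * h) := by group
    have := mul_mem (mul_mem hh (hCu _ hc)) (inv_mem hh)
    rwa [show h * (h⁻¹ * g * h) * h⁻¹ = g by group] at this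
  -- every conjugate of `t` lies in the subgroup
  have hall : ∀ g, g * t * g⁻¹ ∈ G0 := by
    intro g
    by_contra hb
    have bb : g * t * g⁻¹ * (g * t * g⁻¹) = 1 := by
      rw [show g * t * g⁻¹ * (g * t * g⁻¹) = g * (t * t) * g⁻¹ by group, tt]; group
    rcases dihedral_pair uu bb with ⟨k, hk⟩ | ⟨z, hz1, hz2, hzu, hzb, -⟩
    · refine notT (((u * (g * t * g⁻¹)) ^ k)⁻¹ * g) ?_
      calc ((u * (g * t * g⁻¹)) ^ k)⁻¹ * g * t * (((u * (g * t * g⁻¹)) ^ k)⁻¹ * g)⁻¹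
          = ((u * (g * t * g⁻¹)) ^ k)⁻¹ * (g * t * g⁻¹) * (u * (g * t * g⁻¹)) ^ k := by group
        _ = ((u * (g * t * g⁻¹)) ^ k)⁻¹ * ((u * (g * t * g⁻¹)) ^ k * u * ((u * (g * t * g⁻¹)) ^ k)⁻¹) *
            (u * (g * t * g⁻¹)) ^ k := by rw [hk]
        _ = u := by group
    have hzG : z ∈ G0 := hCu z hzu
    rcases cls z hzG hz2 hz1 with ⟨h, -, e⟩ | hzU
    · exact hb (cent z hzG ⟨h, e⟩ _ hzb.symm)
    · exact hb (cenU z hzG hzU _ hzb.symm)
  exact eq_top_iff.2 fun g _ => move t g htG ⟨1, by group⟩ (hall g)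

end Cfsg.Lib.HSType
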