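import Cfsg.Agent.Lib.HSType.EModel
import Cfsg.Agent.Lib.HSType.CountData

/-!
# Checks on the involutions
-/

set_option autoImplicit false
set_option maxRecDepth 100000

namespace Cfsg.Lib.HSType

open Cfsg.Lib.J3Type

/-- The representative of a class. -/
def invBase (k : ℕ) : List ℕ := bif Nat.beq k 0 then [0, 0] else uZero

/-- An involution as a conjugate of its representative. -/
def invWord (n : ℕ) : List ℕ :=
  (invWit.getD n (0, [])).2 ++ (invBase (invWit.getD n (0, [])).1 ++ invW (invWit.getD n (0, [])).2)

/-- The involutions are all listed and the second class representative is not moved to the other one. -/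
noncomputable def classOK : Bool :=
  (List.range 24).all fun b =>
    let row := invIdx.getD b []
    (List.range 4).all fun i => (List.range 4).all fun j => (List.range 4).all fun k => (List.range 5).all fun u =>
      let w := hWord b i j k u
      let n := row.getD (Nat.add (Nat.mul (Nat.add (Nat.mul (Nat.add (Nat.mul i 4) j) 4) k) 5) u) 999
      (not (evB (w ++ w)) || evB w || (Nat.blt n 311 && eqB w (invWord n))) &&
        not (eqB (w ++ uZero) (uTwo ++ w))

theorem classB : classOK = true := by decide +kernel

theorem prodB : ((List.range 311).all fun n =>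
    (invWord n).all (fun l => Nat.blt (Nat.div l 2) 8 && Nat.blt l 22) &&
      (Nat.beq (invWit.getD n (0, [])).1 0 ||
        (Nat.blt (invProd.getD n 0) 311 && not (Nat.beq (invWit.getD (invProd.getD n 0) (0, [])).1 0) &&
          eqB ([0, 0] ++ invWord n) (invWord (invProd.getD n 0))))) = true := by
  decide +kernel

theorem repB : evB (uZero ++ uZero) = true ∧ evB uZero = false ∧ eqB (uZero ++ [0, 0]) ([0, 0] ++ uZero) = true ∧
    eqB (uTwo ++ [0, 0]) ([0, 0] ++ uTwo) = true ∧
    eqB (uTwoConj ++ (uZero ++ invW uTwoConj)) uTwo = true ∧
    eqB (threeA ++ uZero) (uZero ++ threeA) = true ∧ eqB (threeB ++ uZero) (uZero ++ threeB) = true ∧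
    eqB (threeA ++ threeB) (threeB ++ threeA) = true ∧
    evB (threeA ++ threeA ++ threeA) = true ∧ evB (threeB ++ threeB ++ threeB) = true ∧
    (List.range 3).all (fun i => (List.range 3).all fun j =>
      (Nat.beq i 0 && Nat.beq j 0) ||
        not (evB ((List.replicate i threeA).flatten ++ (List.replicate j threeB).flatten))) = true := by
  decide +kernel

end Cfsg.Lib.HSType
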