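import Cfsg.Agent.Lib.HSType.DStep

/-!
# The action of the involution on `R`
-/

set_option autoImplicit false
set_option linter.style.haveILetI false
set_option linter.unusedSectionVars false
set_option maxRecDepth 100000
set_option maxHeartbeats 1000000

namespace Cfsg.Lib.HSType

open Subgroup Cfsg.Lib.J3Type
open scoped commutatorElement

variable {G : Type*} [Group G] [Finite G] {t c y s x d : G} {R Cy V A M : Subgroup G}

/-- What is checked by computation about a shape of `R`. -/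
structure ShapeOK (Z : RTab) : Prop where
  form : Z.formOK = true
  cen : cenOK Z = true
  conj : Z.conjOK = true
  n1 : notInR Z [2] = true
  n2 : notInR Z [3, 4] = true
  fix : ((List.range 64).all fun n => not (Nat.beq (tget Z.sy n) n) || Nat.beq (Nat.mod n 16) 0) = true
  gens : Z.gens = [Z.word 16, Z.word 8, Z.word 4, Z.word 2, Z.word 1]
  w48 : Z.word 48 = [0, 0, 0]
  sy8 : tget Z.sy 8 = 4
  sy2 : tget Z.sy 2 = 1
  sq8 : Z.rmul 8 8 = 0
  w32 : Z.word 32 = [0, 0]
  w16 : Z.word 16 = [0]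

theorem shapeOK {Z : RTab} (h : Z ∈ [rTabA, rTabB]) : ShapeOK Z := by
  simp only [List.mem_cons, List.not_mem_nil, or_false] at h
  rcases h with rfl | rfl
  · obtain ⟨a, b, c, d, e, f, g⟩ := genA
    exact ⟨formA, cenA.1, conjA_ok, notA.1, notA.2.1, fixA.1, a, b, c, d, e, f, g⟩
  · obtain ⟨a, b, c, d, e, f, g⟩ := genB
    exact ⟨formB, cenA.2, conjB_ok, notA.2.2.1, notA.2.2.2, fixA.2, a, b, c, d, e, f, g⟩

namespace MPre

variable (h : MPre t c y s x A M) (L : Loc t R Cy V A M)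
include h L

theorem wThree_t : wThree c s x * t = t * wThree c s x := by
  have h1 := h.c1H L
  have h2 := h.s_comm_t L
  rw [wThree]
  exact ((Commute.mul_left h1 h2).mul_left (Commute.inv_left h1)).eq

theorem commute_c_R {Z : RTab} (hS : RSem c y s x R Z) : ∀ u ∈ R, Commute c u := by
  intro u hu
  obtain ⟨n, hn, rfl⟩ := hS.cover (1 : G) u hu
  exact h.c_central L hS (shapeOK hS.shape).form hn

theorem cands {Z : RTab} (hS : RSem c y s x R Z) (hd : DPre t c y s x d R) :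
    ∃ P Q, P < 64 ∧ Q < 64 ∧ Z.candOK P Q = true ∧
      d * wval (lets c y s x d) (Z.word 8) * d⁻¹ = wval (lets c y s x d) (Z.word P) ∧
      d * wval (lets c y s x d) (Z.word 2) * d⁻¹ = wval (lets c y s x d) (Z.word Q) ∧
      ∀ n, n < 64 → Z.fImg P Q n < 64 ∧
        d * wThree c s x * wval (lets c y s x d) (Z.word n) * (d * wThree c s x)⁻¹ =
          wval (lets c y s x d) (Z.word (Z.fImg P Q n)) := by
  classical
  have O := shapeOK hS.shape
  obtain ⟨U, hU⟩ : ∃ U : ℕ → G, ∀ n, U n = wval (lets c y s x d) (Z.word n) := ⟨_, fun _ => rfl⟩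
  have umul := fun m n hm hn => hS.mul d m n hm hn
  have usy := fun n hn => hS.conjy d n hn
  have us3 := fun n hn => hS.conjs3 d n hn
  have uinj := hS.inj d
  have umem := hS.mem d
  simp only [← hU] at umul usy us3 uinj umem ⊢
  have hnorm : ∀ u ∈ R, d * u * d⁻¹ ∈ R := L.R_norm d hd.dt
  obtain ⟨P, hP, eP⟩ := hS.cover d _ (hnorm _ (umem 8 (by norm_num)))
  obtain ⟨Q, hQ, eQ⟩ := hS.cover d _ (hnorm _ (umem 2 (by norm_num)))
  rw [← hU] at eP eQ
  have ug : ∀ n, U n = U 16 ^ digit n 0 * (U 8 ^ digit n 1 * (U 4 ^ digit n 2 * (U 2 ^ digit n 3 * U 1 ^ digit n 4))) := by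
    intro n
    simp only [hU]
    conv_lhs => unfold RTab.word
    simp only [wval_append, wval_repW, O.gens, List.getD_cons_zero, List.getD_cons_succ]
  have u0 : U 0 = 1 := by rw [hU]; rfl
  have u16 : U 16 = c := by rw [hU, O.w16]; simp [wval, lval, lets, idL]
  have u32 : U 32 = t := by rw [hU, O.w32, ← h.csq]; simp [wval, lval, lets, idL]
  have u48 : U 48 = c⁻¹ := by
    rw [hU, O.w48, eq_inv_iff_mul_eq_one, ← h.core.tri.pa]; simp [wval, lval, lets, idL, pow_succ, mul_assoc]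
  have rp : ∀ P, P < 64 → ∀ k m, m < 64 → Z.rpow P k m < 64 ∧ U (Z.rpow P k m) = U m * U P ^ k := by
    intro P hP k
    induction k with
    | zero => exact fun m hm => ⟨hm, by simp [RTab.rpow]⟩
    | succ k ih =>
      intro m hm
      obtain ⟨a, b⟩ := umul m P hm hP
      obtain ⟨a', b'⟩ := ih _ a
      exact ⟨a', by rw [RTab.rpow, b', ← b, pow_succ', mul_assoc]⟩
  obtain ⟨hsP, esP⟩ := usy P hP
  obtain ⟨hsQ, esQ⟩ := usy Q hQ
  have dyy : ∀ u, y * (d * u * d⁻¹) * y⁻¹ = d * (y * u * y⁻¹) * d⁻¹ := by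
    intro u
    rw [show y * (d * u * d⁻¹) * y⁻¹ = (y * d) * u * (y * d)⁻¹ by group, ← hd.dy]; group
  have e4 : d * U 4 * d⁻¹ = U (tget Z.sy P) := by
    rw [← esP, eP, dyy, (usy 8 (by norm_num)).2, O.sy8]
  have e1 : d * U 1 * d⁻¹ = U (tget Z.sy Q) := by
    rw [← esQ, eQ, dyy, (usy 2 (by norm_num)).2, O.sy2]
  have dI : ∀ n, n < 64 → Z.dImg P Q n < 64 ∧ d * U n * d⁻¹ = U (Z.dImg P Q n) := by
    intro n _
    obtain ⟨a0, b0⟩ := rp 48 (by norm_num) (digit n 0) 0 (by norm_num)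
    obtain ⟨a1, b1⟩ := rp P hP (digit n 1) _ a0
    obtain ⟨a2, b2⟩ := rp _ hsP (digit n 2) _ a1
    obtain ⟨a3, b3⟩ := rp Q hQ (digit n 3) _ a2
    obtain ⟨a4, b4⟩ := rp _ hsQ (digit n 4) _ a3
    refine ⟨a4, ?_⟩
    rw [RTab.dImg, b4, b3, b2, b1, b0, u0, u48, eP, eQ, ← e4, ← e1]
    conv_lhs => rw [ug n, u16]
    rw [← hd.dc, conj_pow, conj_pow, conj_pow, conj_pow, conj_pow]
    group
  have fI : ∀ n, n < 64 → Z.fImg P Q n < 64 ∧
      d * wThree c s x * U n * (d * wThree c s x)⁻¹ = U (Z.fImg P Q n) := by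
    intro n hn
    obtain ⟨a, b⟩ := us3 n hn
    obtain ⟨a', b'⟩ := dI _ a
    refine ⟨a', ?_⟩
    rw [RTab.fImg, ← b', ← b, wThree]; group
  have hcR := h.commute_c_R L hS
  have dd : ∀ u ∈ R, d * d * u * (d * d)⁻¹ = u := by
    intro u hu
    obtain ⟨i, -, hi⟩ := h.R_fix L hS O.form O.fix hd.d2
      (by rw [mul_assoc, hd.dy, ← mul_assoc, hd.dy, mul_assoc])
    rw [hi, ((hcR u hu).pow_left i).eq, mul_inv_cancel_right]
  have d2c : ∀ n, n < 64 → Z.dImg P Q (Z.dImg P Q n) = n := by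
    intro n hn
    obtain ⟨a, b⟩ := dI n hn
    obtain ⟨a', b'⟩ := dI _ a
    refine uinj _ _ a' hn ?_
    rw [← b', ← b, show d * (d * U n * d⁻¹) * d⁻¹ = d * d * U n * (d * d)⁻¹ by group, dd _ (umem n hn)]
  have ydc : ∀ n, n < 64 → Z.dImg P Q (tget Z.sy n) = tget Z.sy (Z.dImg P Q n) := by
    intro n hn
    obtain ⟨a, b⟩ := usy n hn
    obtain ⟨a', b'⟩ := dI _ a
    obtain ⟨p, q⟩ := dI n hn
    obtain ⟨p', q'⟩ := usy _ p
    refine uinj _ _ a' p' ?_
    rw [← b', ← b, ← q', ← q, dyy]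
  have eP8 : Z.dImg P Q 8 = P := uinj _ _ (dI 8 (by norm_num)).1 hP (by rw [← (dI 8 (by norm_num)).2, eP])
  have eQ2 : Z.dImg P Q 2 = Q := uinj _ _ (dI 2 (by norm_num)).1 hQ (by rw [← (dI 2 (by norm_num)).2, eQ])
  have hPP : Z.rmul P P = 0 := by
    obtain ⟨a, b⟩ := umul P P hP hP
    obtain ⟨a', b'⟩ := umul 8 8 (by norm_num) (by norm_num)
    refine uinj _ _ a (by norm_num) ?_
    rw [u0, ← b, eP, show d * U 8 * d⁻¹ * (d * U 8 * d⁻¹) = d * (U 8 * U 8) * d⁻¹ by group, b', O.sq8, u0]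
    group
  have cube : ∀ n, n < 64 → Z.fImg P Q (Z.fImg P Q (Z.fImg P Q n)) = n ∨
      Z.fImg P Q (Z.fImg P Q (Z.fImg P Q n)) = Z.rmul 32 n := by
    intro n hn
    obtain ⟨a, b⟩ := fI n hn
    obtain ⟨a', b'⟩ := fI _ a
    obtain ⟨a'', b''⟩ := fI _ a'
    obtain ⟨am, bm⟩ := umul 32 n (by norm_num) hn
    set g := d * wThree c s x with hg
    have e : U (Z.fImg P Q (Z.fImg P Q (Z.fImg P Q n))) = ⁅g * g * g, U n⁆ * U n := by
      rw [← b'', ← b', ← b, commutatorElement_def]; group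
    rcases L.cm _ hd.d3 _ (umem n hn) with q | q
    · left; exact uinj _ _ a'' hn (by rw [e, q, one_mul])
    · right; exact uinj _ _ a'' am (by rw [e, q, ← bm, u32])
  refine ⟨P, Q, hP, hQ, ?_, eP.symm, eQ.symm, fI⟩
  have c1 := d2c 8 (by norm_num)
  have c2 := d2c 2 (by norm_num)
  rw [eP8] at c1
  rw [eQ2] at c2
  simp only [RTab.candOK, Bool.and_eq_true, List.all_cons, List.all_nil, Bool.or_eq_true, Nat.beq_eq, and_true]
  exact ⟨hPP, c1, c2, ydc 4 (by norm_num), ydc 1 (by norm_num), cube 8 (by norm_num), cube 2 (by norm_num)⟩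

/-- Only the first shape occurs, with two possible actions. -/
theorem cands_A {Z : RTab} (hS : RSem c y s x R Z) (hd : DPre t c y s x d R) :
    RSem c y s x R rTabA ∧ ∃ P Q, ((P = 42 ∧ Q = 2) ∨ (P = 2 ∧ Q = 8)) ∧
      d * wval (lets c y s x d) (rTabA.word 8) * d⁻¹ = wval (lets c y s x d) (rTabA.word P) ∧
      d * wval (lets c y s x d) (rTabA.word 2) * d⁻¹ = wval (lets c y s x d) (rTabA.word Q) ∧
      ∀ n, n < 64 → rTabA.fImg P Q n < 64 ∧
        d * wThree c s x * wval (lets c y s x d) (rTabA.word n) * (d * wThree c s x)⁻¹ =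
          wval (lets c y s x d) (rTabA.word (rTabA.fImg P Q n)) := by
  obtain ⟨P, Q, hP, hQ, hc, a, b, f⟩ := h.cands L hS hd
  rcases (by simpa using hS.shape : Z = rTabA ∨ Z = rTabB) with rfl | rfl
  · refine ⟨hS, P, Q, ?_, a, b, f⟩
    have := List.all_eq_true.1 (List.all_eq_true.1 candA P (List.mem_range.2 hP)) Q (List.mem_range.2 hQ)
    simp [hc] at this
    exact this
  · have := List.all_eq_true.1 (List.all_eq_true.1 candB P (List.mem_range.2 hP)) Q (List.mem_range.2 hQ)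
    simp [hc] at this

theorem shift_pre : MPre t c y (s * t) x A M := by
  have hst := h.s_comm_t L
  have hyt := h.y_comm_t L
  have tA := L.VA L.tV
  have conjeq : ∀ u ∈ A, s * t * u * (s * t)⁻¹ = s * u * s⁻¹ := by
    intro u hu
    rw [show s * t * u * (s * t)⁻¹ = s * (t * u * t⁻¹) * s⁻¹ by group, (L.A_comm _ tA _ hu).eq, mul_inv_cancel_right]
  have c1A : cOne c x ∈ A := L.conj_A h.xM h.cA
  have c2A : cTwo c x ∈ A := L.conj_A h.xM c1A
  have sq : s * t * (s * t) = 1 := by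
    rw [show s * t * (s * t) = s * (t * s) * t by group, ← hst, ← mul_assoc, mul_assoc (s * s), L.tsq, h.sq_one L, mul_one]
  have cube : s * t * x * (s * t * x) * (s * t * x) = 1 := by
    have := h.eq_of_eqB L (1 : G) (w := [8, 0, 0, 14, 8, 0, 0, 14, 8, 0, 0, 14]) (w' := []) (by decide) (by simp)
      (by decide +kernel)
    simpa [wval, lval, lets, idL, ← h.csq, mul_assoc] using this
  exact
    { core :=
        { tri := h.core.tri, x7 := h.core.x7, y3 := h.core.y3, yx := h.core.yx, xc := h.core.xc, yc := h.core.yc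
          yc1 := h.core.yc1, yc2 := h.core.yc2
          sy := by
            rw [show s * t * y * (s * t)⁻¹ * y = s * (t * y * t⁻¹) * s⁻¹ * y by group, ← hyt, mul_inv_cancel_right]
            exact h.core.sy
          sc := by rw [conjeq _ h.cA]; exact h.core.sc
          sc1 := by rw [conjeq _ c1A]; exact h.core.sc1
          sc2 := by rw [conjeq _ c2A]; exact h.core.sc2 }
      cA := h.cA, csq := h.csq, xM := h.xM, yM := h.yM
      sM := mul_mem h.sM (L.A_le tA)
      ax2 := h.ax2, ay2 := h.ay2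
      as2 := ⟨by rw [conjeq _ tA]; exact h.as2.e0, by rw [conjeq _ (mul_mem c1A c1A)]; exact h.as2.e1,
        by rw [conjeq _ (mul_mem c2A c2A)]; exact h.as2.e2⟩
      sur := h.sur, inj := h.inj, ax := h.ax, ay := h.ay
      as4 := ⟨by rw [conjeq _ h.cA]; exact h.as4.e0, by rw [conjeq _ c1A]; exact h.as4.e1,
        by rw [conjeq _ c2A]; exact h.as4.e2⟩
      sq := Or.inl sq, cube := Or.inl cube }

theorem shift_dpre (hd : DPre t c y s x d R) : DPre t c y (s * t) x d R := by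
  have ht : t ∈ R := L.V_le L.tV
  have hct : Commute t (cOne c x) := (h.c1H L).symm
  have hw : wThree c (s * t) x = wThree c s x * t := by
    simp only [wThree]
    rw [mul_assoc (cOne c x * s) (cOne c x)⁻¹ t, ← (hct.inv_right).eq]; group
  refine ⟨hd.dt, hd.dy, hd.d2, ?_, ?_, hd.dc, ?_⟩
  · have hk : Commute (d * s) t := (Commute.mul_left hd.dt (h.s_comm_t L))
    rw [show d * (s * t) * (d * (s * t)) = d * s * (t * (d * s)) * t by group, ← hk.eq,
      show d * s * (d * s * t) * t = d * s * (d * s) * (t * t) by group, L.tsq, mul_one]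
    exact hd.ds
  · rw [hw, ← mul_assoc d (wThree c s x) t]
    set g := d * wThree c s x
    have hk : Commute g t := Commute.mul_left hd.dt (h.wThree_t L)
    rw [show g * t * (g * t) * (g * t) = g * (t * g) * (t * g) * t by group, ← hk.eq,
      show g * (g * t) * (g * t) * t = g * g * (t * g) * (t * t) by group, L.tsq, mul_one, ← hk.eq, ← mul_assoc]
    exact mul_mem hd.d3 ht
  · intro H0 hR hy hs hc hdd
    refine hd.gen H0 hR hy ?_ hc hdd
    have := mul_mem hs (inv_mem (hR ht))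
    rwa [mul_inv_cancel_right] at this

/-- A choice of `s` and `d` for which `d` acts on `R` in the standard way. -/
theorem exists_std : ∃ s' d : G, MPre t c y s' x A M ∧ RSem c y s' x R rTabA ∧ DPre t c y s' x d R ∧
    d * (cOne c x * cOne c x) * d⁻¹ = t * (cOne c x * cOne c x) * wEl s' x ∧
    d * wEl s' x * d⁻¹ = wEl s' x ∧
    ∀ n, n < 64 → rTabA.fImg 42 2 n < 64 ∧
      d * wThree c s' x * wval (lets c y s' x d) (rTabA.word n) * (d * wThree c s' x)⁻¹ =
        wval (lets c y s' x d) (rTabA.word (rTabA.fImg 42 2 n)) := by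
  have words : ∀ (s' d' : G), MPre t c y s' x A M →
      wval (lets c y s' x d') (rTabA.word 8) = cOne c x * cOne c x ∧
      wval (lets c y s' x d') (rTabA.word 2) = wEl s' x ∧
      wval (lets c y s' x d') (rTabA.word 42) = t * (cOne c x * cOne c x) * wEl s' x := by
    intro s' d' h'
    have e8 : rTabA.word 8 = [2, 2] := by decide +kernel
    have e2 : rTabA.word 2 = [10] := by decide +kernel
    have e42 : rTabA.word 42 = [0, 0, 2, 2, 10] := by decide +kernel
    rw [e8, e2, e42, ← h'.csq]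
    simp [wval, lval, lets, idL, mul_assoc]
  have hex : ∃ d, DPre t c y s x d R ∧ ∃ Z, RSem c y s x R Z := by
    rcases h.exists_rsem L with hS | hS
    all_goals
      have O := shapeOK hS.shape
      obtain ⟨d, hd⟩ := h.exists_dpre L hS O.form O.conj O.cen O.n1 O.n2
      exact ⟨d, hd, _, hS⟩
  obtain ⟨d, hd, Z, hS⟩ := hex
  obtain ⟨hA, P, Q, hPQ, eP, eQ, fI⟩ := h.cands_A L hS hd
  obtain ⟨w8, w2, w42⟩ := words s d h
  rcases hPQ with ⟨rfl, rfl⟩ | ⟨rfl, rfl⟩
  · rw [w8, w42] at eP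
    rw [w2] at eQ
    exact ⟨s, d, h, hA, hd, eP, eQ, fI⟩
  rw [w8, w2] at eP eQ
  have h' := h.shift_pre L
  have hd' := h.shift_dpre L hd
  obtain ⟨Z', hS'⟩ : ∃ Z, RSem c y (s * t) x R Z :=
    (h'.exists_rsem L).elim (fun q => ⟨_, q⟩) (fun q => ⟨_, q⟩)
  obtain ⟨hA', P, Q, hPQ, eP', eQ', fI'⟩ := h'.cands_A L hS' hd'
  obtain ⟨w8', w2', w42'⟩ := words (s * t) d h'
  have hw' : wEl (s * t) x = wEl s x * t * (cOne c x * cOne c x) := by
    have e := h.eq_of_eqB L (1 : G) (w := [14, 14, 14, 0, 0, 15, 15, 15]) (w' := [0, 0, 2, 2]) (by decide) (by decide)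
      (by decide +kernel)
    have e' : x * x * x * t * (x * x * x)⁻¹ = t * (cOne c x * cOne c x) := by
      simpa [wval, lval, lets, idL, ← h.csq, mul_assoc] using e
    rw [wEl, wEl, show x * x * x * (s * t) * (x * x * x)⁻¹
      = x * x * x * s * (x * x * x)⁻¹ * (x * x * x * t * (x * x * x)⁻¹) by group, e', ← mul_assoc]
  rcases hPQ with ⟨rfl, rfl⟩ | ⟨rfl, rfl⟩
  · rw [w8', w42'] at eP'
    rw [w2'] at eQ'
    exact ⟨s * t, d, h', hA', hd', eP', eQ', fI'⟩
  exfalso
  rw [w8', w2'] at eQ'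
  set v := cOne c x * cOne c x
  have htv : t * v = v * t := (L.V_comm _ L.tV _ (h.v1_mem L)).eq
  have hwt : wEl s x * t = t * wEl s x := mem_centralizer_singleton_iff.1
    (L.R_le (w2 ▸ hA.mem d 2 (by norm_num)))
  have hwv : wEl s x * v = v * wEl s x := by
    have e := h.eq_of_eqB L (1 : G) (w := [10, 2, 2]) (w' := [2, 2, 10]) (by decide) (by decide) (by decide +kernel)
    simpa [wval, lval, lets, idL, v, mul_assoc] using e
  have e1 : d * wEl (s * t) x * d⁻¹ = wEl (s * t) x := by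
    rw [hw', show d * (wEl s x * t * v) * d⁻¹ = (d * wEl s x * d⁻¹) * (d * t * d⁻¹) * (d * v * d⁻¹) by group,
      eP, eQ, hd.dt, mul_inv_cancel_right, mul_assoc (wEl s x) t v, htv, ← mul_assoc (wEl s x), hwv, mul_assoc v _ t,
      hwt, mul_assoc]
  rw [eQ'] at e1
  have := hA'.inj d 8 2 (by norm_num) (by norm_num) (by rw [w8', w2']; exact e1)
  exact absurd this (by norm_num)

end MPre

end Cfsg.Lib.HSType
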