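import Mathlib

/-!
# A lemma on the symmetric group of degree five
-/

set_option autoImplicit false
set_option synthInstance.maxSize 1000

namespace Cfsg.Lib.HSType

open Equiv

/-- The standard 3-cycle. -/
def threeCyc : Perm (Fin 5) := swap 0 1 * swap 1 2

/-- The involution commuting with the standard 3-cycle. -/
def swapD : Perm (Fin 5) := swap 3 4

theorem conj_threeCyc : ∀ Y : Perm (Fin 5), Y * Y * Y = 1 → Y ≠ 1 → ∃ g : Perm (Fin 5), g * Y * g⁻¹ = threeCyc := by
  decide +kernel

theorem sfive_std : ∀ S : Perm (Fin 5), S * S = 1 → S * threeCyc * S = threeCyc * threeCyc →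
    ∀ W : Perm (Fin 5), W * W = 1 → W ≠ 1 → S * W * S = threeCyc * W * (threeCyc * threeCyc) →
      (threeCyc * W * (threeCyc * threeCyc)) * W = W * (threeCyc * W * (threeCyc * threeCyc)) →
      threeCyc * W * (threeCyc * threeCyc) ≠ W →
      (swapD * S) * (swapD * S) = 1 ∧ swapD * (W * S * W) * (swapD * (W * S * W)) * (swapD * (W * S * W)) = 1 ∧
        (∀ i, (S * W * swapD) i ≠ i) ∧ (S * W * swapD) ^ 5 = 1 := by
  decide +kernel

/-- Generators of a symmetric group of degree five extend by an involution. -/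
theorem sfive (Y S W : Perm (Fin 5)) (hY : Y * Y * Y = 1) (hY1 : Y ≠ 1) (hS : S * S = 1)
    (hSY : S * Y * S = Y * Y) (hW : W * W = 1) (hW1 : W ≠ 1) (hSW : S * W * S = Y * W * (Y * Y))
    (hWY : (Y * W * (Y * Y)) * W = W * (Y * W * (Y * Y))) (hne : Y * W * (Y * Y) ≠ W) :
    ∃ D : Perm (Fin 5), D * D = 1 ∧ D * Y = Y * D ∧ (D * S) * (D * S) = 1 ∧
      D * (W * S * W) * (D * (W * S * W)) * (D * (W * S * W)) = 1 ∧ Subgroup.closure {Y, S, W, D} = ⊤ := by
  obtain ⟨g, hg⟩ := conj_threeCyc Y hY hY1
  let φ := MulAut.conj g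
  have hφY : φ Y = threeCyc := hg
  have h := sfive_std (φ S) (by rw [← map_mul, hS, map_one])
    (by rw [← hφY, ← map_mul, ← map_mul, hSY, map_mul]) (φ W) (by rw [← map_mul, hW, map_one])
    (fun e => hW1 (by simpa using e)) (by rw [← hφY]; simp only [← map_mul]; rw [hSW])
    (by rw [← hφY]; simp only [← map_mul]; rw [hWY])
    (by rw [← hφY]; simp only [← map_mul]; exact fun e => hne (φ.injective e))
  obtain ⟨h1, h2, h3, h4⟩ := h
  refine ⟨φ.symm swapD, ?_, ?_, ?_, ?_, ?_⟩
  · apply φ.injective
    rw [map_mul, map_one, φ.apply_symm_apply]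
    decide +kernel
  · apply φ.injective
    rw [map_mul, map_mul, φ.apply_symm_apply, hφY]
    decide +kernel
  · apply φ.injective
    simpa only [map_mul, map_one, φ.apply_symm_apply] using h1
  · apply φ.injective
    simpa only [map_mul, map_one, φ.apply_symm_apply] using h2
  · have hmap : (Subgroup.closure {Y, S, W, φ.symm swapD}).map φ.toMonoidHom = ⊤ := by
      rw [eq_top_iff]
      set σ := φ S * φ W * swapD
      have hσ1 : σ ≠ 1 := fun e => h3 0 (by rw [e]; rfl)
      have ho : orderOf σ = 5 :=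
        haveI : Fact (Nat.Prime 5) := ⟨by norm_num⟩
        orderOf_eq_prime h4 hσ1
      have hc : σ.IsCycle := Perm.isCycle_of_prime_order'' (by norm_num) (by rw [Fintype.card_fin]; exact ho)
      have hs : σ.support = ⊤ := Finset.eq_univ_iff_forall.2 fun i => Perm.mem_support.2 (h3 i)
      rw [← Perm.closure_prime_cycle_swap (by norm_num) hc hs (⟨3, 4, by decide, rfl⟩ : swapD.IsSwap),
        Subgroup.closure_le]
      have hD : swapD ∈ (Subgroup.closure {Y, S, W, φ.symm swapD}).map φ.toMonoidHom :=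
        ⟨_, Subgroup.subset_closure (by simp), φ.apply_symm_apply _⟩
      rintro z (rfl | rfl)
      · exact mul_mem (mul_mem (Subgroup.mem_map_of_mem _ (Subgroup.subset_closure (by simp)))
          (Subgroup.mem_map_of_mem _ (Subgroup.subset_closure (by simp)))) hD
      · exact hD
    exact Subgroup.map_injective φ.injective
      (hmap.trans (Subgroup.map_top_of_surjective _ φ.surjective).symm)

end Cfsg.Lib.HSType
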