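import Cfsg.Agent.Lib.HSType.RStep
import Cfsg.Agent.Lib.HSType.SFive

/-!
# An involution of the centraliser of `t` centralising `y`
-/

set_option autoImplicit false
set_option linter.style.haveILetI false
set_option linter.unusedSectionVars false
set_option maxRecDepth 100000
set_option maxHeartbeats 1000000

namespace Cfsg.Lib.HSType

open Subgroup Cfsg.Lib.J3Type

variable {G : Type*} [Group G] [Finite G] {t c y s x d : G} {R Cy V A M : Subgroup G}

/-- The conjugate of `s` by `c₁`. -/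
def wThree (c s x : G) : G := cOne c x * s * (cOne c x)⁻¹

/-- An element above the involution commuting with the image of `y`. -/
structure DPre (t c y s x d : G) (R : Subgroup G) : Prop where
  dt : d * t = t * d
  dy : d * y = y * d
  d2 : d * d ∈ R
  ds : d * s * (d * s) ∈ R
  d3 : d * wThree c s x * (d * wThree c s x) * (d * wThree c s x) ∈ R
  dc : d * c * d⁻¹ = c⁻¹
  gen : ∀ H0 : Subgroup G, R ≤ H0 → y ∈ H0 → s ∈ H0 → cOne c x ∈ H0 → d ∈ H0 →
    centralizer ({t} : Set G) ≤ H0

/-- No element with a number equals the word. -/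
noncomputable def notInR (Z : RTab) (w : List ℕ) : Bool :=
  (w.all fun l => [0, 1, 2, 3, 4, 5].any (Nat.beq (Nat.div l 2))) &&
    (List.range 64).all fun n => (not (eqB w (Z.word n))) &&
      ((Z.word n).all fun l => [0, 1, 2, 3, 4, 5].any (Nat.beq (Nat.div l 2)))

theorem notA : notInR rTabA [2] = true ∧ notInR rTabA [3, 4] = true ∧
    notInR rTabB [2] = true ∧ notInR rTabB [3, 4] = true := by decide +kernel

theorem genA : (rTabA.gens = [rTabA.word 16, rTabA.word 8, rTabA.word 4, rTabA.word 2, rTabA.word 1]) ∧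
    rTabA.word 48 = [0, 0, 0] ∧ tget rTabA.sy 8 = 4 ∧ tget rTabA.sy 2 = 1 ∧ rTabA.rmul 8 8 = 0 ∧
    rTabA.word 32 = [0, 0] ∧ rTabA.word 16 = [0] := by decide +kernel

theorem genB : (rTabB.gens = [rTabB.word 16, rTabB.word 8, rTabB.word 4, rTabB.word 2, rTabB.word 1]) ∧
    rTabB.word 48 = [0, 0, 0] ∧ tget rTabB.sy 8 = 4 ∧ tget rTabB.sy 2 = 1 ∧ rTabB.rmul 8 8 = 0 ∧
    rTabB.word 32 = [0, 0] ∧ rTabB.word 16 = [0] := by decide +kernel

/-- The commutator with `c` of a point of `A` shows where it lies. -/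
noncomputable def cenOK (Z : RTab) : Bool :=
  (List.range 4).all fun i => (List.range 4).all fun j => (List.range 4).all fun k =>
    let w := List.replicate i 0 ++ List.replicate j 2 ++ List.replicate k 4
    (Nat.beq j 0 && Nat.beq k 0) ||
      not (evB (w ++ Z.word 2 ++ invW w ++ invW (Z.word 2)) && evB (w ++ Z.word 1 ++ invW w ++ invW (Z.word 1)))

theorem cenA : cenOK rTabA = true ∧ cenOK rTabB = true := by decide +kernel

theorem dom_of_any {w : List ℕ} (h : (w.all fun l => [0, 1, 2, 3, 4, 5].any (Nat.beq (Nat.div l 2))) = true) :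
    ∀ l ∈ w, l / 2 ∈ domM ∧ l < 22 := by
  intro l hl
  have h1 := List.all_eq_true.1 h l hl
  rw [List.any_eq_true] at h1
  obtain ⟨k, hk, e⟩ := h1
  have e' : l / 2 = k := Nat.eq_of_beq_eq_true e
  have : k ∈ domM ∧ k < 6 := (by decide : ∀ k ∈ [0, 1, 2, 3, 4, 5], k ∈ domM ∧ k < 6) k hk
  exact ⟨e' ▸ this.1, by omega⟩

theorem c_pow_four (h : MPre t c y s x A M) (n : ℕ) : c ^ (n % 4) = c ^ n :=
  (pow_eq_pow_mod n h.core.tri.pa).symm

namespace MPre

variable (h : MPre t c y s x A M) (L : Loc t R Cy V A M)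
include h L

theorem c1H : cOne c x * t = t * cOne c x := A_le_cen h L (L.conj_A h.xM h.cA)

theorem cH : c * t = t * c := A_le_cen h L h.cA

/-- The elements of `R` commuting with `y`. -/
theorem R_fix {Z : RTab} (hS : RSem c y s x R Z) (hF : Z.formOK = true)
    (hfix : ((List.range 64).all fun n => not (Nat.beq (tget Z.sy n) n) || Nat.beq (Nat.mod n 16) 0) = true)
    {u : G} (hu : u ∈ R) (huy : u * y = y * u) : ∃ i, i < 4 ∧ u = c ^ i := by
  obtain ⟨n, hn, rfl⟩ := hS.cover (1 : G) u hu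
  obtain ⟨h1, h2⟩ := hS.conjy 1 n hn
  rw [← huy, mul_inv_cancel_right] at h2
  have e := hS.inj 1 _ _ hn h1 h2
  have := List.all_eq_true.1 hfix n (List.mem_range.2 hn)
  rw [← e, Bool.or_eq_true, Bool.not_eq_true'] at this
  rcases this with this | this
  · exact absurd this (by simp)
  · have F := List.all_eq_true.1 hF n (List.mem_range.2 hn)
    simp only [Bool.and_eq_true, Bool.or_eq_true, Bool.not_eq_true', beq_iff_eq] at F
    rcases F.2 with F' | F'
    · rw [this] at F'; exact absurd F' (by simp)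
    · refine ⟨n / 16, by omega, ?_⟩
      rw [F', show Nat.div n 16 = n / 16 from rfl]
      simp [wval, lval, lets, idL]

/-- The centraliser of `R` is generated by `c`. -/
theorem cen_R {Z : RTab} (hS : RSem c y s x R Z) (hF : Z.formOK = true) (hZ : cenOK Z = true) {g : G}
    (hg : ∀ u ∈ R, Commute g u) : ∃ i, i < 4 ∧ g = c ^ i := by
  have hgA : g ∈ A := by
    refine L.cen_V g ?_ fun v hv => hg v (L.V_le hv)
    rw [L.hM, mem_normalizer_iff]
    intro v
    constructor
    · intro hv; rw [(hg v (L.V_le hv)).eq, mul_inv_cancel_right]; exact hv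
    · intro hv
      have e := (hg _ (L.V_le hv)).eq
      have : g * v * g⁻¹ = v := by
        have := congrArg (fun z => g⁻¹ * z) e
        simp [mul_assoc] at this
        rw [mul_assoc]; exact this
      rwa [this] at hv
  obtain ⟨p, rfl⟩ := h.sur g hgA
  have hl := fun z : ZMod 4 => ZMod.val_lt z
  refine ⟨p.1.val, hl _, ?_⟩
  have := List.all_eq_true.1 (List.all_eq_true.1 (List.all_eq_true.1 hZ p.1.val (List.mem_range.2 (hl _)))
    p.2.1.val (List.mem_range.2 (hl _))) p.2.2.val (List.mem_range.2 (hl _))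
  simp only [Bool.or_eq_true, Bool.and_eq_true, Bool.not_eq_true'] at this
  rcases this with ⟨e1, e2⟩ | this
  · simp [pt, Nat.eq_of_beq_eq_true e1, Nat.eq_of_beq_eq_true e2]
  exfalso
  set w := List.replicate p.1.val 0 ++ List.replicate p.2.1.val 2 ++ List.replicate p.2.2.val 4 with hw
  have hwv : wval (lets c y s x (1 : G)) w = pt c (cOne c x) (cTwo c x) p := by
    simp [hw, wval, lval, lets, idL, pt, mul_assoc]
  have key : ∀ n, n < 64 → evB (w ++ Z.word n ++ invW w ++ invW (Z.word n)) = true := by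
    intro n hn
    have hF' := List.all_eq_true.1 hF n (List.mem_range.2 hn)
    simp only [Bool.and_eq_true] at hF'
    have d1 := dom_of_any hF'.1.1.1
    have d0 : ∀ l ∈ w, l / 2 ∈ domM ∧ l < 22 := by
      intro l hl
      simp only [hw, List.mem_append, List.mem_replicate] at hl
      rcases hl with (⟨-, rfl⟩ | ⟨-, rfl⟩) | ⟨-, rfl⟩ <;> decide
    have dinv : ∀ v : List ℕ, (∀ l ∈ v, l / 2 ∈ domM ∧ l < 22) → ∀ l ∈ invW v, l / 2 ∈ domM ∧ l < 22 := by
      intro v hv l hl
      obtain ⟨k, hk, rfl⟩ := List.mem_map.1 hl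
      have hk' := List.mem_reverse.1 hk
      have hkM := hv k hk'
      have inv_dom : ∀ k < 22, k / 2 ∈ domM → invL k / 2 ∈ domM ∧ invL k < 22 := by decide +kernel
      exact inv_dom k hkM.2 hkM.1
    have dap : ∀ {u v : List ℕ}, (∀ l ∈ u, l / 2 ∈ domM ∧ l < 22) → (∀ l ∈ v, l / 2 ∈ domM ∧ l < 22) →
        ∀ l ∈ u ++ v, l / 2 ∈ domM ∧ l < 22 := fun hu hv l hl => (List.mem_append.1 hl).elim (hu l) (hv l)
    have hd := dap (dap (dap d0 d1) (dinv _ d0)) (dinv _ d1)
    have h1 : wval (lets c y s x (1 : G)) (w ++ Z.word n ++ invW w ++ invW (Z.word n)) = 1 := by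
      rw [wval_append, wval_append, wval_append, wval_invW, wval_invW, hwv,
        (hg _ (hS.mem 1 n hn)).eq, mul_inv_cancel_right, mul_inv_cancel]
    by_contra hne
    exact not_evB (eq_false_of_ne_true hne) (fun l hl => (hd l hl).2)
      ((h.rel_iff L 1 _ fun l hl => (hd l hl).1).2 h1)
  rw [key 2 (by norm_num), key 1 (by norm_num)] at this
  exact absurd this (by simp)

theorem not_mem_R {Z : RTab} (hS : RSem c y s x R Z) {w : List ℕ} (hn : notInR Z w = true) (d : G) :
    wval (lets c y s x d) w ∉ R := by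
  intro hm
  obtain ⟨n, hn', e⟩ := hS.cover d _ hm
  simp only [notInR, Bool.and_eq_true] at hn
  have := List.all_eq_true.1 hn.2 n (List.mem_range.2 hn')
  simp only [Bool.and_eq_true, Bool.not_eq_true'] at this
  have d0 := dom_of_any hn.1
  have d1 := dom_of_any this.2
  have hne : wval gHS w ≠ wval gHS (Z.word n) := fun e' => by
    rw [(eqB_iff (fun l hl => (d0 l hl).2) fun l hl => (d1 l hl).2).2 e'] at this
    exact Bool.noConfusion this.1
  refine hne (mul_inv_eq_one.1 ?_)
  rw [← wval_invW, ← wval_append]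
  refine (h.rel_iff L d _ ?_).2 (by rw [wval_append, wval_invW, e, mul_inv_cancel])
  intro l hl
  rcases List.mem_append.1 hl with hl | hl
  · exact (d0 l hl).1
  · obtain ⟨k, hk, rfl⟩ := List.mem_map.1 hl
    have := d1 k (List.mem_reverse.1 hk)
    exact ((by decide +kernel : ∀ k < 22, k / 2 ∈ domM → invL k / 2 ∈ domM) k this.2 this.1)

theorem c_central {Z : RTab} (hS : RSem c y s x R Z) (hF : Z.formOK = true) {m : ℕ} (hm : m < 64) :
    Commute c (wval (lets c y s x (1 : G)) (Z.word m)) := by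
  have hF' := List.all_eq_true.1 hF m (List.mem_range.2 hm)
  simp only [Bool.and_eq_true] at hF'
  have dw := dom_of_any hF'.1.1.1
  have hC : ∀ T ∈ [rTabA, rTabB], ∀ m < 64, eqB ([0] ++ T.word m) (T.word m ++ [0]) = true := by decide +kernel
  have hT := hC Z hS.shape m hm
  have e := h.eq_of_eqB L 1 (w := [0] ++ Z.word m) (w' := Z.word m ++ [0])
    (fun l hl => (List.mem_append.1 hl).elim (fun h0 => (by decide : ∀ l ∈ ([0] : List ℕ), l / 2 ∈ domM) l h0) fun h1 => (dw l h1).1)
    (fun l hl => (List.mem_append.1 hl).elim (fun h1 => (dw l h1).1) fun h0 => (by decide : ∀ l ∈ ([0] : List ℕ), l / 2 ∈ domM) l h0) hT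
  rw [wval_append, wval_append, show wval (lets c y s x (1 : G)) [0] = c by simp [wval, lval, lets, idL]] at e
  exact e

theorem exists_dpre {Z : RTab} (hS : RSem c y s x R Z) (hF : Z.formOK = true) (hC : Z.conjOK = true)
    (hZ : cenOK Z = true) (hn1 : notInR Z [2] = true) (hn2 : notInR Z [3, 4] = true) :
    ∃ d, DPre t c y s x d R := by
  classical
  obtain ⟨π, hπ, hker⟩ := L.quot
  have hmem : ∀ {g : G}, g * t = t * g → g ∈ centralizer ({t} : Set G) := mem_centralizer_singleton_iff.2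
  have hy := hmem (h.y_comm_t L)
  have hs := hmem (h.s_comm_t L)
  have hc1 := hmem (h.c1H L)
  obtain ⟨yy, hyy⟩ : ∃ u : centralizer ({t} : Set G), (u : G) = y := ⟨⟨y, hy⟩, rfl⟩
  obtain ⟨ss, hss⟩ : ∃ u : centralizer ({t} : Set G), (u : G) = s := ⟨⟨s, hs⟩, rfl⟩
  obtain ⟨cc, hcc⟩ : ∃ u : centralizer ({t} : Set G), (u : G) = cOne c x := ⟨⟨_, hc1⟩, rfl⟩
  have kerm : ∀ u v, π u = π v ↔ (u : G)⁻¹ * v ∈ R := by
    intro u v
    have := hker (u⁻¹ * v)
    rw [map_mul, map_inv, inv_mul_eq_one] at this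
    exact this
  have hyR : y ∉ R := by
    intro hyR
    have ay := h.ay2
    have y1 : y = 1 := by
      rcases L.sq y hyR with e | e
      · have := h.core.y3; rwa [e, one_mul] at this
      · have := h.core.y3
        rw [e, mul_eq_one_iff_inv_eq, inv_eq_of_mul_eq_one_right L.tsq] at this
        rw [← this, L.tsq] at e
        exact absurd e.symm L.tne
    haveI : Fact (1 < 2) := ⟨by norm_num⟩
    rw [y1] at ay
    exact absurd (ay.unique Act.one ((h.tri2 L).injective (h.inj2 L))) (by decide +kernel)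
  have ec2 : cTwo c x = y * cOne c x * y⁻¹ := h.core.yc1.symm
  have w2 : wval (lets c y s x (1 : G)) [2] = cOne c x := by simp [wval, lval, lets, idL]
  have w34 : wval (lets c y s x (1 : G)) [3, 4] = (cOne c x)⁻¹ * cTwo c x := by simp [wval, lval, lets, idL]
  have hsy : s * y * s⁻¹ = y * y := by
    have := h.core.sy
    rw [mul_eq_one_iff_eq_inv] at this
    rw [this]
    exact inv_eq_of_mul_eq_one_right (by rw [← mul_assoc]; exact h.core.y3)
  have SS : π ss * π ss = 1 := by
    rw [← map_mul]; exact (hker _).2 (by simp [hss, h.sq_one L])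
  have SI : (π ss)⁻¹ = π ss := inv_eq_of_mul_eq_one_right SS
  have Y3 : π yy * π yy * π yy = 1 := by
    rw [← map_mul, ← map_mul]; exact (hker _).2 (by simp [hyy, h.core.y3])
  have YI : (π yy)⁻¹ = π yy * π yy := inv_eq_of_mul_eq_one_right (by rw [← mul_assoc]; exact Y3)
  obtain ⟨D, hD2, hDY, hDS, hD3, hgen⟩ := sfive (π yy) (π ss) (π cc) Y3
    (fun e => hyR (by have := (hker _).1 e; rwa [hyy] at this)) SS
    (by nth_rw 2 [← SI]; rw [← map_inv, ← map_mul, ← map_mul, ← map_mul, kerm]; simp [hss, hyy, hsy])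
    (by rw [← map_mul]; exact (hker _).2 (by simp [hcc]; exact L.V_le (h.v1_mem L)))
    (fun e => h.not_mem_R L hS hn1 1 (by rw [w2, ← hcc]; exact (hker _).1 e))
    (by
      nth_rw 2 [← SI]
      rw [← YI, ← map_inv, ← map_inv, ← map_mul, ← map_mul, ← map_mul, ← map_mul, kerm]
      simp [hss, hyy, hcc, h.core.sc1, ← ec2])
    (by
      rw [← YI, ← map_inv, ← map_mul, ← map_mul, ← map_mul, ← map_mul, kerm]
      simp [hyy, hcc, ← ec2]
      rw [h.core.tri.bc.eq]; simp)
    (by
      rw [← YI, ← map_inv, ← map_mul, ← map_mul, Ne, kerm]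
      simp only [Subgroup.coe_mul, InvMemClass.coe_inv, hyy, hcc, ← ec2]
      intro e
      refine h.not_mem_R L hS hn2 1 ?_
      rw [w34]
      have := inv_mem e
      simpa using this)
  obtain ⟨d0, hd0⟩ := hπ D
  have hd0y : (y : G)⁻¹ * ((d0 : G) * y * (d0 : G)⁻¹) ∈ R := by
    have := (kerm yy (d0 * yy * d0⁻¹)).1 (by
      rw [map_mul, map_mul, map_inv, hd0, hDY, mul_inv_cancel_right])
    simpa [hyy] using this
  obtain ⟨n, hn, en⟩ := hS.cover (1 : G) _ hd0y
  have e3 : (y * wval (lets c y s x (1 : G)) (Z.word n)) * (y * wval (lets c y s x (1 : G)) (Z.word n)) *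
      (y * wval (lets c y s x (1 : G)) (Z.word n)) = 1 := by
    rw [en]
    simp only [← mul_assoc, mul_inv_cancel, one_mul]
    simp [mul_assoc]
    rw [← mul_assoc y y, ← mul_assoc (y * y) y, h.core.y3, one_mul, mul_inv_cancel]
  have hF' := List.all_eq_true.1 hF n (List.mem_range.2 hn)
  simp only [Bool.and_eq_true] at hF'
  have dn : ∀ l ∈ [6] ++ Z.word n, l / 2 ∈ domM ∧ l < 22 := by
    intro l hl
    rcases List.mem_append.1 hl with hl | hl
    · exact (by decide : ∀ l ∈ ([6] : List ℕ), l / 2 ∈ domM ∧ l < 22) l hl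
    · exact dom_of_any hF'.1.1.1 l hl
  have dn3 : ∀ l ∈ [6] ++ Z.word n ++ ([6] ++ Z.word n) ++ ([6] ++ Z.word n), l / 2 ∈ domM ∧ l < 22 := by
    intro l hl
    rcases List.mem_append.1 hl with hl | hl
    · exact (List.mem_append.1 hl).elim (dn l) (dn l)
    · exact dn l hl
  have hev : evB ([6] ++ Z.word n ++ ([6] ++ Z.word n) ++ ([6] ++ Z.word n)) = true := by
    by_contra hne
    refine not_evB (eq_false_of_ne_true hne) (fun l hl => (dn3 l hl).2) ((h.rel_iff L 1 _ fun l hl => (dn3 l hl).1).2 ?_)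
    rw [wval_append, wval_append, wval_append, show wval (lets c y s x (1 : G)) [6] = y by simp [wval, lval, lets, idL]]
    exact e3
  have := List.all_eq_true.1 hC n (List.mem_range.2 hn)
  rw [hev] at this
  simp only [Bool.not_true, Bool.false_or, Bool.and_eq_true] at this
  have hv := Nat.lt_of_succ_le (Nat.le_of_ble_eq_true this.1)
  set v := wval (lets c y s x (1 : G)) (Z.word (tget Z.cy n)) with hvd
  have hvR : v ∈ R := hS.mem 1 _ hv
  have hvy : v * y * v⁻¹ = (d0 : G) * y * (d0 : G)⁻¹ := by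
    have hF2 := List.all_eq_true.1 hF _ (List.mem_range.2 hv)
    simp only [Bool.and_eq_true] at hF2
    have dv := dom_of_any hF2.1.1.1
    have e := h.eq_of_eqB L 1 (w := Z.word (tget Z.cy n) ++ [6] ++ invW (Z.word (tget Z.cy n)))
      (w' := [6] ++ Z.word n) (by
        intro l hl
        rcases List.mem_append.1 hl with hl | hl
        · rcases List.mem_append.1 hl with hl | hl
          · exact (dv l hl).1
          · exact (by decide : ∀ l ∈ ([6] : List ℕ), l / 2 ∈ domM) l hl
        · obtain ⟨k, hk, rfl⟩ := List.mem_map.1 hl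
          have hk' := dv k (List.mem_reverse.1 hk)
          exact (by decide +kernel : ∀ k < 22, k / 2 ∈ domM → invL k / 2 ∈ domM) k hk'.2 hk'.1)
      (fun l hl => (dn l hl).1) this.2
    rw [wval_append, wval_append, wval_append, wval_invW, en, ← hvd,
      show wval (lets c y s x (1 : G)) [6] = y by simp [wval, lval, lets, idL]] at e
    rw [e]; group
  set d := v⁻¹ * (d0 : G) with hd
  have dy : d * y = y * d := by
    rw [hd]
    have := congrArg (fun z => v⁻¹ * z * (d0 : G)) hvy
    simp [mul_assoc] at this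
    rw [mul_assoc]
    exact this.symm
  have hdC : d ∈ centralizer ({t} : Set G) := mul_mem (inv_mem (L.R_le hvR)) d0.2
  obtain ⟨dd, hdd⟩ : ∃ u : centralizer ({t} : Set G), (u : G) = d := ⟨⟨d, hdC⟩, rfl⟩
  have hπd : π dd = D := by
    rw [← hd0, kerm, hdd, hd]
    have : (v⁻¹ * (d0 : G))⁻¹ * d0 = (d0 : G)⁻¹ * v * d0 := by group
    rw [this]
    have := L.R_norm (d0 : G)⁻¹ (mem_centralizer_singleton_iff.1 (inv_mem d0.2)) v hvR
    rwa [inv_inv] at this
  have d3 : d * wThree c s x * (d * wThree c s x) * (d * wThree c s x) ∈ R := by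
    have hq : π (cc * ss * cc⁻¹) = π cc * π ss * π cc := by
      rw [map_mul, map_mul, map_inv, inv_eq_of_mul_eq_one_right (show π cc * π cc = 1 by
        rw [← map_mul]; exact (hker _).2 (by simp [hcc]; exact L.V_le (h.v1_mem L)))]
    have := (hker (dd * (cc * ss * cc⁻¹) * (dd * (cc * ss * cc⁻¹)) * (dd * (cc * ss * cc⁻¹)))).1 (by
      have e : π (dd * (cc * ss * cc⁻¹)) = D * (π cc * π ss * π cc) := by rw [map_mul, hq, hπd]
      rw [map_mul, map_mul, e]; exact hD3)
    simpa [hdd, hcc, hss, wThree] using this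
  refine ⟨d, mem_centralizer_singleton_iff.1 hdC, dy, ?_, ?_, d3, ?_, ?_⟩
  · have := (hker (dd * dd)).1 (by rw [map_mul, hπd, hD2])
    simpa [hdd] using this
  · have := (hker (dd * ss * (dd * ss))).1 (by rw [map_mul, map_mul, hπd, hDS])
    simpa [hdd, hss] using this
  · have hzc : ∀ u ∈ R, Commute c u := by
      intro u hu
      obtain ⟨q, hq, rfl⟩ : ∃ z ∈ Cy, z = c := by
        refine ⟨c, L.cy_of c (h.R_facts L).1 fun r hr => ?_, rfl⟩
        obtain ⟨m, hm, rfl⟩ := hS.cover (1 : G) r hr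
        exact h.c_central L hS hF hm
      exact L.cy_comm _ hq u hu
    obtain ⟨i, hi, hz⟩ : ∃ i, i < 4 ∧ d * c * d⁻¹ = c ^ i := by
      refine h.cen_R L hS hF hZ fun u hu => ?_
      have hu' : d⁻¹ * u * d ∈ R := by
        have := L.R_norm d⁻¹ (mem_centralizer_singleton_iff.1 (inv_mem hdC)) u hu
        rwa [inv_inv] at this
      show d * c * d⁻¹ * u = u * (d * c * d⁻¹)
      calc d * c * d⁻¹ * u = d * (c * (d⁻¹ * u * d)) * d⁻¹ := by group
        _ = d * ((d⁻¹ * u * d) * c) * d⁻¹ := by rw [(hzc _ hu').eq]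
        _ = u * (d * c * d⁻¹) := by group
    have hodd : c ^ (2 * i) = t := by
      rw [two_mul, pow_add, ← hz, show d * c * d⁻¹ * (d * c * d⁻¹) = d * (c * c) * d⁻¹ by group, h.csq,
        mem_centralizer_singleton_iff.1 hdC, mul_inv_cancel_right]
    interval_cases i
    · exact absurd hodd.symm (by simpa using L.tne)
    · exfalso
      rw [pow_one] at hz
      have s3 : wThree c s x * c * (wThree c s x)⁻¹ = c⁻¹ := by
        rw [wThree, show cOne c x * s * (cOne c x)⁻¹ * c * (cOne c x * s * (cOne c x)⁻¹)⁻¹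
          = cOne c x * (s * ((cOne c x)⁻¹ * c * cOne c x) * s⁻¹) * (cOne c x)⁻¹ by group,
          show (cOne c x)⁻¹ * c * cOne c x = c by rw [mul_assoc, h.core.tri.ab.eq]; group, h.core.sc,
          (h.core.tri.ab.inv_left.symm).eq, mul_inv_cancel_right]
      obtain ⟨g, hgd⟩ : ∃ g, d * wThree c s x = g := ⟨_, rfl⟩
      have d3' := d3
      rw [hgd] at d3'
      have g1 : g * c * g⁻¹ = c⁻¹ := by
        rw [show g * c * g⁻¹ = d * (wThree c s x * c * (wThree c s x)⁻¹) * d⁻¹ by rw [← hgd]; group, s3,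
          show d * c⁻¹ * d⁻¹ = (d * c * d⁻¹)⁻¹ by group, hz]
      have g2 : g * c⁻¹ * g⁻¹ = c := by
        rw [show g * c⁻¹ * g⁻¹ = (g * c * g⁻¹)⁻¹ by group, g1, inv_inv]
      have g3 : g * g * g * c * (g * g * g)⁻¹ = c⁻¹ := by
        rw [show g * g * g * c * (g * g * g)⁻¹ = g * (g * (g * c * g⁻¹) * g⁻¹) * g⁻¹ by group, g1, g2, g1]
      rw [← (hzc _ d3').eq, mul_inv_cancel_right] at g3
      exact L.tne (by rw [← h.csq]; nth_rw 2 [g3]; rw [mul_inv_cancel])
    · rw [show (2 : ℕ) * 2 = 4 from rfl, h.core.tri.pa] at hodd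
      exact absurd hodd.symm L.tne
    · rw [hz, eq_inv_iff_mul_eq_one, ← pow_succ, h.core.tri.pa]
  · intro H0 hR hy0 hs0 hc0 hd0'
    intro g hg
    have hle : Subgroup.closure {π yy, π ss, π cc, π dd} ≤ (H0.subgroupOf _).map π := by
      rw [closure_le]
      rintro z (rfl | rfl | rfl | rfl) <;> refine mem_map_of_mem _ (mem_subgroupOf.2 ?_)
      exacts [hyy ▸ hy0, hss ▸ hs0, hcc ▸ hc0, hdd ▸ hd0']
    rw [hπd, hgen] at hle
    obtain ⟨u, hu, hu'⟩ := hle (mem_top (π ⟨g, hg⟩))
    have := mul_mem (mem_subgroupOf.1 hu) (hR ((kerm u ⟨g, hg⟩).1 hu'))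
    rwa [show (u : G) * ((u : G)⁻¹ * g) = g by group] at this

end MPre

end Cfsg.Lib.HSType
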