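import Mathlib

/-!
An elementary abelian subgroup of order 16 of a group of `HS` type, and words covering the centraliser of `t`.
-/

set_option autoImplicit false

namespace Cfsg.Lib.HSType

/-- The elements of the subgroup as words. -/
def eElts : List (List ℕ) :=
  [
    [],
    [0, 0],
    [0, 0, 7, 10, 6],
    [7, 10, 6],
    [0, 0, 10, 8, 10],
    [10, 8, 10],
    [8],
    [0, 0, 8],
    [0, 3, 7, 10, 5, 6],
    [7, 2, 2, 10, 6],
    [2, 2, 4, 4],
    [0, 4, 10, 5, 10],
    [2, 2, 4, 4, 8],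
    [0, 3, 8, 10, 4, 10],
    [0, 3, 10, 8, 10, 5],
    [0, 2, 10, 8, 10, 4]]

/-- Generators of the subgroup, by numbers. -/
def eGens : List ℕ := [2, 4, 8]

/-- Conjugation by `c * d` on the numbers. -/
def ePermH : List ℕ := [0, 1, 2, 3, 4, 5, 6, 7, 10, 11, 8, 9, 14, 15, 12, 13]

/-- Conjugation by the word `xbWord` on the numbers. -/
def ePermX : List ℕ := [0, 10, 7, 13, 15, 5, 8, 2, 6, 12, 1, 11, 9, 3, 14, 4]

/-- Representatives in the letters `y`, `s`, `w` for the action on `V` fixing `t`. -/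
def bWords : List (List ℕ) :=
  [
    [],
    [6],
    [8],
    [10],
    [6, 6],
    [6, 8],
    [6, 10],
    [8, 6],
    [8, 10],
    [10, 6],
    [10, 8],
    [6, 6, 10],
    [6, 8, 10],
    [6, 10, 6],
    [6, 10, 8],
    [8, 6, 10],
    [8, 10, 6],
    [8, 10, 8],
    [10, 6, 6],
    [10, 6, 8],
    [10, 6, 10],
    [10, 8, 10],
    [6, 6, 10, 6],
    [6, 6, 10, 8]]

/-- Representatives of the cosets of the common subgroup in the centraliser. -/
def uWords : List (List ℕ) :=
  [
    [],
    [12],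
    [12, 2],
    [12, 4],
    [12, 2, 4]]

end Cfsg.Lib.HSType
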