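import Cfsg.Agent.Lib.HSType.Model
import Cfsg.Agent.Lib.HSType.EData

/-!
# Checks on the subgroup of order 16
-/

set_option autoImplicit false
set_option maxRecDepth 100000

namespace Cfsg.Lib.HSType

open Cfsg.Lib.J3Type

/-- The word of an element of the covering list. -/
def hWord (b i j k u : ℕ) : List ℕ :=
  bWords.getD b [] ++ (List.replicate i 0 ++ List.replicate j 2 ++ List.replicate k 4) ++ uWords.getD u []

/-- Elements commuting with the generators lie in the subgroup. -/
noncomputable def centOK : Bool :=
  (List.range 24).all fun b => (List.range 4).all fun i => (List.range 4).all fun j => (List.range 4).all fun k =>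
    (List.range 5).all fun u =>
      not (eGens.all fun e => eqB (hWord b i j k u ++ eElts.getD e []) (eElts.getD e [] ++ hWord b i j k u)) ||
        (List.range 16).any fun e => eqB (hWord b i j k u) (eElts.getD e [])

theorem centE : centOK = true := by decide +kernel

theorem permE : ((List.range 16).all fun k =>
    eqB (haWord ++ eElts.getD k [] ++ invW haWord) (eElts.getD (ePermH.getD k 0) []) &&
      eqB (xbWord ++ eElts.getD k [] ++ invW xbWord) (eElts.getD (ePermX.getD k 0) []) &&
      Nat.blt (ePermH.getD k 0) 16 && Nat.blt (ePermX.getD k 0) 16 &&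
      (eElts.getD k []).all (fun l => [0, 1, 2, 3, 4, 5].any (Nat.beq (Nat.div l 2))) &&
      (List.range 16).all fun m => Nat.beq k m || not (eqB (eElts.getD k []) (eElts.getD m []))) = true := by
  decide +kernel

theorem fixE : ∀ k < 16,
    (let π := fun k => ePermH.getD (ePermX.getD k 0) 0; π k = k) → k = 0 ∨ k = 5 := by
  decide +kernel

theorem fourE : ∀ k < 16,
    (let π := fun k => ePermH.getD (ePermX.getD k 0) 0; π (π (π (π k))) = k) := by
  decide +kernel

end Cfsg.Lib.HSType
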