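import Cfsg.Agent.Lib.HSType.KillLData

/-!
Kernel checks of the certificates.
-/

set_option autoImplicit false
set_option maxRecDepth 100000

namespace Cfsg.Lib.HSType

open Cfsg.Lib.J3Type

theorem killL_facts0 : factsOK killL 0 4000 = true := by decide +kernel

theorem killL_facts1 : factsOK killL 4000 1535 = true := by decide +kernel

theorem killL_rows0 : rowsOK killL 0 1 = true := by decide +kernel

theorem killL_fact_ok : ∀ i < killL.nFacts, factOK killL i = true := by
  intro i hi
  replace hi : i < 5535 := hi
  by_cases h0 : i < 4000
  · exact factOK_of_factsOK killL_facts0 (by omega) (by omega)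
  by_cases h1 : i < 5535
  · exact factOK_of_factsOK killL_facts1 (by omega) (by omega)
  omega

theorem killL_row_ok : ∀ c < killL.nLive, rowOK killL c = true := by
  intro c hc
  replace hc : c < 1 := hc
  by_cases h0 : c < 1
  · exact rowOK_of_rowsOK killL_rows0 (by omega) (by omega)
  omega

theorem killL_live_zero : killL.live.get 15 0 = 0 := by decide +kernel

end Cfsg.Lib.HSType
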