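import Cfsg.Agent.Lib.HSType.HTrans
import Cfsg.Agent.Lib.HSType.EModel
import Cfsg.Agent.Lib.HSType.KillLChecks

/-!
# The relator tying the two subgroups together
-/

set_option autoImplicit false
set_option linter.style.haveILetI false
set_option linter.unusedSectionVars false
set_option maxRecDepth 100000
set_option maxHeartbeats 1000000
set_option synthInstance.maxSize 1000

namespace Cfsg.Lib.HSType

open Subgroup Cfsg.Lib.J3Type

variable {G : Type*} [Group G] [Finite G] {t c y s x d : G} {R Cy V A M : Subgroup G}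

/-- The relator. -/
def qFour : List ℕ := (haWord ++ [20]) ++ (haWord ++ [20]) ++ (haWord ++ [20]) ++ (haWord ++ [20])

/-- A rule is a relation of one of the two subgroups or one of the listed relators. -/
noncomputable def certTwo (Rl : List (List ℕ)) (K : J3Type.Cert) : Bool :=
  K.rules.all fun ws => ws.all fun w =>
    (inD domM w && evB w) || (inD domH w && evB w) || isRule Rl w

theorem killL_rules : certTwo [qFour ++ [11, 9, 11]] killL = true := by decide +kernel

theorem invW_dom {dom w : List ℕ} (h : ∀ l ∈ w, l / 2 ∈ dom ∧ l < 22) : ∀ l ∈ invW w, l / 2 ∈ dom ∧ l < 22 := by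
  intro l hl
  obtain ⟨k, hk, rfl⟩ := List.mem_map.1 hl
  have hk' := h k (List.mem_reverse.1 hk)
  have e : ∀ k < 22, invL k / 2 = k / 2 ∧ invL k < 22 := by decide +kernel
  rw [(e k hk'.2).1]
  exact ⟨hk'.1, (e k hk'.2).2⟩

theorem append_dom {dom u v : List ℕ} (hu : ∀ l ∈ u, l / 2 ∈ dom ∧ l < 22) (hv : ∀ l ∈ v, l / 2 ∈ dom ∧ l < 22) :
    ∀ l ∈ u ++ v, l / 2 ∈ dom ∧ l < 22 := fun l hl => (List.mem_append.1 hl).elim (hu l) (hv l)

theorem small_dom {dom w : List ℕ} (h : (w.all fun l => [0, 1, 2, 3, 4, 5].any (Nat.beq (Nat.div l 2))) = true)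
    (hd : ∀ k ∈ [0, 1, 2, 3, 4, 5], k ∈ dom) : ∀ l ∈ w, l / 2 ∈ dom ∧ l < 22 := by
  intro l hl
  have h1 := List.all_eq_true.1 h l hl
  rw [List.any_eq_true] at h1
  obtain ⟨k, hk, e⟩ := h1
  rw [show l / 2 = k from Nat.eq_of_beq_eq_true e]
  refine ⟨hd k hk, ?_⟩
  have := (by decide : ∀ k ∈ [0, 1, 2, 3, 4, 5], k < 6) k hk
  have e' : l / 2 = k := Nat.eq_of_beq_eq_true e
  omega

/-- Equalities in the model pass to a group where the model decides relations. -/
theorem eq_of_iff {f : ℕ → G} {dom : List ℕ}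
    (hiff : ∀ w : List ℕ, (∀ l ∈ w, l / 2 ∈ dom) → (wval gHS w = 1 ↔ wval f w = 1)) {w w' : List ℕ}
    (hw : ∀ l ∈ w, l / 2 ∈ dom ∧ l < 22) (hw' : ∀ l ∈ w', l / 2 ∈ dom ∧ l < 22) :
    eqB w w' = true ↔ wval f w = wval f w' := by
  rw [eqB_iff (fun l hl => (hw l hl).2) fun l hl => (hw' l hl).2, ← mul_inv_eq_one, ← wval_invW, ← wval_append,
    hiff _ (fun l hl => (append_dom hw (invW_dom hw') l hl).1), wval_append, wval_invW, mul_inv_eq_one]

/-- The matrix on `V` of a letter of the covering words. -/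
def letMatB (l : ℕ) : Mat 2 :=
  if l = 6 then matY2 else if l = 8 then matS2 else ((1, 0, 0), (0, 1, 0), (1, 0, 1))

/-- The matrix on `V` of a covering word. -/
def bMat : List ℕ → Mat 2
  | [] => one3 2
  | l :: w => mm (letMatB l) (bMat w)

theorem bWords_ok : bWords.length = 24 ∧ (∀ w ∈ bWords, ∀ l ∈ w, l = 6 ∨ l = 8 ∨ l = 10) ∧
    (∀ p q : Pt 2, (∀ r, mv (((1, 0, 0), p, q) : Mat 2) r = 0 → r = 0) →
      (((1, 0, 0), p, q) : Mat 2) ∈ bWords.map bMat) := by
  decide +kernel

namespace MPre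

variable (h : MPre t c y s x A M) (L : Loc t R Cy V A M)
include h L

theorem bMat_act (d : G) : ∀ w, (∀ l ∈ w, l = 6 ∨ l = 8 ∨ l = 10) →
    Act t (cOne c x * cOne c x) (cTwo c x * cTwo c x) (wval (lets c y s x d) w) (bMat w) ∧
      wval (lets c y s x d) w ∈ M := by
  haveI : Fact (1 < 2) := ⟨by norm_num⟩
  intro w
  induction w with
  | nil => exact fun _ => ⟨Act.one, one_mem _⟩
  | cons l w ih =>
    intro hl
    obtain ⟨e, m⟩ := ih fun k hk => hl k (List.mem_cons_of_mem _ hk)
    rw [wval_cons]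
    rcases hl l (List.mem_cons_self ..) with rfl | rfl | rfl
    · exact ⟨h.ay2.mul e (h.tri2 L), mul_mem h.yM m⟩
    · exact ⟨h.as2.mul e (h.tri2 L), mul_mem h.sM m⟩
    · exact ⟨(h.aw2 L).mul e (h.tri2 L), mul_mem (h.wM L) m⟩

theorem mem_list_B (d : G) {g : G} (hgM : g ∈ M) (hgt : g * t = t * g) :
    ∃ b i j k, b < 24 ∧ i < 4 ∧ j < 4 ∧ k < 4 ∧ g = wval (lets c y s x d)
      (bWords.getD b [] ++ (List.replicate i 0 ++ List.replicate j 2 ++ List.replicate k 4)) := by
  classical
  haveI : Fact (1 < 2) := ⟨by norm_num⟩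
  have T := h.tri2 L
  obtain ⟨⟨p0, p1, p2⟩, ha, hinv⟩ := L.act_mem (h.v1_mem L) (h.v2_mem L) T (h.inj2 L) hgM
  have e0 : p0 = (1, 0, 0) := T.injective (h.inj2 L)
    (ha.e0.symm.trans (by rw [hgt, mul_inv_cancel_right, pt_e0]))
  subst e0
  obtain ⟨w, hw, hwU⟩ := List.mem_map.1 (bWords_ok.2.2 p1 p2 hinv)
  obtain ⟨b, hb, rfl⟩ := List.getElem_of_mem hw
  obtain ⟨aw, wM⟩ := h.bMat_act L d bWords[b] (bWords_ok.2.1 _ hw)
  rw [hwU] at aw
  obtain ⟨p, hp⟩ := h.sur _ (L.inv_mul_mem_A (h.v1_mem L) (h.v2_mem L) T (h.inj2 L) wM hgM aw ha)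
  refine ⟨b, p.1.val, p.2.1.val, p.2.2.val, bWords_ok.1 ▸ hb, ZMod.val_lt _, ZMod.val_lt _, ZMod.val_lt _, ?_⟩
  rw [List.getD_eq_getElem _ _ hb, wval_append,
    show wval (lets c y s x d) (List.replicate p.1.val 0 ++ List.replicate p.2.1.val 2 ++ List.replicate p.2.2.val 4)
      = pt c (cOne c x) (cTwo c x) p by simp [wval, lval, lets, idL, pt, mul_assoc], hp]
  group

/-- The centraliser of `t` is covered by the listed words. -/
theorem mem_list_H (hd : DPre t c y s x d R) (hS : RSem c y s x R rTabA)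
    (hR : ∀ r ∈ hRels 0 2, wval (lets c y s x d) r = 1) {g : G} (hg : g * t = t * g) :
    ∃ b i j k u, b < 24 ∧ i < 4 ∧ j < 4 ∧ k < 4 ∧ u < 5 ∧ g = wval (lets c y s x d) (hWord b i j k u) := by
  set f := lets c y s x d
  have hV : Valid hCert f (letG f [0, 1, 2, 3, 4, 5]) := h.valid_H L rfl hR cert_rules_H.2.1 (by
    intro l hl
    simp only [show hCert.subs = [0, 2, 4, 6, 8, 10] from rfl, List.mem_cons, List.not_mem_nil, or_false] at hl
    rcases hl with rfl | rfl | rfl | rfl | rfl | rfl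
    · exact mem_letG (g := f) (j := 0) (by decide)
    · exact mem_letG (g := f) (j := 1) (by decide)
    · exact mem_letG (g := f) (j := 2) (by decide)
    · exact mem_letG (g := f) (j := 3) (by decide)
    · exact mem_letG (g := f) (j := 4) (by decide)
    · exact mem_letG (g := f) (j := 5) (by decide))
  have hx : g ∈ Subgroup.closure {z | ∃ j < hCert.gens.length, lval f (hCert.gens.getD j idL) = z} := by
    rw [gens_set (dom := [0, 1, 2, 3, 4, 5, 6]) rfl (by decide), (h.letG_H L hd hS).1]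
    exact mem_centralizer_singleton_iff.2 hg
  obtain ⟨u, hu, hb⟩ := mem_cover hV hCert_fact_ok hCert_live_zero hCert_row_ok
    (show 0 < hCert.nLive by decide +kernel) hx
  have hu5 : u < 5 := hu
  have hrep : J3Type.rep hCert f (hCert.live.get 15 u) = wval f (uWords.getD u []) := by
    have step : ∀ n m l, hCert.par.get 20 n = 32 * m + l → l < 32 → m < n →
        J3Type.rep hCert f n = J3Type.rep hCert f m * lval f l := by
      intro n m l e hl hm
      rw [J3Type.rep_par (C := hCert) (g := f) (n := n) (by rw [e]; omega), e]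
      congr 2 <;> omega
    have r0 : J3Type.rep hCert f 0 = 1 := rfl
    have r1 := step 1 0 12 (by decide +kernel) (by norm_num) (by norm_num)
    have r2 := step 2 1 2 (by decide +kernel) (by norm_num) (by norm_num)
    have r3 := step 3 1 4 (by decide +kernel) (by norm_num) (by norm_num)
    have r6 := step 6 2 4 (by decide +kernel) (by norm_num) (by norm_num)
    have l0 : hCert.live.get 15 0 = 0 ∧ hCert.live.get 15 1 = 1 ∧ hCert.live.get 15 2 = 2 ∧
        hCert.live.get 15 3 = 3 ∧ hCert.live.get 15 4 = 6 := by decide +kernel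
    obtain ⟨l0, l1, l2, l3, l4⟩ := l0
    interval_cases u <;> simp [l0, l1, l2, l3, l4, r0, r1, r2, r3, r6, wval, uWords, mul_assoc]
  rw [hrep] at hb
  have hsub6 : letG f [0, 1, 2, 3, 4, 5] ≤ letG f domH := letG_mono fun j hj =>
    mem_letG ((by decide : ∀ j ∈ [0, 1, 2, 3, 4, 5], j ∈ domH) j hj)
  have hbt := hsub6 hb
  rw [(h.letG_H L hd hS).2] at hbt
  have hbM : g * (wval f (uWords.getD u []))⁻¹ ∈ M := by
    rw [← h.letG_domM L d]
    exact letG_mono (fun j hj => mem_letG ((by decide : ∀ j ∈ [0, 1, 2, 3, 4, 5], j ∈ domM) j hj)) hb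
  obtain ⟨b, i, j, k, hb', hi, hj, hk, e⟩ := h.mem_list_B L d hbM (mem_centralizer_singleton_iff.1 hbt)
  refine ⟨b, i, j, k, u, hb', hi, hj, hk, hu5, ?_⟩
  rw [hWord, wval_append, ← e, inv_mul_cancel_right]

theorem xt_ne : x * t ≠ t * x := by
  intro e
  haveI : Fact (1 < 2) := ⟨by norm_num⟩
  have := h.ax2.e0
  rw [e, mul_inv_cancel_right, ← pt_e0 (n := 2) t (cOne c x * cOne c x) (cTwo c x * cTwo c x)] at this
  nth_rw 2 [pt_e0] at this
  exact absurd ((h.tri2 L).injective (h.inj2 L) this) (by decide +kernel)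

/-- The relator holds. -/
theorem qFour_one (hd : DPre t c y s x d R) (hS : RSem c y s x R rTabA)
    (hR : ∀ r ∈ hRels 0 2, wval (lets c y s x d) r = 1) : wval (lets c y s x d) qFour = 1 := by
  classical
  set f := lets c y s x d with hf
  have iM := h.rel_iff L d
  have iH := h.rel_iff_H L hd hS hR
  have P := fun k (hk : k < 16) => List.all_eq_true.1 permE k (List.mem_range.2 hk)
  simp only [Bool.and_eq_true] at P
  obtain ⟨e, he⟩ : ∃ e : ℕ → G, ∀ k, e k = wval f (eElts.getD k []) := ⟨_, fun _ => rfl⟩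
  have dM := fun k (hk : k < 16) => small_dom (P k hk).1.2 (dom := domM) (by decide)
  have dH := fun k (hk : k < 16) => small_dom (P k hk).1.2 (dom := domH) (by decide)
  have lt1 : ∀ k, k < 16 → ePermH.getD k 0 < 16 := fun k hk =>
    Nat.lt_of_succ_le (Nat.le_of_ble_eq_true (P k hk).1.1.1.2)
  have lt2 : ∀ k, k < 16 → ePermX.getD k 0 < 16 := fun k hk =>
    Nat.lt_of_succ_le (Nat.le_of_ble_eq_true (P k hk).1.1.2)
  have cH : ∀ k, k < 16 → wval f haWord * e k * (wval f haWord)⁻¹ = e (ePermH.getD k 0) := by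
    intro k hk
    have := (eq_of_iff iH (append_dom (append_dom (by decide) (dH k hk)) (invW_dom (by decide))) (dH _ (lt1 k hk))).1
      (P k hk).1.1.1.1.1
    rw [wval_append, wval_append, wval_invW, ← he, ← he] at this
    exact this
  have cX : ∀ k, k < 16 → wval f xbWord * e k * (wval f xbWord)⁻¹ = e (ePermX.getD k 0) := by
    intro k hk
    have := (eq_of_iff iM (append_dom (append_dom (by decide) (dM k hk)) (invW_dom (by decide))) (dM _ (lt2 k hk))).1
      (P k hk).1.1.1.1.2
    rw [wval_append, wval_append, wval_invW, ← he, ← he] at this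
    exact this
  obtain ⟨p, hp⟩ : ∃ p, wval f haWord * wval f xbWord = p := ⟨_, rfl⟩
  have cp : ∀ k, k < 16 → ePermH.getD (ePermX.getD k 0) 0 < 16 ∧
      p * e k * p⁻¹ = e (ePermH.getD (ePermX.getD k 0) 0) := by
    intro k hk
    refine ⟨lt1 _ (lt2 k hk), ?_⟩
    rw [← hp, show wval f haWord * wval f xbWord * e k * (wval f haWord * wval f xbWord)⁻¹
      = wval f haWord * (wval f xbWord * e k * (wval f xbWord)⁻¹) * (wval f haWord)⁻¹ by group, cX k hk,
      cH _ (lt2 k hk)]
  have c4 : ∀ k, k < 16 → p * p * p * p * e k = e k * (p * p * p * p) := by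
    intro k hk
    obtain ⟨a1, b1⟩ := cp k hk
    obtain ⟨a2, b2⟩ := cp _ a1
    obtain ⟨a3, b3⟩ := cp _ a2
    obtain ⟨-, b4⟩ := cp _ a3
    have h4 := fourE k hk
    simp only at h4
    rw [h4] at b4
    rw [← mul_inv_eq_iff_eq_mul]
    conv_rhs => rw [← b4, ← b3, ← b2, ← b1]
    group
  have e1 : e 1 = t := by
    rw [he, ← h.csq]; simp [wval, lval, lets, idL, eElts, hf]
  obtain ⟨b, i, j, k, u, hb, hi, hj, hk, hu, hq⟩ := h.mem_list_H L hd hS hR (g := p * p * p * p)
    (by rw [← e1]; exact c4 1 (by norm_num))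
  have dW : ∀ l ∈ hWord b i j k u, l / 2 ∈ domH ∧ l < 22 := by
    refine append_dom (append_dom ?_ ?_) ?_
    · intro l hl
      rw [List.getD_eq_getElem _ _ (by rw [bWords_ok.1]; exact hb)] at hl
      rcases bWords_ok.2.1 _ (List.getElem_mem _) l hl with rfl | rfl | rfl <;> decide
    · intro l hl
      simp only [List.mem_append, List.mem_replicate] at hl
      rcases hl with (⟨-, rfl⟩ | ⟨-, rfl⟩) | ⟨-, rfl⟩ <;> decide
    · interval_cases u <;> decide
  have hC := List.all_eq_true.1 (List.all_eq_true.1 (List.all_eq_true.1 (List.all_eq_true.1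
    (List.all_eq_true.1 centE b (List.mem_range.2 hb)) i (List.mem_range.2 hi)) j (List.mem_range.2 hj))
    k (List.mem_range.2 hk)) u (List.mem_range.2 hu)
  rw [Bool.or_eq_true, Bool.not_eq_true'] at hC
  have hall : (eGens.all fun e => eqB (hWord b i j k u ++ eElts.getD e []) (eElts.getD e [] ++ hWord b i j k u)) = true := by
    refine List.all_eq_true.2 fun m hm => ?_
    have hm16 : m < 16 := (by decide : ∀ m ∈ eGens, m < 16) m hm
    refine (eq_of_iff iH (append_dom dW (dH m hm16)) (append_dom (dH m hm16) dW)).2 ?_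
    rw [wval_append, wval_append, ← hq, ← he]
    exact c4 m hm16
  rw [hall] at hC
  rcases hC with hC | hC
  · exact absurd hC (by simp)
  obtain ⟨n, hn, hn'⟩ := List.any_eq_true.1 hC
  have hn16 := List.mem_range.1 hn
  have hpe : p * p * p * p = e n := by rw [he, hq]; exact (eq_of_iff iH dW (dH n hn16)).1 hn'
  have hfix : ePermH.getD (ePermX.getD n 0) 0 = n := by
    obtain ⟨a, b⟩ := cp n hn16
    rw [← hpe, show p * (p * p * p * p) * p⁻¹ = p * p * p * p by group, hpe] at b
    have := List.all_eq_true.1 (P n hn16).2 _ (List.mem_range.2 a)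
    rw [Bool.or_eq_true, Bool.not_eq_true'] at this
    rcases this with this | this
    · exact (Nat.eq_of_beq_eq_true this).symm
    · rw [(eq_of_iff iH (dH n hn16) (dH _ a)).2 (by rw [← he, ← he]; exact b)] at this
      exact absurd this (by simp)
  have hq4 : wval f qFour = p * p * p * p := by
    simp only [qFour, wval_append]
    rw [show wval f [20] = wval f xbWord by
      rw [← xbWord_val]; simp [wval, lval, idL, hf], hp]
  rcases fixE n hn16 hfix with rfl | rfl
  · rw [hq4, hpe, he]; rfl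
  exfalso
  have hrel : wval f (qFour ++ [11, 9, 11]) = 1 := by
    rw [wval_append, hq4, hpe, he]
    simp [wval, lval, lets, idL, eElts, hf, mul_assoc]
  have hV : Valid killL f (centralizer ({t} : Set G)) := by
    refine ⟨fun ws hws w hw => ?_, ?_⟩
    · have := List.all_eq_true.1 (List.all_eq_true.1 killL_rules ws hws) w hw
      simp only [Bool.or_eq_true, Bool.and_eq_true] at this
      rcases this with (⟨h1, h2⟩ | ⟨h1, h2⟩) | h1
      · exact (iM w fun l hl => (inD_spec h1 l hl).1).1 (evB_spec h2)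
      · exact (iH w fun l hl => (inD_spec h1 l hl).1).1 (evB_spec h2)
      · exact wval_isRule (by intro r hr; rw [List.mem_singleton] at hr; rw [hr]; exact hrel) h1
    · intro l hl
      rw [← (h.letG_H L hd hS).1]
      simp only [show killL.subs = [0, 2, 4, 6, 8, 10, 12] from rfl, List.mem_cons, List.not_mem_nil, or_false] at hl
      rcases hl with rfl | rfl | rfl | rfl | rfl | rfl | rfl
      · exact mem_letG (g := f) (j := 0) (by decide)
      · exact mem_letG (g := f) (j := 1) (by decide)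
      · exact mem_letG (g := f) (j := 2) (by decide)
      · exact mem_letG (g := f) (j := 3) (by decide)
      · exact mem_letG (g := f) (j := 4) (by decide)
      · exact mem_letG (g := f) (j := 5) (by decide)
      · exact mem_letG (g := f) (j := 6) (by decide)
  have hxm : x ∈ Subgroup.closure {z | ∃ j < killL.gens.length, lval f (killL.gens.getD j idL) = z} := by
    rw [gens_set (dom := [0, 3, 4, 6, 7]) rfl (by decide)]
    exact mem_letG (g := f) (j := 7) (by decide)
  obtain ⟨u, hu, hxu⟩ := mem_cover hV killL_fact_ok killL_live_zero killL_row_ok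
    (show 0 < killL.nLive by decide +kernel) hxm
  have hu0 : u = 0 := Nat.lt_one_iff.1 hu
  subst hu0
  rw [killL_live_zero, show J3Type.rep killL f 0 = 1 from rfl, inv_one, mul_one] at hxu
  exact h.xt_ne L (mem_centralizer_singleton_iff.1 hxu)

end MPre

end Cfsg.Lib.HSType
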