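import Cfsg.Agent.Lib.HSType.MainData

/-!
Kernel checks of the certificates.
-/

set_option autoImplicit false
set_option maxRecDepth 100000

namespace Cfsg.Lib.HSType

open Cfsg.Lib.J3Type

theorem mainCert_facts0 : factsOK mainCert 0 4000 = true := by decide +kernel

theorem mainCert_facts1 : factsOK mainCert 4000 4000 = true := by decide +kernel

theorem mainCert_facts2 : factsOK mainCert 8000 4000 = true := by decide +kernel

theorem mainCert_facts3 : factsOK mainCert 12000 4000 = true := by decide +kernel

theorem mainCert_facts4 : factsOK mainCert 16000 4000 = true := by decide +kernel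

theorem mainCert_facts5 : factsOK mainCert 20000 4000 = true := by decide +kernel

theorem mainCert_facts6 : factsOK mainCert 24000 4000 = true := by decide +kernel

theorem mainCert_facts7 : factsOK mainCert 28000 4000 = true := by decide +kernel

theorem mainCert_facts8 : factsOK mainCert 32000 4000 = true := by decide +kernel

theorem mainCert_facts9 : factsOK mainCert 36000 4000 = true := by decide +kernel

theorem mainCert_facts10 : factsOK mainCert 40000 4000 = true := by decide +kernel

theorem mainCert_facts11 : factsOK mainCert 44000 4000 = true := by decide +kernel

theorem mainCert_facts12 : factsOK mainCert 48000 4000 = true := by decide +kernel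

theorem mainCert_facts13 : factsOK mainCert 52000 4000 = true := by decide +kernel

theorem mainCert_facts14 : factsOK mainCert 56000 4000 = true := by decide +kernel

theorem mainCert_facts15 : factsOK mainCert 60000 4000 = true := by decide +kernel

theorem mainCert_facts16 : factsOK mainCert 64000 4000 = true := by decide +kernel

theorem mainCert_facts17 : factsOK mainCert 68000 1049 = true := by decide +kernel

theorem mainCert_rows0 : rowsOK mainCert 0 2000 = true := by decide +kernel

theorem mainCert_rows1 : rowsOK mainCert 2000 2000 = true := by decide +kernel

theorem mainCert_rows2 : rowsOK mainCert 4000 1775 = true := by decide +kernel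

theorem mainCert_fact_ok : ∀ i < mainCert.nFacts, factOK mainCert i = true := by
  intro i hi
  replace hi : i < 69049 := hi
  by_cases h0 : i < 4000
  · exact factOK_of_factsOK mainCert_facts0 (by omega) (by omega)
  by_cases h1 : i < 8000
  · exact factOK_of_factsOK mainCert_facts1 (by omega) (by omega)
  by_cases h2 : i < 12000
  · exact factOK_of_factsOK mainCert_facts2 (by omega) (by omega)
  by_cases h3 : i < 16000
  · exact factOK_of_factsOK mainCert_facts3 (by omega) (by omega)
  by_cases h4 : i < 20000
  · exact factOK_of_factsOK mainCert_facts4 (by omega) (by omega)
  by_cases h5 : i < 24000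
  · exact factOK_of_factsOK mainCert_facts5 (by omega) (by omega)
  by_cases h6 : i < 28000
  · exact factOK_of_factsOK mainCert_facts6 (by omega) (by omega)
  by_cases h7 : i < 32000
  · exact factOK_of_factsOK mainCert_facts7 (by omega) (by omega)
  by_cases h8 : i < 36000
  · exact factOK_of_factsOK mainCert_facts8 (by omega) (by omega)
  by_cases h9 : i < 40000
  · exact factOK_of_factsOK mainCert_facts9 (by omega) (by omega)
  by_cases h10 : i < 44000
  · exact factOK_of_factsOK mainCert_facts10 (by omega) (by omega)
  by_cases h11 : i < 48000
  · exact factOK_of_factsOK mainCert_facts11 (by omega) (by omega)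
  by_cases h12 : i < 52000
  · exact factOK_of_factsOK mainCert_facts12 (by omega) (by omega)
  by_cases h13 : i < 56000
  · exact factOK_of_factsOK mainCert_facts13 (by omega) (by omega)
  by_cases h14 : i < 60000
  · exact factOK_of_factsOK mainCert_facts14 (by omega) (by omega)
  by_cases h15 : i < 64000
  · exact factOK_of_factsOK mainCert_facts15 (by omega) (by omega)
  by_cases h16 : i < 68000
  · exact factOK_of_factsOK mainCert_facts16 (by omega) (by omega)
  by_cases h17 : i < 69049
  · exact factOK_of_factsOK mainCert_facts17 (by omega) (by omega)
  omega

theorem mainCert_row_ok : ∀ c < mainCert.nLive, rowOK mainCert c = true := by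
  intro c hc
  replace hc : c < 5775 := hc
  by_cases h0 : c < 2000
  · exact rowOK_of_rowsOK mainCert_rows0 (by omega) (by omega)
  by_cases h1 : c < 4000
  · exact rowOK_of_rowsOK mainCert_rows1 (by omega) (by omega)
  by_cases h2 : c < 5775
  · exact rowOK_of_rowsOK mainCert_rows2 (by omega) (by omega)
  omega

theorem mainCert_live_zero : mainCert.live.get 15 0 = 0 := by decide +kernel

end Cfsg.Lib.HSType
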