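import Cfsg.Agent.Lib.HSType.EStep
import Cfsg.Agent.Lib.HSType.MainChecks
import Cfsg.Agent.Lib.PermAut.Hs
import Cfsg.Agent.Lib.Concrete.SporHS
import Cfsg.Agent.Lib.Concrete.LeechSimpleGroups

/-!
# The model inside a group of `HS` type
-/

set_option autoImplicit false
set_option linter.style.haveILetI false
set_option linter.unusedSectionVars false
set_option maxRecDepth 100000
set_option maxHeartbeats 1000000

namespace Cfsg.Lib.HSType

open Subgroup Cfsg.Lib.J3Type Cfsg.Lib.PermAut

variable {G : Type*} [Group G] [Finite G] {t c y s x d : G} {R Cy V A M : Subgroup G}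

/-- The letters of the two subgroups that are not words. -/
def domAll : List ℕ := [0, 1, 2, 3, 4, 5, 6, 7]

/-- The letters of the enumeration. -/
def domG : List ℕ := [0, 3, 4, 6, 7]

theorem main_rules : certTwo [qFour] mainCert = true := by decide +kernel

theorem gen_words : (∀ w ∈ [eWord1, eWord2, eWord3], ∀ l ∈ w, l / 2 ∈ domG ∧ l < 22) ∧
    sameB 7 100 (eWord1.map ltab) [Hs.cert.a] = true ∧ sameB 7 100 (eWord2.map ltab) [Hs.cert.c] = true ∧
    sameB 7 100 (eWord3.map ltab) [Hs.cert.d] = true := by
  refine ⟨?_, ?_, ?_, ?_⟩ <;> decide +kernel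

theorem simple_model : IsSimpleGroup Hs.cert.K := by
  obtain ⟨⟨e⟩, -⟩ := Hs.hs_model
  obtain ⟨e5⟩ := Cfsg.Lib.Concrete.sporHS_equiv
  exact e.isSimpleGroup_congr.1 (e5.isSimpleGroup_congr.2 Cfsg.Lib.Concrete.isHS_five.1)

theorem card_model : Nat.card Hs.cert.K = 44352000 := by
  rw [Hs.hs_model.2]; decide +kernel

namespace MPre

variable (h : MPre t c y s x A M) (L : Loc t R Cy V A M)
include h L

/-- The model maps into the group, onto a subgroup containing the centraliser of `t`. -/
theorem embed (hd : DPre t c y s x d R) (hS : RSem c y s x R rTabA)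
    (hR : ∀ r ∈ hRels 0 2, wval (lets c y s x d) r = 1) :
    ∃ φ : Hs.cert.K →* G, Function.Injective φ ∧ letG (lets c y s x d) domG ≤ φ.range ∧
      (∀ u : G, u * t = t * u → u ∈ φ.range) ∧ φ.range = letG (lets c y s x d) domAll ∧
      ∀ w : List ℕ, (∀ l ∈ w, l / 2 ∈ domAll ∧ l < 22) →
        (wval gHS w = 1 ↔ wval (lets c y s x d) w = 1) := by
  classical
  set f := lets c y s x d with hf
  set g := pairF f with hg
  have iM := h.rel_iff L d
  have iH := h.rel_iff_H L hd hS hR
  have hq : wval g qFour = 1 := by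
    rw [hg, wval_pairF, h.qFour_one L hd hS hR, evB_spec (show evB qFour = true by decide +kernel)]
    rfl
  have hV : Valid mainCert g (letG g domH) := by
    refine ⟨fun ws hws w hw => ?_, ?_⟩
    · have := List.all_eq_true.1 (List.all_eq_true.1 main_rules ws hws) w hw
      simp only [Bool.or_eq_true, Bool.and_eq_true] at this
      rcases this with (⟨h1, h2⟩ | ⟨h1, h2⟩) | h1
      · rw [hg, wval_pairF, evB_spec h2, (iM w fun l hl => (inD_spec h1 l hl).1).1 (evB_spec h2)]; rfl
      · rw [hg, wval_pairF, evB_spec h2, (iH w fun l hl => (inD_spec h1 l hl).1).1 (evB_spec h2)]; rfl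
      · exact wval_isRule (by intro r hr; rw [List.mem_singleton] at hr; rw [hr]; exact hq) h1
    · intro l hl
      simp only [show mainCert.subs = [0, 2, 4, 6, 8, 10, 12] from rfl, List.mem_cons, List.not_mem_nil, or_false] at hl
      rcases hl with rfl | rfl | rfl | rfl | rfl | rfl | rfl
      · exact mem_letG (g := g) (j := 0) (by decide)
      · exact mem_letG (g := g) (j := 1) (by decide)
      · exact mem_letG (g := g) (j := 2) (by decide)
      · exact mem_letG (g := g) (j := 3) (by decide)
      · exact mem_letG (g := g) (j := 4) (by decide)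
      · exact mem_letG (g := g) (j := 5) (by decide)
      · exact mem_letG (g := g) (j := 6) (by decide)
  have hD : Nat.card (letG g domG) ≤ 44352000 := by
    have := cert_bound hV mainCert_fact_ok mainCert_row_ok mainCert_live_zero (n := 5775) rfl (by norm_num)
      (dom := domG) rfl (by decide)
    exact this.trans (le_trans (Nat.mul_le_mul_left 5775 (h.pairs_H L hd hS hR)) (by norm_num))
  obtain ⟨hw, s1, s2, s3⟩ := gen_words
  have Gn := Cert.gen_of_check Hs.gen_check
  let π2 : letG g domG →* Equiv.Perm (Fin Hs.cert.N) := (MonoidHom.snd G (Equiv.Perm (Fin 100))).comp (letG g domG).subtype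
  have hK : Hs.cert.K ≤ π2.range := by
    have key : ∀ w ∈ [eWord1, eWord2, eWord3], ∀ T : ℕ, Rep 7 (toP 7 100 T : Equiv.Perm (Fin 100)) T →
        sameB 7 100 (w.map ltab) [T] = true → (toP 7 100 T : Equiv.Perm (Fin 100)) ∈ π2.range := by
      intro w hw' T hT hs
      refine ⟨⟨wval g w, wval_mem_letG g fun l hl => (hw w hw' l hl).1⟩, ?_⟩
      show (wval (pairF f) w).2 = _
      rw [wval_pairF]
      obtain ⟨hr, hp⟩ := wval_gHS fun l hl => (hw w hw' l hl).2
      have := eq_of_sameB hr (by simpa using hT) hs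
      rw [hp] at this
      simpa using this
    rw [Cert.K, closure_le]
    rintro z (rfl | rfl | rfl)
    · exact key eWord1 (by simp) _ Gn.a s1
    · exact key eWord2 (by simp) _ Gn.c s2
    · exact key eWord3 (by simp) _ Gn.d s3
  have hle : Nat.card π2.range ≤ Nat.card (letG g domG) :=
    Nat.card_le_card_of_surjective _ π2.rangeRestrict_surjective
  have hge : 44352000 ≤ Nat.card π2.range := by rw [← card_model]; exact card_le_of_le hK
  have heq : Hs.cert.K = π2.range := Subgroup.eq_of_le_of_card_ge hK (by rw [card_model]; omega)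
  have hbij : Function.Bijective π2.rangeRestrict :=
    (Nat.bijective_iff_surjective_and_card _).2 ⟨π2.rangeRestrict_surjective, by omega⟩
  let e := MulEquiv.ofBijective π2.rangeRestrict hbij
  let φ : Hs.cert.K →* G := ((MonoidHom.fst G (Equiv.Perm (Fin 100))).comp (letG g domG).subtype).comp
    (e.symm.toMonoidHom.comp (MulEquiv.subgroupCongr heq).toMonoidHom)
  have hφ : ∀ w : List ℕ, (∀ l ∈ w, l / 2 ∈ domG) → wval f w ∈ φ.range := by
    intro w hw'
    refine ⟨(MulEquiv.subgroupCongr heq).symm (π2.rangeRestrict ⟨wval g w, wval_mem_letG g hw'⟩), ?_⟩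
    show (Subtype.val (e.symm ((MulEquiv.subgroupCongr heq) ((MulEquiv.subgroupCongr heq).symm
      (π2.rangeRestrict ⟨wval g w, wval_mem_letG g hw'⟩))))).1 = _
    rw [MulEquiv.apply_symm_apply, show π2.rangeRestrict ⟨wval g w, wval_mem_letG g hw'⟩
      = e ⟨wval g w, wval_mem_letG g hw'⟩ from rfl, MulEquiv.symm_apply_apply]
    exact congrArg Prod.fst (wval_pairF f w)
  have hlet : ∀ j ∈ domG, f j ∈ φ.range := by
    intro j hj
    have := hφ [2 * j] (by
      intro l hl; rw [List.mem_singleton] at hl; rw [hl, Nat.mul_div_cancel_left _ (by norm_num)]; exact hj)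
    rwa [show wval f [2 * j] = f j by
      simp [wval, lval_lets_even (g := f) ((by decide : ∀ j ∈ domG, j < 15) j hj)]] at this
  have hsub : letG f domG ≤ φ.range := (closure_le _).2 fun _ ⟨j, hj, e⟩ => e ▸ hlet j hj
  have hinj : Function.Injective φ := by
    haveI := simple_model
    rcases (inferInstance : φ.ker.Normal).eq_bot_or_eq_top with hk | hk
    · exact (MonoidHom.ker_eq_bot_iff φ).1 hk
    · exfalso
      obtain ⟨z, hz⟩ := hφ [0, 0] (by decide)
      rw [MonoidHom.mem_ker.1 (hk ▸ mem_top z)] at hz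
      exact L.tne (by rw [← h.csq]; simpa [wval, lval, lets, idL, hf] using hz.symm)
  have hall : letG g domAll ≤ letG g domG := by
    refine letG_mono fun j hj => ?_
    have m : ∀ j ∈ domG, g j ∈ letG g domG := fun j hj => mem_letG hj
    have e1 : g 1 = g 7 * g 0 * (g 7)⁻¹ := by
      rw [hg, h.pair_word L d (j := 1) (w := [14, 0, 15]) (by decide +kernel) (by norm_num) (by decide)
        (by simp [wval, lval, lets, idL, cOne, mul_assoc])]
      simp [wval, lval, idL, hf, mul_assoc]
    have e2 : g 2 = g 7 * g 1 * (g 7)⁻¹ := by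
      rw [hg, h.pair_word L d (j := 2) (w := [14, 2, 15]) (by decide +kernel) (by norm_num) (by decide)
        (by simp [wval, lval, lets, idL, cTwo, mul_assoc])]
      simp [wval, lval, idL, hf, mul_assoc]
    have e5 : g 5 = g 7 * g 7 * g 7 * g 4 * (g 7 * g 7 * g 7)⁻¹ := by
      rw [hg, h.pair_word L d (j := 5) (w := [14, 14, 14, 8, 15, 15, 15]) (by decide +kernel) (by norm_num)
        (by decide) (by simp [wval, lval, lets, idL, wEl, mul_assoc])]
      simp [wval, lval, idL, hf, mul_assoc]
    have m7 := m 7 (by decide)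
    have m1 : g 1 ∈ letG g domG := e1 ▸ mul_mem (mul_mem m7 (m 0 (by decide))) (inv_mem m7)
    simp only [domAll, List.mem_cons, List.not_mem_nil, or_false] at hj
    rcases hj with rfl | rfl | rfl | rfl | rfl | rfl | rfl | rfl
    · exact m 0 (by decide)
    · exact m1
    · exact e2 ▸ mul_mem (mul_mem m7 m1) (inv_mem m7)
    · exact m 3 (by decide)
    · exact m 4 (by decide)
    · exact e5 ▸ mul_mem (mul_mem (mul_mem (mul_mem m7 m7) m7) (m 4 (by decide))) (inv_mem (mul_mem (mul_mem m7 m7) m7))
    · exact m 6 (by decide)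
    · exact m7
  have hsubG : letG f domG ≤ letG f domAll := letG_mono fun j hj =>
    mem_letG ((by decide : ∀ j ∈ domG, j ∈ domAll) j hj)
  have hfG : letG f domAll ≤ letG f domG := by
    have := Subgroup.map_mono (f := MonoidHom.fst G (Equiv.Perm (Fin 100))) hall
    rwa [letG_map, letG_map] at this
  have hrange : φ.range = letG f domAll := by
    refine le_antisymm ?_ (hfG.trans hsub)
    rintro _ ⟨k, rfl⟩
    have hm : ((e.symm.toMonoidHom.comp (MulEquiv.subgroupCongr heq).toMonoidHom) k).1.1 ∈
        (letG g domG).map (MonoidHom.fst G (Equiv.Perm (Fin 100))) := ⟨_, SetLike.coe_mem _, rfl⟩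
    rw [letG_map] at hm
    exact hsubG hm
  refine ⟨φ, hinj, hsub, ?_, hrange, ?_⟩
  · intro u hu
    refine hsub ?_
    have hu' : u ∈ letG f [0, 1, 2, 3, 4, 5, 6] :=
      (h.letG_H L hd hS).1.symm ▸ mem_centralizer_singleton_iff.2 hu
    refine letG_mono (fun j hj => ?_) hu'
    have m : ∀ j ∈ domG, f j ∈ letG f domG := fun j hj => mem_letG hj
    have m1 : cOne c x ∈ letG f domG :=
      mul_mem (mul_mem (m 7 (by decide)) (m 0 (by decide))) (inv_mem (m 7 (by decide)))
    simp only [List.mem_cons, List.not_mem_nil, or_false] at hj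
    rcases hj with rfl | rfl | rfl | rfl | rfl | rfl | rfl
    · exact m 0 (by decide)
    · exact m1
    · exact mul_mem (mul_mem (m 7 (by decide)) m1) (inv_mem (m 7 (by decide)))
    · exact m 3 (by decide)
    · exact m 4 (by decide)
    · exact mul_mem (mul_mem (mul_mem (mul_mem (m 7 (by decide)) (m 7 (by decide))) (m 7 (by decide))) (m 4 (by decide)))
        (inv_mem (mul_mem (mul_mem (m 7 (by decide)) (m 7 (by decide))) (m 7 (by decide))))
    · exact m 6 (by decide)

  · intro w hw
    have hmem : wval g w ∈ letG g domG := hall (wval_mem_letG g fun l hl => (hw l hl).1)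
    obtain ⟨z, hz⟩ : ∃ z : letG g domG, (z : G × Equiv.Perm (Fin 100)) = wval g w := ⟨⟨_, hmem⟩, rfl⟩
    obtain ⟨k, hk⟩ : ∃ k, (MulEquiv.subgroupCongr heq) k = π2.rangeRestrict z :=
      ⟨_, MulEquiv.apply_symm_apply _ _⟩
    have e1 : φ k = wval f w := by
      show (Subtype.val (e.symm ((MulEquiv.subgroupCongr heq) k))).1 = _
      rw [hk, show π2.rangeRestrict z = e z from rfl, MulEquiv.symm_apply_apply, hz]
      exact congrArg Prod.fst (wval_pairF f w)
    have e2 : (k : Equiv.Perm (Fin Hs.cert.N)) = wval gHS w := by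
      have := congrArg Subtype.val hk
      rw [MulEquiv.subgroupCongr_apply] at this
      rw [this]
      show (z : G × Equiv.Perm (Fin 100)).2 = _
      rw [hz]
      exact congrArg Prod.snd (wval_pairF f w)
    constructor
    · intro e0
      rw [← e1, show k = 1 from Subtype.ext (e2.trans e0), map_one]
    · intro e0
      rw [← e2, hinj (a₁ := k) (a₂ := 1) (by rw [e1, e0, map_one])]
      rfl

end MPre

end Cfsg.Lib.HSType
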