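import Cfsg.Agent.Lib.HSType.HCertData

/-!
Kernel checks of the certificates.
-/

set_option autoImplicit false
set_option maxRecDepth 100000

namespace Cfsg.Lib.HSType

open Cfsg.Lib.J3Type

theorem kCert_facts0 : factsOK kCert 0 194 = true := by decide +kernel

theorem kCert_rows0 : rowsOK kCert 0 96 = true := by decide +kernel

theorem kCert_fact_ok : ∀ i < kCert.nFacts, factOK kCert i = true := by
  intro i hi
  replace hi : i < 194 := hi
  by_cases h0 : i < 194
  · exact factOK_of_factsOK kCert_facts0 (by omega) (by omega)
  omega

theorem kCert_row_ok : ∀ c < kCert.nLive, rowOK kCert c = true := by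
  intro c hc
  replace hc : c < 96 := hc
  by_cases h0 : c < 96
  · exact rowOK_of_rowsOK kCert_rows0 (by omega) (by omega)
  omega

theorem kCert_live_zero : kCert.live.get 15 0 = 0 := by decide +kernel

theorem hCert_facts0 : factsOK hCert 0 42 = true := by decide +kernel

theorem hCert_rows0 : rowsOK hCert 0 5 = true := by decide +kernel

theorem hCert_fact_ok : ∀ i < hCert.nFacts, factOK hCert i = true := by
  intro i hi
  replace hi : i < 42 := hi
  by_cases h0 : i < 42
  · exact factOK_of_factsOK hCert_facts0 (by omega) (by omega)
  omega

theorem hCert_row_ok : ∀ c < hCert.nLive, rowOK hCert c = true := by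
  intro c hc
  replace hc : c < 5 := hc
  by_cases h0 : c < 5
  · exact rowOK_of_rowsOK hCert_rows0 (by omega) (by omega)
  omega

theorem hCert_live_zero : hCert.live.get 15 0 = 0 := by decide +kernel

theorem killH0_facts0 : factsOK killH0 0 2561 = true := by decide +kernel

theorem killH0_rows0 : rowsOK killH0 0 40 = true := by decide +kernel

theorem killH0_fact_ok : ∀ i < killH0.nFacts, factOK killH0 i = true := by
  intro i hi
  replace hi : i < 2561 := hi
  by_cases h0 : i < 2561
  · exact factOK_of_factsOK killH0_facts0 (by omega) (by omega)
  omega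

theorem killH0_row_ok : ∀ c < killH0.nLive, rowOK killH0 c = true := by
  intro c hc
  replace hc : c < 40 := hc
  by_cases h0 : c < 40
  · exact rowOK_of_rowsOK killH0_rows0 (by omega) (by omega)
  omega

theorem killH0_live_zero : killH0.live.get 15 0 = 0 := by decide +kernel

theorem killH1_facts0 : factsOK killH1 0 1981 = true := by decide +kernel

theorem killH1_rows0 : rowsOK killH1 0 20 = true := by decide +kernel

theorem killH1_fact_ok : ∀ i < killH1.nFacts, factOK killH1 i = true := by
  intro i hi
  replace hi : i < 1981 := hi
  by_cases h0 : i < 1981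
  · exact factOK_of_factsOK killH1_facts0 (by omega) (by omega)
  omega

theorem killH1_row_ok : ∀ c < killH1.nLive, rowOK killH1 c = true := by
  intro c hc
  replace hc : c < 20 := hc
  by_cases h0 : c < 20
  · exact rowOK_of_rowsOK killH1_rows0 (by omega) (by omega)
  omega

theorem killH1_live_zero : killH1.live.get 15 0 = 0 := by decide +kernel

theorem killH2_facts0 : factsOK killH2 0 2253 = true := by decide +kernel

theorem killH2_rows0 : rowsOK killH2 0 20 = true := by decide +kernel

theorem killH2_fact_ok : ∀ i < killH2.nFacts, factOK killH2 i = true := by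
  intro i hi
  replace hi : i < 2253 := hi
  by_cases h0 : i < 2253
  · exact factOK_of_factsOK killH2_facts0 (by omega) (by omega)
  omega

theorem killH2_row_ok : ∀ c < killH2.nLive, rowOK killH2 c = true := by
  intro c hc
  replace hc : c < 20 := hc
  by_cases h0 : c < 20
  · exact rowOK_of_rowsOK killH2_rows0 (by omega) (by omega)
  omega

theorem killH2_live_zero : killH2.live.get 15 0 = 0 := by decide +kernel

theorem killH3_facts0 : factsOK killH3 0 2563 = true := by decide +kernel

theorem killH3_rows0 : rowsOK killH3 0 40 = true := by decide +kernel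

theorem killH3_fact_ok : ∀ i < killH3.nFacts, factOK killH3 i = true := by
  intro i hi
  replace hi : i < 2563 := hi
  by_cases h0 : i < 2563
  · exact factOK_of_factsOK killH3_facts0 (by omega) (by omega)
  omega

theorem killH3_row_ok : ∀ c < killH3.nLive, rowOK killH3 c = true := by
  intro c hc
  replace hc : c < 40 := hc
  by_cases h0 : c < 40
  · exact rowOK_of_rowsOK killH3_rows0 (by omega) (by omega)
  omega

theorem killH3_live_zero : killH3.live.get 15 0 = 0 := by decide +kernel

theorem killH4_facts0 : factsOK killH4 0 2332 = true := by decide +kernel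

theorem killH4_rows0 : rowsOK killH4 0 20 = true := by decide +kernel

theorem killH4_fact_ok : ∀ i < killH4.nFacts, factOK killH4 i = true := by
  intro i hi
  replace hi : i < 2332 := hi
  by_cases h0 : i < 2332
  · exact factOK_of_factsOK killH4_facts0 (by omega) (by omega)
  omega

theorem killH4_row_ok : ∀ c < killH4.nLive, rowOK killH4 c = true := by
  intro c hc
  replace hc : c < 20 := hc
  by_cases h0 : c < 20
  · exact rowOK_of_rowsOK killH4_rows0 (by omega) (by omega)
  omega

theorem killH4_live_zero : killH4.live.get 15 0 = 0 := by decide +kernel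

theorem killH5_facts0 : factsOK killH5 0 2585 = true := by decide +kernel

theorem killH5_rows0 : rowsOK killH5 0 40 = true := by decide +kernel

theorem killH5_fact_ok : ∀ i < killH5.nFacts, factOK killH5 i = true := by
  intro i hi
  replace hi : i < 2585 := hi
  by_cases h0 : i < 2585
  · exact factOK_of_factsOK killH5_facts0 (by omega) (by omega)
  omega

theorem killH5_row_ok : ∀ c < killH5.nLive, rowOK killH5 c = true := by
  intro c hc
  replace hc : c < 40 := hc
  by_cases h0 : c < 40
  · exact rowOK_of_rowsOK killH5_rows0 (by omega) (by omega)
  omega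

theorem killH5_live_zero : killH5.live.get 15 0 = 0 := by decide +kernel

theorem killH6_facts0 : factsOK killH6 0 2168 = true := by decide +kernel

theorem killH6_rows0 : rowsOK killH6 0 20 = true := by decide +kernel

theorem killH6_fact_ok : ∀ i < killH6.nFacts, factOK killH6 i = true := by
  intro i hi
  replace hi : i < 2168 := hi
  by_cases h0 : i < 2168
  · exact factOK_of_factsOK killH6_facts0 (by omega) (by omega)
  omega

theorem killH6_row_ok : ∀ c < killH6.nLive, rowOK killH6 c = true := by
  intro c hc
  replace hc : c < 20 := hc
  by_cases h0 : c < 20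
  · exact rowOK_of_rowsOK killH6_rows0 (by omega) (by omega)
  omega

theorem killH6_live_zero : killH6.live.get 15 0 = 0 := by decide +kernel

end Cfsg.Lib.HSType
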