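import Cfsg.Agent.Lib.HSType.DCand
import Cfsg.Agent.Lib.HSType.HCertChecks

/-!
# The relations in the centraliser of `t`
-/

set_option autoImplicit false
set_option linter.style.haveILetI false
set_option linter.unusedSectionVars false
set_option maxRecDepth 100000
set_option maxHeartbeats 1000000

namespace Cfsg.Lib.HSType

open Subgroup Cfsg.Lib.J3Type
open scoped commutatorElement

variable {G : Type*} [Group G] [Finite G] {t c y s x d : G} {R Cy V A M : Subgroup G}

/-- The letters common to the two subgroups. -/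
def domB : List ℕ := [0, 1, 2, 3, 4, 5, 8, 9]

/-- The letters of the centraliser. -/
def domH : List ℕ := [0, 1, 2, 3, 4, 5, 6, 8, 9]

/-- The relators with the squares of `d` and `d * s` given as powers of `c`. -/
def hRels (i j : ℕ) : List (List ℕ) :=
  [[12, 0, 13, 0], [12, 6, 13, 7], [12, 10, 13, 11], [12, 2, 2, 13, 11, 3, 3, 1, 1],
    [12, 12] ++ List.replicate i 1, [12, 8, 12, 8] ++ List.replicate j 1,
    [12, 2, 8, 3, 12, 2, 8, 3, 12, 2, 8, 3]]

theorem cert_rules_H : certOK domB [] kCert = true ∧ certOK domB (hRels 0 2) hCert = true ∧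
    certOK domB (hRels 0 0) killH0 = true ∧ certOK domB (hRels 0 1) killH1 = true ∧
    certOK domB (hRels 0 3) killH2 = true ∧ certOK domB (hRels 2 0) killH3 = true ∧
    certOK domB (hRels 2 1) killH4 = true ∧ certOK domB (hRels 2 2) killH5 = true ∧
    certOK domB (hRels 2 3) killH6 = true := by decide +kernel

theorem cube_shift {g c : G} {m : ℕ} (hgc : g * c = c * g) (h3 : g * g * g = c ^ m) (h4 : c ^ 4 = 1) :
    g * (c ^ (3 * m))⁻¹ * (g * (c ^ (3 * m))⁻¹) * (g * (c ^ (3 * m))⁻¹) = 1 := by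
  have hk : Commute g (c ^ (3 * m))⁻¹ := ((Commute.pow_right hgc _)).inv_right
  rw [← pow_two, ← pow_succ, hk.mul_pow, inv_pow, mul_inv_eq_one, pow_succ, pow_two, h3, ← pow_mul,
    show 3 * m * (2 + 1) = m + 4 * (2 * m) by ring, pow_add c m, pow_mul c 4, h4, one_pow, mul_one]

namespace MPre

variable (h : MPre t c y s x A M) (L : Loc t R Cy V A M)
include h L

/-- Replace `d` so that the cube is trivial. -/
theorem fix_cube (hS : RSem c y s x R rTabA) (hd : DPre t c y s x d R)
    (hv : d * (cOne c x * cOne c x) * d⁻¹ = t * (cOne c x * cOne c x) * wEl s x)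
    (hw : d * wEl s x * d⁻¹ = wEl s x)
    (hf : ∀ n, n < 64 → rTabA.fImg 42 2 n < 64 ∧
      d * wThree c s x * wval (lets c y s x d) (rTabA.word n) * (d * wThree c s x)⁻¹ =
        wval (lets c y s x d) (rTabA.word (rTabA.fImg 42 2 n))) :
    ∃ d i j, (i = 0 ∨ i = 2) ∧ j < 4 ∧ DPre t c y s x d R ∧
      ∀ r ∈ hRels i j, wval (lets c y s x d) r = 1 := by
  classical
  have O := shapeOK hS.shape
  have hcR := h.commute_c_R L hS
  obtain ⟨g, hgd⟩ : ∃ g, d * wThree c s x = g := ⟨_, rfl⟩
  have hgen : ∀ k ∈ ([16, 8, 4, 2, 1] : List ℕ),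
      Commute (g * g * g) (wval (lets c y s x d) (rTabA.word k)) := by
    intro k hk
    have hk64 : k < 64 := (by decide : ∀ k ∈ ([16, 8, 4, 2, 1] : List ℕ), k < 64) k hk
    have e := Nat.eq_of_beq_eq_true (List.all_eq_true.1 cubeA k hk)
    obtain ⟨a, b⟩ := hf k hk64
    obtain ⟨a', b'⟩ := hf _ a
    obtain ⟨-, b''⟩ := hf _ a'
    rw [hgd] at b b' b''
    show g * g * g * _ = _ * (g * g * g)
    rw [← mul_inv_eq_iff_eq_mul]
    conv_rhs => rw [← e, ← b'', ← b', ← b]
    group
  obtain ⟨m, -, hm⟩ := h.cen_R L hS O.form O.cen (g := g * g * g) fun u hu => by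
    obtain ⟨n, hn, rfl⟩ := hS.cover d u hu
    rw [RTab.word]
    simp only [wval_append, wval_repW, O.gens, List.getD_cons_zero, List.getD_cons_succ]
    exact ((hgen 16 (by decide)).pow_right _).mul_right (((hgen 8 (by decide)).pow_right _).mul_right
      (((hgen 4 (by decide)).pow_right _).mul_right (((hgen 2 (by decide)).pow_right _).mul_right
        ((hgen 1 (by decide)).pow_right _))))
  have h4 := h.core.tri.pa
  -- `wThree` and `d` invert `c`
  have s3 : wThree c s x * c * (wThree c s x)⁻¹ = c⁻¹ := by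
    rw [wThree, show cOne c x * s * (cOne c x)⁻¹ * c * (cOne c x * s * (cOne c x)⁻¹)⁻¹
      = cOne c x * (s * ((cOne c x)⁻¹ * c * cOne c x) * s⁻¹) * (cOne c x)⁻¹ by group,
      show (cOne c x)⁻¹ * c * cOne c x = c by rw [mul_assoc, h.core.tri.ab.eq]; group, h.core.sc,
      (h.core.tri.ab.inv_left.symm).eq, mul_inv_cancel_right]
  have gc : g * c = c * g := by
    rw [← mul_inv_eq_iff_eq_mul, ← hgd,
      show d * wThree c s x * c * (d * wThree c s x)⁻¹ = d * (wThree c s x * c * (wThree c s x)⁻¹) * d⁻¹ by group,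
      s3, show d * c⁻¹ * d⁻¹ = (d * c * d⁻¹)⁻¹ by group, hd.dc, inv_inv]
  obtain ⟨b, hb⟩ : ∃ b, c ^ (3 * m) = b := ⟨_, rfl⟩
  have bt : b * t = t * b := hb ▸ (Commute.pow_left (h.cH L) _).eq
  have byc : b * y = y * b := by
    rw [← hb]; exact (Commute.pow_left (mul_inv_eq_iff_eq_mul.1 h.core.yc).symm _).eq
  have sb : s * b * s⁻¹ = b⁻¹ := by rw [← hb, ← conj_pow, h.core.sc, inv_pow]
  have db : d * b * d⁻¹ = b⁻¹ := by rw [← hb, ← conj_pow, hd.dc, inv_pow]
  have wb : wThree c s x * b * (wThree c s x)⁻¹ = b⁻¹ := by rw [← hb, ← conj_pow, s3, inv_pow]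
  have bR : b ∈ R := hb ▸ pow_mem (h.R_facts L).1 _
  have bcR : ∀ u ∈ R, Commute b u := fun u hu => hb ▸ (hcR u hu).pow_left _
  have cube : d * b * wThree c s x * (d * b * wThree c s x) * (d * b * wThree c s x) = 1 := by
    have wb' : wThree c s x * b⁻¹ * (wThree c s x)⁻¹ = b := by
      rw [show wThree c s x * b⁻¹ * (wThree c s x)⁻¹ = (wThree c s x * b * (wThree c s x)⁻¹)⁻¹ by group, wb, inv_inv]
    have e : d * b * wThree c s x = g * b⁻¹ := by
      rw [← hgd]; nth_rw 1 [← wb']; group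
    rw [e, ← hb]
    exact cube_shift gc hm h4
  have vR : cOne c x * cOne c x ∈ R := L.V_le (h.v1_mem L)
  have wR : wEl s x ∈ R := by
    have := hS.mem d 2 (by norm_num)
    rwa [show rTabA.word 2 = [10] by decide +kernel, show wval (lets c y s x d) [10] = wEl s x by
      simp [wval, lval, lets, idL]] at this
  have hd' : DPre t c y s x (d * b) R := by
    refine ⟨?_, ?_, ?_, ?_, by rw [cube]; exact one_mem _, ?_, ?_⟩
    · exact (Commute.mul_left hd.dt bt).eq
    · exact (Commute.mul_left hd.dy byc).eq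
    · rw [show d * b * (d * b) = (d * b * d⁻¹) * (d * d) * b by group, db]
      exact mul_mem (mul_mem (inv_mem bR) hd.d2) bR
    · have kb : Commute (d * s) b := by
        refine mul_inv_eq_iff_eq_mul.1 ?_
        rw [show d * s * b * (d * s)⁻¹ = d * (s * b * s⁻¹) * d⁻¹ by group, sb,
          show d * b⁻¹ * d⁻¹ = (d * b * d⁻¹)⁻¹ by group, db, inv_inv]
      have sb' : b * s = s * b⁻¹ := by
        refine (mul_inv_eq_iff_eq_mul.1 ?_).symm
        rw [show s * b⁻¹ * s⁻¹ = (s * b * s⁻¹)⁻¹ by group, sb, inv_inv]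
      rw [mul_assoc d b s, sb', show d * (s * b⁻¹) * (d * (s * b⁻¹)) = d * s * b⁻¹ * (d * s * b⁻¹) by group,
        Commute.mul_mul_mul_comm kb.inv_right.symm]
      exact mul_mem hd.ds (mul_mem (inv_mem bR) (inv_mem bR))
    · rw [show d * b * c * (d * b)⁻¹ = d * (b * c * b⁻¹) * d⁻¹ by group,
        show b * c * b⁻¹ = c by rw [← hb, ((Commute.refl c).pow_left _).eq, mul_inv_cancel_right], hd.dc]
    · intro H0 hR hy hs hc hdd
      refine hd.gen H0 hR hy hs hc ?_
      have := mul_mem hdd (inv_mem (hR bR))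
      rwa [mul_inv_cancel_right] at this
  obtain ⟨d', hdd⟩ : ∃ d', d * b = d' := ⟨_, rfl⟩
  rw [hdd] at hd' cube
  have conjeq : ∀ u ∈ R, d' * u * d'⁻¹ = d * u * d⁻¹ := by
    intro u hu
    rw [← hdd, show d * b * u * (d * b)⁻¹ = d * (b * u * b⁻¹) * d⁻¹ by group, (bcR u hu).eq, mul_inv_cancel_right]
  obtain ⟨i, hi4, hi⟩ := h.R_fix L hS O.form O.fix hd'.d2 (by rw [mul_assoc, hd'.dy, ← mul_assoc, hd'.dy, mul_assoc])
  have dsy : d' * s * (d' * s) * y = y * (d' * s * (d' * s)) := by
    have k : d' * s * y * (d' * s)⁻¹ = y⁻¹ := by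
      rw [show d' * s * y * (d' * s)⁻¹ = d' * (s * y * s⁻¹) * d'⁻¹ by group, mul_eq_one_iff_eq_inv.1 h.core.sy,
        show d' * y⁻¹ * d'⁻¹ = (d' * y * d'⁻¹)⁻¹ by group, hd'.dy, mul_inv_cancel_right]
    rw [← mul_inv_eq_iff_eq_mul, show d' * s * (d' * s) * y * (d' * s * (d' * s))⁻¹
      = d' * s * (d' * s * y * (d' * s)⁻¹) * (d' * s)⁻¹ by group, k,
      show d' * s * y⁻¹ * (d' * s)⁻¹ = (d' * s * y * (d' * s)⁻¹)⁻¹ by group, k, inv_inv]
  obtain ⟨j, hj4, hj⟩ := h.R_fix L hS O.form O.fix hd'.ds dsy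
  have ieven : i = 0 ∨ i = 2 := by
    have k : d' * (d' * d') * d'⁻¹ = (d' * d')⁻¹ := by rw [hi, ← conj_pow, hd'.dc, inv_pow]
    rw [show d' * (d' * d') * d'⁻¹ = d' * d' by group, hi, eq_inv_iff_mul_eq_one, ← pow_add] at k
    interval_cases i
    · exact Or.inl rfl
    · exfalso; exact L.tne (by rw [← h.csq, ← pow_two]; exact k)
    · exact Or.inr rfl
    · exfalso
      refine L.tne ?_
      rw [← h.csq, ← pow_two]
      rwa [show c ^ (3 + 3) = c ^ 2 from pow_eq_pow_mod 6 h4] at k
  refine ⟨d', i, j, ieven, hj4, hd', ?_⟩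
  intro r hr
  simp only [hRels, List.mem_cons, List.not_mem_nil, or_false] at hr
  have e : ∀ l, wval (lets c y s x d') l = (l.map (lval (lets c y s x d'))).prod := fun _ => rfl
  have rep : ∀ k, wval (lets c y s x d') (List.replicate k 1) = (c ^ k)⁻¹ := fun k => by
    simp [e, lval, lets, idL]
  rcases hr with rfl | rfl | rfl | rfl | rfl | rfl | rfl
  · simp only [e, lval, lets, idL, List.map, List.prod_cons, List.prod_nil, mul_one, Nat.reduceDiv, Nat.reduceMod,
      Nat.reduceLeDiff, if_true, if_false, one_ne_zero]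
    rw [← mul_assoc, ← mul_assoc, hd'.dc, inv_mul_cancel]
  · simp only [e, lval, lets, idL, List.map, List.prod_cons, List.prod_nil, mul_one, Nat.reduceDiv, Nat.reduceMod,
      Nat.reduceLeDiff, if_true, if_false, one_ne_zero]
    rw [← mul_assoc, hd'.dy]; group
  · simp only [e, lval, lets, idL, List.map, List.prod_cons, List.prod_nil, mul_one, Nat.reduceDiv, Nat.reduceMod,
      Nat.reduceLeDiff, if_true, if_false, one_ne_zero]
    rw [← mul_assoc, ← mul_assoc, conjeq _ wR, hw, mul_inv_cancel]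
  · simp only [e, lval, lets, idL, List.map, List.prod_cons, List.prod_nil, mul_one, Nat.reduceDiv, Nat.reduceMod,
      Nat.reduceLeDiff, if_true, if_false, one_ne_zero]
    rw [show d' * (cOne c x * (cOne c x * (d'⁻¹ * ((wEl s x)⁻¹ * ((cOne c x)⁻¹ * ((cOne c x)⁻¹ * (c⁻¹ * c⁻¹)))))))
      = d' * (cOne c x * cOne c x) * d'⁻¹ * (c * c * (cOne c x * cOne c x) * wEl s x)⁻¹ by group,
      conjeq _ vR, hv, h.csq, mul_inv_cancel]
  · rw [wval_append, rep, show wval (lets c y s x d') [12, 12] = d' * d' by simp [e, lval, lets, idL], hi,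
      mul_inv_cancel]
  · rw [wval_append, rep, show wval (lets c y s x d') [12, 8, 12, 8] = d' * s * (d' * s) by
      simp [e, lval, lets, idL, mul_assoc], hj, mul_inv_cancel]
  · simp only [e, lval, lets, idL, List.map, List.prod_cons, List.prod_nil, mul_one, Nat.reduceDiv, Nat.reduceMod,
      Nat.reduceLeDiff, if_true, if_false, one_ne_zero]
    rw [← cube, wThree]; group

theorem letG_H (hd : DPre t c y s x d R) (hS : RSem c y s x R rTabA) :
    letG (lets c y s x d) [0, 1, 2, 3, 4, 5, 6] = centralizer ({t} : Set G) ∧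
      letG (lets c y s x d) domH = centralizer ({t} : Set G) := by
  set f := lets c y s x d with hf
  have mc : ∀ {g : G}, g * t = t * g → g ∈ centralizer ({t} : Set G) := mem_centralizer_singleton_iff.2
  have hc := mc (h.cH L)
  have h1 := mc (h.c1H L)
  have h2 : cTwo c x ∈ centralizer ({t} : Set G) := mc (A_le_cen h L (L.conj_A h.xM (L.conj_A h.xM h.cA)))
  have hy := mc (h.y_comm_t L)
  have hs := mc (h.s_comm_t L)
  have hd0 := mc hd.dt
  have hw : wEl s x ∈ centralizer ({t} : Set G) := by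
    have := L.R_le (hS.mem d 2 (by norm_num))
    rwa [show rTabA.word 2 = [10] by decide +kernel, show wval (lets c y s x d) [10] = wEl s x by
      simp [wval, lval, lets, idL]] at this
  have hge : centralizer ({t} : Set G) ≤ letG f [0, 1, 2, 3, 4, 5, 6] := by
    refine hd.gen _ ?_ (mem_letG (g := f) (j := 3) (by decide)) (mem_letG (g := f) (j := 4) (by decide))
      (mem_letG (g := f) (j := 1) (by decide)) (mem_letG (g := f) (j := 6) (by decide))
    intro u hu
    obtain ⟨n, hn, rfl⟩ := hS.cover d u hu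
    refine wval_mem_letG f fun l hl => ?_
    have F := List.all_eq_true.1 formA n (List.mem_range.2 hn)
    simp only [Bool.and_eq_true] at F
    have := List.all_eq_true.1 F.1.1.1 l hl
    rw [List.any_eq_true] at this
    obtain ⟨k, hk, e⟩ := this
    rw [show l / 2 = k from Nat.eq_of_beq_eq_true e]
    exact (by decide : ∀ k ∈ [0, 1, 2, 3, 4, 5], k ∈ [0, 1, 2, 3, 4, 5, 6]) k hk
  have hle : letG f domH ≤ centralizer ({t} : Set G) := by
    refine (closure_le _).2 ?_
    rintro _ ⟨j, hj, rfl⟩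
    simp only [domH, List.mem_cons, List.not_mem_nil, or_false] at hj
    rcases hj with rfl | rfl | rfl | rfl | rfl | rfl | rfl | rfl | rfl
    exacts [hc, h1, h2, hy, hs, hw, hd0, mul_mem (mul_mem (mul_mem (inv_mem hc) h1) hy) hw,
      mul_mem (mul_mem (mul_mem (mul_mem (inv_mem hc) (inv_mem hy)) h1) hs) hw]
  have hm : letG f [0, 1, 2, 3, 4, 5, 6] ≤ letG f domH := letG_mono fun j hj =>
    mem_letG ((by decide : ∀ j ∈ [0, 1, 2, 3, 4, 5, 6], j ∈ domH) j hj)
  exact ⟨le_antisymm (hm.trans hle) hge, le_antisymm hle (hge.trans hm)⟩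

theorem valid_H {g : ℕ → G} {K : J3Type.Cert} {H : Subgroup G} {Rl : List (List ℕ)}
    (hg : g = lets c y s x d) (hR : ∀ r ∈ Rl, wval g r = 1) (hK : certOK domB Rl K = true)
    (hs : ∀ l ∈ K.subs, lval g l ∈ H) : Valid K g H := by
  refine ⟨fun ws hws w hw => ?_, hs⟩
  have := List.all_eq_true.1 (List.all_eq_true.1 hK ws hws) w hw
  simp only [Bool.or_eq_true, Bool.and_eq_true] at this
  rcases this with ⟨h1, h2⟩ | h1
  · subst hg
    refine (h.rel_iff L d w fun l hl => ?_).1 (evB_spec h2)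
    exact (by decide : ∀ k ∈ domB, k ∈ domM) _ (inD_spec h1 l hl).1
  · exact wval_isRule hR h1

theorem valid_pairs {K : J3Type.Cert} {H : Subgroup (G × Equiv.Perm (Fin 100))} {Rl : List (List ℕ)}
    (hR : ∀ r ∈ Rl, wval (pairF (lets c y s x d)) r = 1) (hK : certOK domB Rl K = true)
    (hs : ∀ l ∈ K.subs, lval (pairF (lets c y s x d)) l ∈ H) : Valid K (pairF (lets c y s x d)) H := by
  refine ⟨fun ws hws w hw => ?_, hs⟩
  have := List.all_eq_true.1 (List.all_eq_true.1 hK ws hws) w hw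
  simp only [Bool.or_eq_true, Bool.and_eq_true] at this
  rcases this with ⟨h1, h2⟩ | h1
  · rw [wval_pairF, evB_spec h2, (h.rel_iff L d w fun l hl =>
      (by decide : ∀ k ∈ domB, k ∈ domM) _ (inD_spec h1 l hl).1).1 (evB_spec h2)]
    rfl
  · exact wval_isRule hR h1

theorem kill_H (hd : DPre t c y s x d R) (hS : RSem c y s x R rTabA) {i j : ℕ}
    (hR : ∀ r ∈ hRels i j, wval (lets c y s x d) r = 1) {K : J3Type.Cert} {n : ℕ}
    (hK : certOK domB (hRels i j) K = true) (hsub : K.subs = [16, 18])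
    (hgens : K.gens = [0, 1, 2, 3, 4, 5, 6].map (2 * ·)) (hn : K.nLive = n) (hpos : 0 < n) (hle : n ≤ 40)
    (h1 : ∀ k < K.nFacts, factOK K k = true) (h2 : ∀ k < K.nLive, rowOK K k = true)
    (h0 : K.live.get 15 0 = 0) : False := by
  set f := lets c y s x d
  have hk : Nat.card (letG f [8, 9]) ≤ 96 * Nat.card (⊥ : Subgroup G) :=
    cert_bound (h.valid_H L rfl (by simp) cert_rules_H.1 (by
        intro l hl; simp [show kCert.subs = [] from rfl] at hl))
      kCert_fact_ok kCert_row_ok kCert_live_zero (n := 96) rfl (by norm_num) rfl (by decide)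
  rw [Subgroup.card_bot, mul_one] at hk
  have hH : Nat.card (letG f [0, 1, 2, 3, 4, 5, 6]) ≤ n * Nat.card (letG f [8, 9]) :=
    cert_bound (h.valid_H L rfl hR hK (by
        intro l hl
        rw [hsub] at hl
        simp only [List.mem_cons, List.not_mem_nil, or_false] at hl
        rcases hl with rfl | rfl
        · exact mem_letG (g := f) (j := 8) (by decide)
        · exact mem_letG (g := f) (j := 9) (by decide)))
      h1 h2 h0 hn hpos hgens (by decide)
  rw [(h.letG_H L hd hS).1, L.cardH] at hH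
  have := Nat.mul_le_mul hle hk
  omega

/-- The relators of the centraliser hold. -/
theorem exists_H : ∃ s' d : G, MPre t c y s' x A M ∧ RSem c y s' x R rTabA ∧ DPre t c y s' x d R ∧
    ∀ r ∈ hRels 0 2, wval (lets c y s' x d) r = 1 := by
  obtain ⟨s', d, h', hS, hd, hv, hw, hf⟩ := h.exists_std L
  obtain ⟨d', i, j, hi, hj, hd', hR⟩ := h'.fix_cube L hS hd hv hw hf
  obtain ⟨-, -, k0, k1, k2, k3, k4, k5, k6⟩ := cert_rules_H
  refine ⟨s', d', h', hS, hd', ?_⟩
  rcases hi with rfl | rfl <;> interval_cases j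
  · exact (h'.kill_H L hd' hS hR k0 rfl rfl (n := 40) rfl (by norm_num) (by norm_num) killH0_fact_ok killH0_row_ok killH0_live_zero).elim
  · exact (h'.kill_H L hd' hS hR k1 rfl rfl (n := 20) rfl (by norm_num) (by norm_num) killH1_fact_ok killH1_row_ok killH1_live_zero).elim
  · exact hR
  · exact (h'.kill_H L hd' hS hR k2 rfl rfl (n := 20) rfl (by norm_num) (by norm_num) killH2_fact_ok killH2_row_ok killH2_live_zero).elim
  · exact (h'.kill_H L hd' hS hR k3 rfl rfl (n := 40) rfl (by norm_num) (by norm_num) killH3_fact_ok killH3_row_ok killH3_live_zero).elim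
  · exact (h'.kill_H L hd' hS hR k4 rfl rfl (n := 20) rfl (by norm_num) (by norm_num) killH4_fact_ok killH4_row_ok killH4_live_zero).elim
  · exact (h'.kill_H L hd' hS hR k5 rfl rfl (n := 40) rfl (by norm_num) (by norm_num) killH5_fact_ok killH5_row_ok killH5_live_zero).elim
  · exact (h'.kill_H L hd' hS hR k6 rfl rfl (n := 20) rfl (by norm_num) (by norm_num) killH6_fact_ok killH6_row_ok killH6_live_zero).elim

end MPre

end Cfsg.Lib.HSType
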