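import Cfsg.Agent.Lib.HSType.HRel

/-!
# The model decides relations in the centraliser of `t`
-/

set_option autoImplicit false
set_option linter.style.haveILetI false
set_option linter.unusedSectionVars false
set_option maxRecDepth 100000
set_option maxHeartbeats 1000000

namespace Cfsg.Lib.HSType

open Subgroup Cfsg.Lib.J3Type
open scoped commutatorElement

variable {G : Type*} [Group G] [Finite G] {t c y s x d : G} {R Cy V A M : Subgroup G}

theorem orbit_words : ∀ i < 7, ∀ k < 7, i ≠ k →
    evB (List.replicate i 14 ++ List.replicate k 15 ++ [0, 0] ++ List.replicate k 14 ++ List.replicate i 15 ++ [1, 1])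
      = false := by
  decide +kernel

namespace MPre

variable (h : MPre t c y s x A M) (L : Loc t R Cy V A M)
include h L

/-- A letter that is a word is that word in the pairs. -/
theorem pair_word (d : G) {j : ℕ} {w : List ℕ} (e : eqB [2 * j] w = true) (hj : j < 11) (hw : ∀ l ∈ w, l < 22)
    (e' : lets c y s x d j = wval (lets c y s x d) w) :
    pairF (lets c y s x d) j = wval (pairF (lets c y s x d)) w := by
  rw [wval_pairF, ← (eqB_iff (by simpa using (by omega : 2 * j < 22)) hw).1 e, ← e']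
  simp [pairF, wval, lval_lets_even (g := gHS) (by omega : j < 15)]

theorem card_MH : Nat.card (M ⊓ centralizer ({t} : Set G) : Subgroup G) ≤ 1536 := by
  classical
  let F : (M ⊓ centralizer ({t} : Set G) : Subgroup G) × Fin 7 → M := fun p =>
    ⟨(p.1 : G) * x ^ (p.2 : ℕ), mul_mem (Subgroup.mem_inf.1 p.1.2).1 (pow_mem h.xM _)⟩
  have hF : Function.Injective F := by
    rintro ⟨u, i⟩ ⟨u', k⟩ e
    have e' : (u : G) * x ^ (i : ℕ) = (u' : G) * x ^ (k : ℕ) := congrArg Subtype.val e
    have hik : i = k := by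
      by_contra hne
      set w := List.replicate (i : ℕ) 14 ++ List.replicate (k : ℕ) 15 ++ [0, 0] ++ List.replicate (k : ℕ) 14 ++
        List.replicate (i : ℕ) 15 ++ [1, 1] with hw
      have hd : ∀ l ∈ w, l / 2 ∈ domM ∧ l < 22 := by
        intro l hl
        simp only [hw, List.mem_append, List.mem_replicate, List.mem_cons, List.not_mem_nil, or_false] at hl
        rcases hl with ((((⟨-, rfl⟩ | ⟨-, rfl⟩) | rfl | rfl) | ⟨-, rfl⟩) | ⟨-, rfl⟩) | rfl | rfl <;> decide
      have hz : x ^ (i : ℕ) * (x ^ (k : ℕ))⁻¹ * t * (x ^ (i : ℕ) * (x ^ (k : ℕ))⁻¹)⁻¹ = t := by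
        have he : x ^ (i : ℕ) * (x ^ (k : ℕ))⁻¹ = (u : G)⁻¹ * u' := by
          rw [mul_inv_eq_iff_eq_mul, mul_assoc, ← e', inv_mul_cancel_left]
        rw [he, mem_centralizer_singleton_iff.1
          (mul_mem (inv_mem (Subgroup.mem_inf.1 u.2).2) (Subgroup.mem_inf.1 u'.2).2), mul_inv_cancel_right]
      refine not_evB (orbit_words i i.2 k k.2 fun q => hne (Fin.ext q)) (fun l hl => (hd l hl).2)
        ((h.rel_iff L 1 w fun l hl => (hd l hl).1).2 ?_)
      have e1 : wval (lets c y s x (1 : G)) w = x ^ (i : ℕ) * (x ^ (k : ℕ))⁻¹ * (c * c) *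
          x ^ (k : ℕ) * (x ^ (i : ℕ))⁻¹ * (c * c)⁻¹ := by
        simp [hw, wval, lval, lets, idL, mul_assoc]
      rw [e1, h.csq]
      calc x ^ (i : ℕ) * (x ^ (k : ℕ))⁻¹ * t * x ^ (k : ℕ) * (x ^ (i : ℕ))⁻¹ * t⁻¹
          = x ^ (i : ℕ) * (x ^ (k : ℕ))⁻¹ * t * (x ^ (i : ℕ) * (x ^ (k : ℕ))⁻¹)⁻¹ * t⁻¹ := by group
        _ = 1 := by rw [hz, mul_inv_cancel]
    subst hik
    exact Prod.ext (Subtype.ext (mul_right_cancel e')) rfl
  have := Nat.card_le_card_of_injective F hF
  rw [Nat.card_prod, Nat.card_fin, L.cardM] at this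
  omega

theorem pairs_H (hd : DPre t c y s x d R) (hS : RSem c y s x R rTabA)
    (hR : ∀ r ∈ hRels 0 2, wval (lets c y s x d) r = 1) :
    Nat.card (letG (pairF (lets c y s x d)) domH) ≤ 7680 := by
  classical
  set f := lets c y s x d with hf
  set g := pairF f with hg
  have hsub : letG g domH ≤ letG g [0, 1, 2, 3, 4, 5, 6] := letG_mono fun j hj => by
    simp only [domH, List.mem_cons, List.not_mem_nil, or_false] at hj
    rcases hj with rfl | rfl | rfl | rfl | rfl | rfl | rfl | rfl | rfl <;>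
      try exact mem_letG (by decide)
    · rw [hg, h.pair_word L d (j := 8) (w := kWord0) (by decide +kernel) (by norm_num) (by decide)
        (kWord0_val c y s x d)]
      exact wval_mem_letG _ (by decide)
    · rw [hg, h.pair_word L d (j := 9) (w := kWord1) (by decide +kernel) (by norm_num) (by decide)
        (kWord1_val c y s x d)]
      exact wval_mem_letG _ (by decide)
  refine le_trans (card_le_of_le hsub) ?_
  have hRp : ∀ r ∈ hRels 0 2, wval g r = 1 := by
    intro r hr
    rw [hg, wval_pairF, hR r hr,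
      evB_spec (List.all_eq_true.1 (show ((hRels 0 2).all evB) = true by decide +kernel) r hr)]
    rfl
  have hH : Nat.card (letG g [0, 1, 2, 3, 4, 5, 6]) ≤ 5 * Nat.card (letG g [0, 1, 2, 3, 4, 5]) :=
    cert_bound (h.valid_pairs L hRp cert_rules_H.2.1 (by
        intro l hl
        simp only [show hCert.subs = [0, 2, 4, 6, 8, 10] from rfl, List.mem_cons, List.not_mem_nil, or_false] at hl
        rcases hl with rfl | rfl | rfl | rfl | rfl | rfl
        · exact mem_letG (g := g) (j := 0) (by decide)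
        · exact mem_letG (g := g) (j := 1) (by decide)
        · exact mem_letG (g := g) (j := 2) (by decide)
        · exact mem_letG (g := g) (j := 3) (by decide)
        · exact mem_letG (g := g) (j := 4) (by decide)
        · exact mem_letG (g := g) (j := 5) (by decide)))
      hCert_fact_ok hCert_row_ok hCert_live_zero (n := 5) rfl (by norm_num) rfl (by decide)
  -- the first projection is injective on the pairs of the normaliser
  have hbij : ∀ p ∈ letG g domM, p.1 = 1 → p = 1 := by
    let π : letG g domM →* G := (MonoidHom.fst G (Equiv.Perm (Fin 100))).comp (letG g domM).subtype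
    have hr : π.range = M := by
      rw [MonoidHom.range_comp, Subgroup.range_subtype, letG_map]
      exact h.letG_domM L d
    have hb : Function.Bijective π.rangeRestrict :=
      (Nat.bijective_iff_surjective_and_card _).2 ⟨π.rangeRestrict_surjective,
        le_antisymm (by rw [hr, L.cardM]; exact h.pairs_M L d)
          (Nat.card_le_card_of_surjective _ π.rangeRestrict_surjective)⟩
    intro p hp e
    exact congrArg Subtype.val (hb.1 (a₁ := ⟨p, hp⟩) (a₂ := 1) (Subtype.ext e))
  have hB : Nat.card (letG g [0, 1, 2, 3, 4, 5]) ≤ 1536 := by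
    refine le_trans ?_ (h.card_MH L)
    have hBM : letG g [0, 1, 2, 3, 4, 5] ≤ letG g domM := letG_mono fun j hj =>
      mem_letG ((by decide : ∀ j ∈ [0, 1, 2, 3, 4, 5], j ∈ domM) j hj)
    have hmem : ∀ p ∈ letG g [0, 1, 2, 3, 4, 5], p.1 ∈ M ⊓ centralizer ({t} : Set G) := by
      intro p hp
      have h1 : p.1 ∈ letG f [0, 1, 2, 3, 4, 5] := by
        have : p.1 ∈ (letG g [0, 1, 2, 3, 4, 5]).map (MonoidHom.fst G (Equiv.Perm (Fin 100))) := ⟨p, hp, rfl⟩
        rwa [letG_map] at this
      refine Subgroup.mem_inf.2 ⟨?_, ?_⟩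
      · rw [← h.letG_domM L d]
        exact letG_mono (fun j hj => mem_letG ((by decide : ∀ j ∈ [0, 1, 2, 3, 4, 5], j ∈ domM) j hj)) h1
      · rw [← (h.letG_H L hd hS).2]
        exact letG_mono (fun j hj => mem_letG ((by decide : ∀ j ∈ [0, 1, 2, 3, 4, 5], j ∈ domH) j hj)) h1
    refine Nat.card_le_card_of_injective
      (fun p : letG g [0, 1, 2, 3, 4, 5] => (⟨_, hmem p p.2⟩ : (M ⊓ centralizer ({t} : Set G) : Subgroup G))) ?_
    intro p q e
    have e' : (p : G × Equiv.Perm (Fin 100)).1 = (q : G × Equiv.Perm (Fin 100)).1 := congrArg Subtype.val e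
    have := hbij _ (hBM (mul_mem p.2 (inv_mem q.2))) (by rw [Prod.fst_mul, Prod.fst_inv, e', mul_inv_cancel])
    exact Subtype.ext (mul_inv_eq_one.1 this)
  omega

/-- A nontrivial subgroup invariant under the centraliser of `t` contains `t`. -/
theorem t_mem_normal_H (hS : RSem c y s x R rTabA) {N : Subgroup G} (hN : N ≤ centralizer ({t} : Set G))
    (hn : ∀ g, g * t = t * g → ∀ n ∈ N, g * n * g⁻¹ ∈ N) (hne : N ≠ ⊥) : t ∈ N := by
  obtain ⟨n, hnN, hn1⟩ := N.bot_or_exists_ne_one.resolve_left hne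
  have rt : ∀ r ∈ R, r * t = t * r := fun r hr => mem_centralizer_singleton_iff.1 (L.R_le hr)
  have key : ∀ n ∈ N, n ∈ R → n ≠ 1 → t ∈ N := by
    intro n hnN hnR hn1
    by_cases hc : ∀ r ∈ R, Commute n r
    · obtain ⟨i, hi, rfl⟩ := h.cen_R L hS formA cenA.1 hc
      interval_cases i
      · exact absurd (pow_zero c) hn1
      · rw [pow_one] at hnN; rw [← h.csq]; exact mul_mem hnN hnN
      · rwa [pow_two, h.csq] at hnN
      · have := mul_mem hnN hnN
        rw [← pow_add] at this
        rw [← h.csq, ← pow_two]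
        rwa [show c ^ (3 + 3) = c ^ 2 from pow_eq_pow_mod 6 h.core.tri.pa] at this
    · push Not at hc
      obtain ⟨r, hr, hc⟩ := hc
      have e := (L.cm n hnR r hr).resolve_left fun e => hc (commutatorElement_eq_one_iff_commute.1 e)
      rw [← e, commutatorElement_def, show n * r * n⁻¹ * r⁻¹ = n * (r * n⁻¹ * r⁻¹) by group]
      exact mul_mem hnN (hn r (rt r hr) _ (inv_mem hnN))
  by_cases hc : ∀ r ∈ R, Commute n r
  · obtain ⟨i, -, rfl⟩ := h.cen_R L hS formA cenA.1 hc
    exact key _ hnN (pow_mem (h.R_facts L).1 _) hn1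
  · push Not at hc
    obtain ⟨r, hr, hc⟩ := hc
    refine key ⁅n, r⁆ ?_ ?_ fun e => hc (commutatorElement_eq_one_iff_commute.1 e)
    · rw [commutatorElement_def, show n * r * n⁻¹ * r⁻¹ = n * (r * n⁻¹ * r⁻¹) by group]
      exact mul_mem hnN (hn r (rt r hr) _ (inv_mem hnN))
    · rw [commutatorElement_def]
      exact mul_mem (L.R_norm n (mem_centralizer_singleton_iff.1 (hN hnN)) r hr) (inv_mem hr)

/-- The model decides the relations among the letters of the centraliser. -/
theorem rel_iff_H (hd : DPre t c y s x d R) (hS : RSem c y s x R rTabA)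
    (hR : ∀ r ∈ hRels 0 2, wval (lets c y s x d) r = 1) : ∀ w : List ℕ, (∀ l ∈ w, l / 2 ∈ domH) →
    (wval gHS w = 1 ↔ wval (lets c y s x d) w = 1) := by
  have hH := (h.letG_H L hd hS).2
  refine transfer (lets c y s x d) domH ?_ (wt := [0, 0]) (not_evB (by decide +kernel) (by decide)) (by decide) ?_
  · rw [hH, L.cardH]
    exact h.pairs_H L hd hS hR
  · intro N hN hne
    have hmap : t ∈ N.map (letG (lets c y s x d) domH).subtype := by
      refine h.t_mem_normal_H L hS (le_trans (map_subtype_le _) hH.le) ?_ ?_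
      · rintro g hg _ ⟨n, hn, rfl⟩
        have hg' : g ∈ letG (lets c y s x d) domH := hH.symm ▸ mem_centralizer_singleton_iff.2 hg
        exact ⟨⟨g, hg'⟩ * n * ⟨g, hg'⟩⁻¹, hN.conj_mem n hn _, rfl⟩
      · exact fun e => hne ((Subgroup.map_eq_bot_iff_of_injective _ (subtype_injective _)).1 e)
    obtain ⟨n, hn, e⟩ := hmap
    exact ⟨n, hn, e.trans (by simpa [wval, lval, lets, idL] using h.csq.symm)⟩

end MPre

end Cfsg.Lib.HSType
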