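import Cfsg.Agent.Lib.HSType.Embed
import Cfsg.Agent.Lib.HSType.Count
import Cfsg.Agent.Lib.HSType.CountModel

/-!
# A group of `HS` type is the Higman–Sims group
-/

set_option autoImplicit false
set_option linter.style.haveILetI false
set_option linter.unusedSectionVars false
set_option maxRecDepth 100000
set_option maxHeartbeats 1000000

namespace Cfsg.Lib.HSType

open Subgroup Cfsg.Lib.J3Type Cfsg.Lib.PermAut

variable {G : Type*} [Group G] [Finite G] {t c y s x d : G} {R Cy V A M : Subgroup G}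

/-- A subgroup of order nine. -/
theorem nine_dvd {a b : G} {H : Subgroup G} (ha : a ∈ H) (hb : b ∈ H) (hab : Commute a b) (a3 : a ^ 3 = 1)
    (b3 : b ^ 3 = 1) (h : ∀ i < 3, ∀ j < 3, a ^ i * b ^ j = 1 → i = 0 ∧ j = 0) : 9 ∣ Nat.card H := by
  classical
  let P := Multiplicative (ZMod 3 × ZMod 3)
  have hadd : ∀ {z : G}, z ^ 3 = 1 → ∀ i k : ZMod 3, z ^ (i + k).val = z ^ i.val * z ^ k.val :=
    fun hz i k => pow_val_add hz i k
  let φ : P →* H :=
    { toFun := fun p => ⟨a ^ (Multiplicative.toAdd p).1.val * b ^ (Multiplicative.toAdd p).2.val,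
        mul_mem (pow_mem ha _) (pow_mem hb _)⟩
      map_one' := Subtype.ext (by simp)
      map_mul' := fun p q => Subtype.ext (by
        show a ^ ((Multiplicative.toAdd p).1 + (Multiplicative.toAdd q).1).val *
            b ^ ((Multiplicative.toAdd p).2 + (Multiplicative.toAdd q).2).val =
          a ^ (Multiplicative.toAdd p).1.val * b ^ (Multiplicative.toAdd p).2.val *
            (a ^ (Multiplicative.toAdd q).1.val * b ^ (Multiplicative.toAdd q).2.val)
        rw [hadd a3, hadd b3]
        exact (hab.pow_pow _ _).mul_mul_mul_comm _ _) }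
  have hi : Function.Injective φ := by
    rw [injective_iff_map_eq_one]
    intro p hp
    obtain ⟨h1, h2⟩ := h _ (ZMod.val_lt _) _ (ZMod.val_lt _) (congrArg Subtype.val hp)
    exact Multiplicative.toAdd.injective (Prod.ext ((ZMod.val_eq_zero _).1 h1) ((ZMod.val_eq_zero _).1 h2))
  have := Subgroup.card_dvd_of_injective φ hi
  simpa [P, Nat.card_eq_fintype_card] using this

namespace MPre

variable (h : MPre t c y s x A M) (L : Loc t R Cy V A M)
include h L

theorem iso_hs (hd : DPre t c y s x d R) (hS : RSem c y s x R rTabA)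
    (hR : ∀ r ∈ hRels 0 2, wval (lets c y s x d) r = 1) : Cfsg.Spor.IsoHS G := by
  classical
  obtain ⟨φ, hφ, -, hC, hrange, hiff⟩ := h.embed L hd hS hR
  set f := lets c y s x d with hf
  have dom8 : ∀ {w : List ℕ}, (w.all fun l => Nat.blt (Nat.div l 2) 8 && Nat.blt l 22) = true →
      ∀ l ∈ w, l / 2 ∈ domAll ∧ l < 22 := by
    intro w hw l hl
    have := List.all_eq_true.1 hw l hl
    simp only [Bool.and_eq_true] at this
    exact ⟨(by decide : ∀ k < 8, k ∈ domAll) _ (Nat.lt_of_succ_le (Nat.le_of_ble_eq_true this.1)),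
      Nat.lt_of_succ_le (Nat.le_of_ble_eq_true this.2)⟩
  have iff' : ∀ w : List ℕ, (∀ l ∈ w, l / 2 ∈ domAll ∧ l < 22) → (wval gHS w = 1 ↔ wval f w = 1) := hiff
  have eqG : ∀ {w w' : List ℕ}, (∀ l ∈ w, l / 2 ∈ domAll ∧ l < 22) → (∀ l ∈ w', l / 2 ∈ domAll ∧ l < 22) →
      (eqB w w' = true ↔ wval f w = wval f w') := by
    intro w w' hw hw'
    rw [eqB_iff (fun l hl => (hw l hl).2) fun l hl => (hw' l hl).2, ← mul_inv_eq_one, ← wval_invW, ← wval_append,
      iff' _ (append_dom hw (invW_dom hw')), wval_append, wval_invW, mul_inv_eq_one]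
  have evG : ∀ {w : List ℕ}, (∀ l ∈ w, l / 2 ∈ domAll ∧ l < 22) → (evB w = true ↔ wval f w = 1) := by
    intro w hw
    rw [evB_eq, eqG hw (by simp), wval_nil]
  have inRange : ∀ {w : List ℕ}, (∀ l ∈ w, l / 2 ∈ domAll ∧ l < 22) → wval f w ∈ φ.range := by
    intro w hw
    rw [hrange]
    exact wval_mem_letG f fun l hl => (hw l hl).1
  have dT : ∀ l ∈ ([0, 0] : List ℕ), l / 2 ∈ domAll ∧ l < 22 := by decide
  have dU : ∀ l ∈ uZero, l / 2 ∈ domAll ∧ l < 22 := by decide
  have d2 : ∀ l ∈ uTwo, l / 2 ∈ domAll ∧ l < 22 := by decide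
  have dC : ∀ l ∈ uTwoConj, l / 2 ∈ domAll ∧ l < 22 := by decide
  have dA : ∀ l ∈ threeA, l / 2 ∈ domAll ∧ l < 22 := by decide
  have dB : ∀ l ∈ threeB, l / 2 ∈ domAll ∧ l < 22 := by decide
  have et : wval f [0, 0] = t := by simp [wval, lval, lets, idL, hf, h.csq]
  obtain ⟨r1, r2, r3, r4, r5, r6, r7, r8, r9, r10, r11⟩ := repB
  obtain ⟨u, hu⟩ : ∃ u, wval f uZero = u := ⟨_, rfl⟩
  have uu : u * u = 1 := by
    have := (evG (append_dom dU dU)).1 r1
    rwa [wval_append, hu] at this
  have ut : u * t = t * u := by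
    have := (eqG (append_dom dU dT) (append_dom dT dU)).1 r3
    rwa [wval_append, wval_append, hu, et] at this
  -- the words of the centraliser
  have dH : ∀ b i j k v, b < 24 → v < 5 → ∀ l ∈ hWord b i j k v, l / 2 ∈ domAll ∧ l < 22 := by
    intro b i j k v hb hv
    refine append_dom (append_dom ?_ ?_) ?_
    · intro l hl
      rw [List.getD_eq_getElem _ _ (by rw [bWords_ok.1]; exact hb)] at hl
      rcases bWords_ok.2.1 _ (List.getElem_mem _) l hl with rfl | rfl | rfl <;> decide
    · intro l hl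
      simp only [List.mem_append, List.mem_replicate] at hl
      rcases hl with (⟨-, rfl⟩ | ⟨-, rfl⟩) | ⟨-, rfl⟩ <;> decide
    · interval_cases v <;> decide
  have hcl : ∀ g, g * t = t * g → ∀ b i j k v, b < 24 → i < 4 → j < 4 → k < 4 → v < 5 →
      g = wval f (hWord b i j k v) → (g * g = 1 → g ≠ 1 → ∃ n < 311, g = wval f (invWord n)) ∧
        g * u * g⁻¹ ≠ wval f uTwo := by
    intro g _ b i j k v hb hi hj hk hv hg
    have hcB := List.all_eq_true.1 (List.all_eq_true.1 (List.all_eq_true.1 (List.all_eq_true.1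
      (List.all_eq_true.1 classB b (List.mem_range.2 hb)) i (List.mem_range.2 hi)) j (List.mem_range.2 hj))
      k (List.mem_range.2 hk)) v (List.mem_range.2 hv)
    simp only [Bool.and_eq_true, Bool.or_eq_true, Bool.not_eq_true'] at hcB
    have dw := dH b i j k v hb hv
    constructor
    · intro g2 g1
      rcases hcB.1 with (e | e) | ⟨hn, e⟩
      · rw [(evG (append_dom dw dw)).2 (by rw [wval_append, ← hg, g2])] at e
        exact absurd e (by simp)
      · exact absurd (hg ▸ (evG dw).1 e) g1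
      · have hn' := Nat.lt_of_succ_le (Nat.le_of_ble_eq_true hn)
        have hp := List.all_eq_true.1 prodB _ (List.mem_range.2 hn')
        simp only [Bool.and_eq_true] at hp
        exact ⟨_, hn', hg.trans ((eqG dw (dom8 hp.1)).1 e)⟩
    · intro e
      rw [(eqG (append_dom dw dU) (append_dom d2 dw)).2 (by
        rw [wval_append, wval_append, ← hg, hu, ← e]; group)] at hcB
      exact absurd hcB.2 (by simp)
  -- each listed involution is a conjugate of a representative
  have hn : ∀ n < 311, ∃ p ∈ φ.range, (∀ (z : G), z = wval f (invWord n) →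
      ((invWit.getD n (0, [])).1 = 0 → p * t * p⁻¹ = z) ∧ ((invWit.getD n (0, [])).1 ≠ 0 → p * u * p⁻¹ = z)) := by
    intro n hn'
    have hp := List.all_eq_true.1 prodB n (List.mem_range.2 hn')
    simp only [Bool.and_eq_true] at hp
    have dw := dom8 hp.1
    have dwit : ∀ l ∈ (invWit.getD n (0, [])).2, l / 2 ∈ domAll ∧ l < 22 :=
      fun l hl => dw l (List.mem_append_left _ hl)
    refine ⟨_, inRange dwit, fun z hz => ?_⟩
    subst hz
    refine ⟨fun e => ?_, fun e => ?_⟩
    · rw [invWord, e, show invBase 0 = [0, 0] from rfl, wval_append, wval_append, wval_invW, et, mul_assoc]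
    · rw [invWord, show invBase (invWit.getD n (0, [])).1 = uZero by
        rw [invBase, show Nat.beq (invWit.getD n (0, [])).1 0 = false from Bool.eq_false_iff.2 fun q => e (Nat.eq_of_beq_eq_true q), cond_false],
        wval_append, wval_append, wval_invW, hu, mul_assoc]
  have listed : ∀ z, z * t = t * z → z * z = 1 → z ≠ 1 → ∃ n < 311, z = wval f (invWord n) := by
    intro z hz z2 z1
    obtain ⟨b, i, j, k, v, hb, hi, hj, hk, hv, e⟩ := h.mem_list_H L hd hS hR hz
    exact (hcl z hz b i j k v hb hi hj hk hv e).1 z2 z1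
  -- the representative is not a conjugate of `t`
  have notT : ∀ g, g * t * g⁻¹ ≠ u := by
    intro g hg
    have hmem : ∀ {w : List ℕ}, eqB (w ++ uZero) (uZero ++ w) = true → (∀ l ∈ w, l / 2 ∈ domAll ∧ l < 22) →
        g⁻¹ * wval f w * g ∈ centralizer ({t} : Set G) := by
      intro w e hw
      have e' := (eqG (append_dom hw dU) (append_dom dU hw)).1 e
      rw [wval_append, wval_append, hu, ← hg] at e'
      refine mem_centralizer_singleton_iff.2 ?_
      calc g⁻¹ * wval f w * g * t = g⁻¹ * (wval f w * (g * t * g⁻¹)) * g := by group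
        _ = g⁻¹ * (g * t * g⁻¹ * wval f w) * g := by rw [e']
        _ = t * (g⁻¹ * wval f w * g) := by group
    have ab : wval f threeA * wval f threeB = wval f threeB * wval f threeA := by
      have := (eqG (append_dom dA dB) (append_dom dB dA)).1 r8
      rwa [wval_append, wval_append] at this
    have pc : ∀ (a : G) (k : ℕ), (g⁻¹ * a * g) ^ k = g⁻¹ * a ^ k * g := fun a k => by
      have := conj_pow (i := k) (a := g⁻¹) (b := a)
      rwa [inv_inv] at this
    have a3 : (g⁻¹ * wval f threeA * g) ^ 3 = 1 := by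
      rw [pc, show wval f threeA ^ 3 = 1 by
        rw [pow_succ, pow_two, ← wval_append, ← wval_append]; exact (evG (append_dom (append_dom dA dA) dA)).1 r9]
      group
    have b3 : (g⁻¹ * wval f threeB * g) ^ 3 = 1 := by
      rw [pc, show wval f threeB ^ 3 = 1 by
        rw [pow_succ, pow_two, ← wval_append, ← wval_append]; exact (evG (append_dom (append_dom dB dB) dB)).1 r10]
      group
    have h9 := nine_dvd (hmem r6 dA) (hmem r7 dB) (show Commute _ _ from by
      show g⁻¹ * wval f threeA * g * (g⁻¹ * wval f threeB * g) = g⁻¹ * wval f threeB * g * (g⁻¹ * wval f threeA * g)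
      rw [show g⁻¹ * wval f threeA * g * (g⁻¹ * wval f threeB * g) = g⁻¹ * (wval f threeA * wval f threeB) * g by group,
        ab]
      group) a3 b3 (by
      intro i hi j hj e
      rw [pc, pc, show g⁻¹ * wval f threeA ^ i * g * (g⁻¹ * wval f threeB ^ j * g)
        = g⁻¹ * (wval f threeA ^ i * wval f threeB ^ j) * g by group] at e
      have e1 : wval f threeA ^ i * wval f threeB ^ j = 1 := by
        have := congrArg (fun z => g * z * g⁻¹) e
        simpa [mul_assoc] using this
      have hw : ∀ (w : List ℕ) (k : ℕ), wval f ((List.replicate k w).flatten) = wval f w ^ k := by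
        intro w k
        induction k with
        | zero => simp [wval]
        | succ k ih => rw [List.replicate_succ, List.flatten_cons, wval_append, ih, pow_succ']
      have dr : ∀ (w : List ℕ) (k : ℕ), (∀ l ∈ w, l / 2 ∈ domAll ∧ l < 22) →
          ∀ l ∈ (List.replicate k w).flatten, l / 2 ∈ domAll ∧ l < 22 := by
        intro w k hw l hl
        obtain ⟨w', hw', hl'⟩ := List.mem_flatten.1 hl
        exact hw l ((List.mem_replicate.1 hw').2 ▸ hl')
      have := List.all_eq_true.1 (List.all_eq_true.1 r11 i (List.mem_range.2 hi)) j (List.mem_range.2 hj)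
      rw [(evG (append_dom (dr _ i dA) (dr _ j dB))).2 (by rw [wval_append, hw, hw, e1])] at this
      simp only [Bool.not_true, Bool.or_false, Bool.and_eq_true, Nat.beq_eq] at this
      exact this)
    rw [L.cardH] at h9
    norm_num at h9
  -- involutions of the subgroup
  have htR : t ∈ φ.range := hC t rfl
  have huR : u ∈ φ.range := hu ▸ inRange dU
  haveI : Fact (Nat.Prime 2) := ⟨Nat.prime_two⟩
  have hCle : centralizer ({t} : Set G) ≤ φ.range := fun g hg => hC g (mem_centralizer_singleton_iff.1 hg)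
  obtain ⟨P0⟩ : Nonempty (Sylow 2 ↥(centralizer ({t} : Set G))) := inferInstance
  have hP0 : Nat.card (P0 : Subgroup ↥(centralizer ({t} : Set G))) = 512 := by
    rw [Sylow.card_eq_multiplicity, L.cardH, show (7680 : ℕ) = 2 ^ 9 * 15 by norm_num, Nat.factorization_mul (by norm_num) (by norm_num),
      Nat.factorization_pow]
    simp [Nat.prime_two.factorization, Nat.factorization_eq_zero_of_not_dvd (show ¬ 2 ∣ 15 by norm_num)]
  obtain ⟨Q, hQ⟩ : ∃ Q : Subgroup φ.range, Q = ((P0 : Subgroup ↥(centralizer ({t} : Set G))).map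
      (Subgroup.inclusion hCle)) := ⟨_, rfl⟩
  have hcardR : Nat.card φ.range = 44352000 :=
    (Nat.card_congr (MonoidHom.ofInjective hφ).toEquiv).symm.trans card_model
  have hQc : Nat.card Q = 2 ^ (Nat.card φ.range).factorization 2 := by
    rw [hQ, card_map_of_injective (Subgroup.inclusion_injective hCle), hP0, hcardR,
      show (44352000 : ℕ) = 2 ^ 9 * 86625 by norm_num, Nat.factorization_mul (by norm_num) (by norm_num),
      Nat.factorization_pow]
    simp [Nat.prime_two.factorization, Nat.factorization_eq_zero_of_not_dvd (show ¬ 2 ∣ 86625 by norm_num)]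
  have cls : ∀ z ∈ φ.range, z * z = 1 → z ≠ 1 →
      (∃ p ∈ φ.range, p * t * p⁻¹ = z) ∨ ∃ p ∈ φ.range, p * u * p⁻¹ = z := by
    intro z hz z2 z1
    have hp : IsPGroup 2 (zpowers (⟨z, hz⟩ : φ.range)) :=
      IsPGroup.of_card (n := 1) (by
        rw [Nat.card_zpowers, orderOf_mk, pow_one]
        exact orderOf_eq_prime (by rw [pow_two, z2]) z1)
    obtain ⟨S, hS⟩ := hp.exists_le_sylow
    obtain ⟨k, hk⟩ := MulAction.exists_smul_eq φ.range S (Sylow.ofCard Q hQc)
    have hkz : k * ⟨z, hz⟩ * k⁻¹ ∈ (Sylow.ofCard Q hQc : Subgroup φ.range) := by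
      rw [← hk]
      exact ⟨_, hS (mem_zpowers _), rfl⟩
    change k * ⟨z, hz⟩ * k⁻¹ ∈ Q at hkz
    rw [hQ] at hkz
    obtain ⟨v, -, hv⟩ := hkz
    have hv' : (v : G) = k * z * (k : G)⁻¹ := congrArg Subtype.val hv
    have hvt : (v : G) * t = t * v := mem_centralizer_singleton_iff.1 v.2
    obtain ⟨n, hn', en⟩ := listed v hvt (by rw [hv', show (k : G) * z * (k : G)⁻¹ * (k * z * (k : G)⁻¹) = k * (z * z) * (k : G)⁻¹ by group, z2]; group)
      (fun e => z1 (conj_eq_one_iff.1 (hv'.symm.trans e)))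
    obtain ⟨p, hp, hpn⟩ := hn n hn'
    obtain ⟨e0, e1⟩ := hpn v en
    by_cases hzero : (invWit.getD n (0, [])).1 = 0
    · exact Or.inl ⟨(k : G)⁻¹ * p, mul_mem (inv_mem k.2) hp, by
        rw [show (k : G)⁻¹ * p * t * ((k : G)⁻¹ * p)⁻¹ = (k : G)⁻¹ * (p * t * p⁻¹) * k by group, e0 hzero, hv']; group⟩
    · exact Or.inr ⟨(k : G)⁻¹ * p, mul_mem (inv_mem k.2) hp, by
        rw [show (k : G)⁻¹ * p * u * ((k : G)⁻¹ * p)⁻¹ = (k : G)⁻¹ * (p * u * p⁻¹) * k by group, e1 hzero, hv']; group⟩
  have u1 : u ≠ 1 := fun e => by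
    rw [(evG dU).2 (hu.trans e)] at r2
    exact Bool.noConfusion r2
  have prod : ∀ z, z * t = t * z → (∃ p ∈ φ.range, p * u * p⁻¹ = z) → ∀ g, g * t * g⁻¹ ≠ t * z := by
    rintro z hz ⟨p, -, hp⟩ g hg
    obtain ⟨n, hn', en⟩ := listed z hz
      (by rw [← hp, show p * u * p⁻¹ * (p * u * p⁻¹) = p * (u * u) * p⁻¹ by group, uu]; group)
      (by rw [← hp]; exact fun e => u1 (conj_eq_one_iff.1 e))
    obtain ⟨q, -, hqn⟩ := hn n hn'
    have hne : (invWit.getD n (0, [])).1 ≠ 0 := fun e => notT (p⁻¹ * q) (by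
      rw [show p⁻¹ * q * t * (p⁻¹ * q)⁻¹ = p⁻¹ * (q * t * q⁻¹) * p by group, (hqn z en).1 e, ← hp]; group)
    have hp' := List.all_eq_true.1 prodB n (List.mem_range.2 hn')
    simp only [Bool.and_eq_true, Bool.or_eq_true, Bool.not_eq_true'] at hp'
    rcases hp'.2 with e | ⟨⟨hm, hm0⟩, e⟩
    · exact hne (Nat.eq_of_beq_eq_true e)
    · have hm' := Nat.lt_of_succ_le (Nat.le_of_ble_eq_true hm)
      have hpm := List.all_eq_true.1 prodB _ (List.mem_range.2 hm')
      simp only [Bool.and_eq_true] at hpm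
      have hp1 := List.all_eq_true.1 prodB n (List.mem_range.2 hn')
      simp only [Bool.and_eq_true] at hp1
      have e' := (eqG (append_dom dT (dom8 hp1.1)) (dom8 hpm.1)).1 e
      rw [wval_append, et, ← en] at e'
      obtain ⟨r, -, hr⟩ := hn _ hm'
      have := (hr (t * z) e').2 (fun e0 => by rw [e0] at hm0; exact absurd hm0 (by decide))
      refine notT (r⁻¹ * g) ?_
      rw [show r⁻¹ * g * t * (r⁻¹ * g)⁻¹ = r⁻¹ * (g * t * g⁻¹) * r by group, hg, ← this]; group
  have u2t : wval f uTwo * t = t * wval f uTwo := by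
    have := (eqG (append_dom d2 dT) (append_dom dT d2)).1 r4
    rwa [wval_append, wval_append, et] at this
  have hu2 : ∃ p ∈ φ.range, p * u * p⁻¹ = wval f uTwo := by
    have := (eqG (append_dom dC (append_dom dU (invW_dom dC))) d2).1 r5
    rw [wval_append, wval_append, wval_invW, hu, ← mul_assoc] at this
    exact ⟨_, inRange dC, this⟩
  have nsplit : ∀ k, k * t = t * k → k * u * k⁻¹ ≠ wval f uTwo := by
    intro k hk
    obtain ⟨b, i, j, l, v, hb, hi, hj, hl, hv, e⟩ := h.mem_list_H L hd hS hR hk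
    exact (hcl k hk b i j l v hb hi hj hl hv e).2
  have htop : φ.range = ⊤ :=
    top_of_classes L.tsq L.tne htR hC huR uu cls notT prod ut u2t hu2 nsplit
  obtain ⟨⟨e⟩, -⟩ := Hs.hs_model
  exact ⟨((MonoidHom.ofInjective hφ).trans ((MulEquiv.subgroupCongr htop).trans Subgroup.topEquiv)).symm.trans e.symm⟩

end MPre

/-- The Higman–Sims group is recognised by the two local subgroups. -/
theorem Loc.iso_hs (L : Loc t R Cy V A M) : Cfsg.Spor.IsoHS G := by
  obtain ⟨c, y, s, x, h⟩ := L.exists_pre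
  obtain ⟨s', d, h', hS, hd, hR⟩ := h.exists_H L
  exact h'.iso_hs L hd hS hR

end Cfsg.Lib.HSType
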