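import Cfsg.Agent.Lib.HSType.ModelData
import Cfsg.Agent.Lib.HSType.Coord
import Cfsg.Agent.Lib.J3Type.Table

/-!
# The letters of a group of `HS` type and the relators of the normaliser of `V`
-/

set_option autoImplicit false
set_option linter.style.haveILetI false

namespace Cfsg.Lib.HSType

open Cfsg.Lib.J3Type

variable {G : Type*} [Group G]

/-- The conjugate of `c` by `x`. -/
def cOne (c x : G) : G := x * c * x⁻¹

/-- The conjugate of `c` by the square of `x`. -/
def cTwo (c x : G) : G := x * cOne c x * x⁻¹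

/-- The conjugate of `s` by the cube of `x`. -/
def wEl (s x : G) : G := x * x * x * s * (x * x * x)⁻¹

/-- The letters. -/
def lets (c y s x d : G) : ℕ → G
  | 0 => c
  | 1 => cOne c x
  | 2 => cTwo c x
  | 3 => y
  | 4 => s
  | 5 => wEl s x
  | 6 => d
  | 7 => x
  | 8 => c⁻¹ * cOne c x * y * wEl s x
  | 9 => c⁻¹ * y⁻¹ * cOne c x * s * wEl s x
  | 10 => cOne c x * y * x * cTwo c x * x * wEl s x
  | _ => 1

/-- The relators without those that give the square of `s` and the cube of `s * x`. -/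
def baseN : List (List ℕ) :=
  [[0, 0, 0, 0], [2, 2, 2, 2], [4, 4, 4, 4], [0, 2, 1, 3], [0, 4, 1, 5], [2, 4, 3, 5], [14, 0, 15, 3],
    [14, 2, 15, 5], [14, 4, 15, 5, 5, 3, 3, 3, 1], [14, 14, 14, 14, 14, 14, 14], [6, 6, 6],
    [6, 14, 7, 15, 15], [6, 0, 7, 1], [6, 2, 7, 5], [6, 4, 7, 5, 5, 5, 3, 3, 3, 1, 1], [8, 0, 9, 1, 1, 1],
    [8, 2, 9, 5], [8, 4, 9, 3], [8, 6, 9, 6], [14, 14, 14, 8, 15, 15, 15, 11]]

/-- The relators of the normaliser. -/
def baseR : List (List ℕ) := baseN ++ [[8, 8], [8, 14, 8, 14, 8, 14]]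

/-- The column `x c₂ x⁻¹`. -/
def colX : Pt 4 := (1, 3, 2)

/-- The matrix of `x`. -/
def matX : Mat 4 := ((0, 1, 0), (0, 0, 1), colX)

/-- The matrix of `y`. -/
def matY : Mat 4 := ((1, 0, 0), (0, 0, 1), (2, 3, 3))

/-- The matrix of `s`. -/
def matS : Mat 4 := ((3, 0, 0), (0, 0, 1), (0, 1, 0))

/-- The matrix of `w`. -/
def matW : Mat 4 := ((1, 0, 0), (0, 3, 0), (3, 2, 3))

/-- What the letters `c`, `y`, `s`, `x` satisfy, apart from the two open exponents. -/
structure MCore (c y s x : G) : Prop where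
  tri : Tri 4 c (cOne c x) (cTwo c x)
  x7 : x * x * x * x * x * x * x = 1
  y3 : y * y * y = 1
  yx : y * x * y⁻¹ = x * x
  xc : x * cTwo c x * x⁻¹ = pt c (cOne c x) (cTwo c x) colX
  yc : y * c * y⁻¹ = c
  yc1 : y * cOne c x * y⁻¹ = cTwo c x
  yc2 : y * cTwo c x * y⁻¹ = pt c (cOne c x) (cTwo c x) ((2, 3, 3) : Pt 4)
  sy : s * y * s⁻¹ * y = 1
  sc : s * c * s⁻¹ = c⁻¹
  sc1 : s * cOne c x * s⁻¹ = cTwo c x
  sc2 : s * cTwo c x * s⁻¹ = cOne c x

theorem MCore.baseN_rel {c y s x : G} (h : MCore c y s x) (d : G) :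
    ∀ r ∈ baseN, wval (lets c y s x d) r = 1 := by
  haveI : Fact (1 < 4) := ⟨by norm_num⟩
  have ec := h.tri
  intro r hr
  simp only [baseN, List.mem_cons, List.not_mem_nil, or_false] at hr
  rcases hr with rfl | rfl | rfl | rfl | rfl | rfl | rfl | rfl | rfl | rfl | rfl | rfl | rfl | rfl | rfl | rfl |
    rfl | rfl | rfl | rfl <;>
    simp only [wval, lval, lets, idL, List.map, List.prod_cons, List.prod_nil, mul_one,
      Nat.reduceDiv, Nat.reduceMod, Nat.reduceLeDiff, if_true, if_false,  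
      one_ne_zero]
  · simpa [pow_succ, mul_assoc] using ec.pa
  · simpa [pow_succ, mul_assoc] using ec.pb
  · simpa [pow_succ, mul_assoc] using ec.pc
  · rw [← mul_assoc, ec.ab.eq]; group
  · rw [← mul_assoc, ec.ac.eq]; group
  · rw [← mul_assoc, ec.bc.eq]; group
  · simp only [cOne]; group
  · simp only [cTwo]; group
  · rw [← mul_assoc, ← mul_assoc, h.xc]
    simp only [pt, colX]
    show c ^ 1 * cOne c x ^ 3 * cTwo c x ^ 2 * _ = 1
    group
  · simpa [mul_assoc] using h.x7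
  · simpa [mul_assoc] using h.y3
  · rw [← mul_assoc, ← mul_assoc, h.yx]; group
  · rw [← mul_assoc, ← mul_assoc, h.yc]; group
  · rw [← mul_assoc, ← mul_assoc, h.yc1]; group
  · rw [← mul_assoc, ← mul_assoc, h.yc2]
    show c ^ 2 * cOne c x ^ 3 * cTwo c x ^ 3 * _ = 1
    group
  · rw [← mul_assoc, ← mul_assoc, h.sc, show c⁻¹ * (c⁻¹ * (c⁻¹ * c⁻¹)) = (c ^ 4)⁻¹ by group, ec.pa, inv_one]
  · rw [← mul_assoc, ← mul_assoc, h.sc1]; group
  · rw [← mul_assoc, ← mul_assoc, h.sc2]; group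
  · rw [← mul_assoc, ← mul_assoc, h.sy]
  · simp only [wEl]; group

theorem kWord0_val (c y s x d : G) : lets c y s x d 8 = wval (lets c y s x d) kWord0 := by
  simp [wval, lval, kWord0, lets, idL, mul_assoc]

theorem kWord1_val (c y s x d : G) : lets c y s x d 9 = wval (lets c y s x d) kWord1 := by
  simp [wval, lval, kWord1, lets, idL, mul_assoc]

theorem xbWord_val (c y s x d : G) : lets c y s x d 10 = wval (lets c y s x d) xbWord := by
  simp [wval, lval, xbWord, lets, idL, mul_assoc]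

end Cfsg.Lib.HSType
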