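import Cfsg.Agent.Lib.HSType.MCertData

/-!
Kernel checks of the certificates.
-/

set_option autoImplicit false
set_option maxRecDepth 100000

namespace Cfsg.Lib.HSType

open Cfsg.Lib.J3Type

theorem abCert_facts0 : factsOK abCert 0 192 = true := by decide +kernel

theorem abCert_rows0 : rowsOK abCert 0 64 = true := by decide +kernel

theorem abCert_fact_ok : ∀ i < abCert.nFacts, factOK abCert i = true := by
  intro i hi
  replace hi : i < 192 := hi
  by_cases h0 : i < 192
  · exact factOK_of_factsOK abCert_facts0 (by omega) (by omega)
  omega

theorem abCert_row_ok : ∀ c < abCert.nLive, rowOK abCert c = true := by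
  intro c hc
  replace hc : c < 64 := hc
  by_cases h0 : c < 64
  · exact rowOK_of_rowsOK abCert_rows0 (by omega) (by omega)
  omega

theorem abCert_live_zero : abCert.live.get 15 0 = 0 := by decide +kernel

theorem mCert_facts0 : factsOK mCert 0 1672 = true := by decide +kernel

theorem mCert_rows0 : rowsOK mCert 0 168 = true := by decide +kernel

theorem mCert_fact_ok : ∀ i < mCert.nFacts, factOK mCert i = true := by
  intro i hi
  replace hi : i < 1672 := hi
  by_cases h0 : i < 1672
  · exact factOK_of_factsOK mCert_facts0 (by omega) (by omega)
  omega

theorem mCert_row_ok : ∀ c < mCert.nLive, rowOK mCert c = true := by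
  intro c hc
  replace hc : c < 168 := hc
  by_cases h0 : c < 168
  · exact rowOK_of_rowsOK mCert_rows0 (by omega) (by omega)
  omega

theorem mCert_live_zero : mCert.live.get 15 0 = 0 := by decide +kernel

theorem frobCert_facts0 : factsOK frobCert 0 42 = true := by decide +kernel

theorem frobCert_rows0 : rowsOK frobCert 0 21 = true := by decide +kernel

theorem frobCert_fact_ok : ∀ i < frobCert.nFacts, factOK frobCert i = true := by
  intro i hi
  replace hi : i < 42 := hi
  by_cases h0 : i < 42
  · exact factOK_of_factsOK frobCert_facts0 (by omega) (by omega)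
  omega

theorem frobCert_row_ok : ∀ c < frobCert.nLive, rowOK frobCert c = true := by
  intro c hc
  replace hc : c < 21 := hc
  by_cases h0 : c < 21
  · exact rowOK_of_rowsOK frobCert_rows0 (by omega) (by omega)
  omega

theorem frobCert_live_zero : frobCert.live.get 15 0 = 0 := by decide +kernel

theorem killM0_facts0 : factsOK killM0 0 1204 = true := by decide +kernel

theorem killM0_rows0 : rowsOK killM0 0 64 = true := by decide +kernel

theorem killM0_fact_ok : ∀ i < killM0.nFacts, factOK killM0 i = true := by
  intro i hi
  replace hi : i < 1204 := hi
  by_cases h0 : i < 1204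
  · exact factOK_of_factsOK killM0_facts0 (by omega) (by omega)
  omega

theorem killM0_row_ok : ∀ c < killM0.nLive, rowOK killM0 c = true := by
  intro c hc
  replace hc : c < 64 := hc
  by_cases h0 : c < 64
  · exact rowOK_of_rowsOK killM0_rows0 (by omega) (by omega)
  omega

theorem killM0_live_zero : killM0.live.get 15 0 = 0 := by decide +kernel

theorem killM1_facts0 : factsOK killM1 0 1780 = true := by decide +kernel

theorem killM1_rows0 : rowsOK killM1 0 64 = true := by decide +kernel

theorem killM1_fact_ok : ∀ i < killM1.nFacts, factOK killM1 i = true := by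
  intro i hi
  replace hi : i < 1780 := hi
  by_cases h0 : i < 1780
  · exact factOK_of_factsOK killM1_facts0 (by omega) (by omega)
  omega

theorem killM1_row_ok : ∀ c < killM1.nLive, rowOK killM1 c = true := by
  intro c hc
  replace hc : c < 64 := hc
  by_cases h0 : c < 64
  · exact rowOK_of_rowsOK killM1_rows0 (by omega) (by omega)
  omega

theorem killM1_live_zero : killM1.live.get 15 0 = 0 := by decide +kernel

theorem killN0_facts0 : factsOK killN0 0 3857 = true := by decide +kernel

theorem killN0_rows0 : rowsOK killN0 0 64 = true := by decide +kernel

theorem killN0_fact_ok : ∀ i < killN0.nFacts, factOK killN0 i = true := by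
  intro i hi
  replace hi : i < 3857 := hi
  by_cases h0 : i < 3857
  · exact factOK_of_factsOK killN0_facts0 (by omega) (by omega)
  omega

theorem killN0_row_ok : ∀ c < killN0.nLive, rowOK killN0 c = true := by
  intro c hc
  replace hc : c < 64 := hc
  by_cases h0 : c < 64
  · exact rowOK_of_rowsOK killN0_rows0 (by omega) (by omega)
  omega

theorem killN0_live_zero : killN0.live.get 15 0 = 0 := by decide +kernel

theorem killN1_facts0 : factsOK killN1 0 3876 = true := by decide +kernel

theorem killN1_rows0 : rowsOK killN1 0 64 = true := by decide +kernel

theorem killN1_fact_ok : ∀ i < killN1.nFacts, factOK killN1 i = true := by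
  intro i hi
  replace hi : i < 3876 := hi
  by_cases h0 : i < 3876
  · exact factOK_of_factsOK killN1_facts0 (by omega) (by omega)
  omega

theorem killN1_row_ok : ∀ c < killN1.nLive, rowOK killN1 c = true := by
  intro c hc
  replace hc : c < 64 := hc
  by_cases h0 : c < 64
  · exact rowOK_of_rowsOK killN1_rows0 (by omega) (by omega)
  omega

theorem killN1_live_zero : killN1.live.get 15 0 = 0 := by decide +kernel

theorem killN2_facts0 : factsOK killN2 0 1720 = true := by decide +kernel

theorem killN2_rows0 : rowsOK killN2 0 64 = true := by decide +kernel

theorem killN2_fact_ok : ∀ i < killN2.nFacts, factOK killN2 i = true := by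
  intro i hi
  replace hi : i < 1720 := hi
  by_cases h0 : i < 1720
  · exact factOK_of_factsOK killN2_facts0 (by omega) (by omega)
  omega

theorem killN2_row_ok : ∀ c < killN2.nLive, rowOK killN2 c = true := by
  intro c hc
  replace hc : c < 64 := hc
  by_cases h0 : c < 64
  · exact rowOK_of_rowsOK killN2_rows0 (by omega) (by omega)
  omega

theorem killN2_live_zero : killN2.live.get 15 0 = 0 := by decide +kernel

theorem killN3_facts0 : factsOK killN3 0 2165 = true := by decide +kernel

theorem killN3_rows0 : rowsOK killN3 0 64 = true := by decide +kernel

theorem killN3_fact_ok : ∀ i < killN3.nFacts, factOK killN3 i = true := by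
  intro i hi
  replace hi : i < 2165 := hi
  by_cases h0 : i < 2165
  · exact factOK_of_factsOK killN3_facts0 (by omega) (by omega)
  omega

theorem killN3_row_ok : ∀ c < killN3.nLive, rowOK killN3 c = true := by
  intro c hc
  replace hc : c < 64 := hc
  by_cases h0 : c < 64
  · exact rowOK_of_rowsOK killN3_rows0 (by omega) (by omega)
  omega

theorem killN3_live_zero : killN3.live.get 15 0 = 0 := by decide +kernel

end Cfsg.Lib.HSType
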