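import Cfsg.Agent.Lib.HSType.Basic
import Cfsg.Agent.Lib.HSType.Letters

/-!
# Coordinates in the normaliser of `V`
-/

set_option autoImplicit false
set_option linter.style.haveILetI false
set_option linter.unusedSectionVars false
set_option maxHeartbeats 1000000

namespace Cfsg.Lib.HSType

open Subgroup

/-- The reduction of an exponent vector. -/
def red (p : Pt 4) : Pt 2 := ((p.1.val : ZMod 2), (p.2.1.val : ZMod 2), (p.2.2.val : ZMod 2))

/-- The reduction of a matrix. -/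
def redM (U : Mat 4) : Mat 2 := (red U.1, red U.2.1, red U.2.2)

/-- The matrix of `x` on `V`. -/
def matX2 : Mat 2 := ((0, 1, 0), (0, 0, 1), (1, 1, 0))

/-- The matrix of `y` on `V`. -/
def matY2 : Mat 2 := ((1, 0, 0), (0, 0, 1), (0, 1, 1))

/-- The matrix of `s` on `V`. -/
def matS2 : Mat 2 := ((1, 0, 0), (0, 0, 1), (0, 1, 0))

variable {G : Type*} [Group G] {n : ℕ}

/-- Conjugation by `g` sends the triple to the columns of the matrix. -/
structure Act (a b c g : G) (U : Mat n) : Prop where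
  e0 : g * a * g⁻¹ = pt a b c U.1
  e1 : g * b * g⁻¹ = pt a b c U.2.1
  e2 : g * c * g⁻¹ = pt a b c U.2.2

namespace Act

variable [NeZero n] {a b c g h : G} {U W : Mat n}

theorem conj (e : Act a b c g U) (T : Tri n a b c) (p : Pt n) :
    g * pt a b c p * g⁻¹ = pt a b c (mv U p) := T.conj e.e0 e.e1 e.e2 p

theorem mul (eg : Act a b c g U) (eh : Act a b c h W) (T : Tri n a b c) : Act a b c (g * h) (mm U W) := by
  have key : ∀ z, g * h * z * (g * h)⁻¹ = g * (h * z * h⁻¹) * g⁻¹ := fun z => by group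
  exact ⟨by rw [key, eh.e0, eg.conj T]; rfl, by rw [key, eh.e1, eg.conj T]; rfl,
    by rw [key, eh.e2, eg.conj T]; rfl⟩

theorem of_comm [Fact (1 < n)] (ha : Commute g a) (hb : Commute g b) (hc : Commute g c) :
    Act a b c g (one3 n) :=
  ⟨by rw [ha.eq, mul_inv_cancel_right]; exact (pt_e0 a b c).symm,
   by rw [hb.eq, mul_inv_cancel_right]; exact (pt_e1 a b c).symm,
   by rw [hc.eq, mul_inv_cancel_right]; exact (pt_e2 a b c).symm⟩

theorem one [Fact (1 < n)] : Act a b c (1 : G) (one3 n) :=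
  of_comm (Commute.one_left _) (Commute.one_left _) (Commute.one_left _)

theorem unique (e : Act a b c g U) (e' : Act a b c g W) (hi : Function.Injective (pt (n := n) a b c)) :
    U = W :=
  Prod.ext (hi (e.e0.symm.trans e'.e0)) (Prod.ext (hi (e.e1.symm.trans e'.e1)) (hi (e.e2.symm.trans e'.e2)))

end Act

theorem red_facts : (∀ p : Pt 4, red p = 0 →
    ∃ q : Pt 2, p.1.val = 2 * q.1.val ∧ p.2.1.val = 2 * q.2.1.val ∧ p.2.2.val = 2 * q.2.2.val) ∧
    (∀ p : Pt 4, (∃ q : Pt 2, p.1.val = 2 * q.1.val ∧ p.2.1.val = 2 * q.2.1.val ∧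
      p.2.2.val = 2 * q.2.2.val ∧ q = 0) → p = 0) := by
  decide +kernel

variable [Finite G] {t v1 v2 : G} {R Cy V A M : Subgroup G}

namespace Loc

variable (L : Loc t R Cy V A M)
include L

theorem mem_M {g v : G} (hg : g ∈ M) (hv : v ∈ V) : g * v * g⁻¹ ∈ V :=
  (mem_normalizer_iff.1 (L.hM ▸ hg) v).1 hv

theorem exists_base : ∃ v1 v2 : G, v1 ∈ V ∧ v2 ∈ V ∧ Tri 2 t v1 v2 ∧
    (∀ q : Pt 2, pt t v1 v2 q = 1 → q = 0) := by
  classical
  have hne : ∀ S : Finset G, S.card ≤ 7 → ∃ v ∈ V, v ∉ S := by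
    intro S hS
    by_contra h
    push Not at h
    have := Nat.card_le_card_of_injective (fun v : V => (⟨v, h v v.2⟩ : S))
      (fun v w e => Subtype.ext (congrArg (fun z : S => (z : G)) e))
    rw [L.cardV, Nat.card_eq_fintype_card, Fintype.card_coe] at this
    omega
  obtain ⟨v1, h1, n1⟩ := hne {1, t} (le_trans Finset.card_le_two (by norm_num))
  obtain ⟨v2, h2, n2⟩ := hne {1, t, v1, t * v1} (le_trans Finset.card_le_four (by norm_num))
  simp only [Finset.mem_insert, Finset.mem_singleton, not_or] at n1 n2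
  refine ⟨v1, v2, h1, h2, ⟨by rw [pow_two]; exact L.tsq, by rw [pow_two]; exact L.V_sq _ h1,
    by rw [pow_two]; exact L.V_sq _ h2, L.V_comm _ L.tV _ h1, L.V_comm _ L.tV _ h2, L.V_comm _ h1 _ h2⟩, ?_⟩
  have inv1 : ∀ z ∈ V, ∀ u : G, u * z = 1 → u = z := fun z hz u e => by
    rw [mul_eq_one_iff_eq_inv.1 e, inv_eq_of_mul_eq_one_right (L.V_sq z hz)]
  have z2 : ∀ i : ZMod 2, i = 0 ∨ i = 1 := by decide
  rintro ⟨i, j, k⟩ e
  rcases z2 i with rfl | rfl <;> rcases z2 j with rfl | rfl <;> rcases z2 k with rfl | rfl <;>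
    simp [pt, ZMod.val_one] at e
  · rfl
  · exact absurd e n2.1
  · exact absurd e n1.1
  · exact absurd (inv1 _ h2 _ e).symm n2.2.2.1
  · exact absurd e L.tne
  · exact absurd (inv1 _ h2 _ e).symm n2.2.1
  · exact absurd (inv1 _ h1 _ e).symm n1.2
  · exact absurd (inv1 _ h2 _ e).symm n2.2.2.2

theorem coord_V (h1 : v1 ∈ V) (h2 : v2 ∈ V) (T : Tri 2 t v1 v2)
    (hi : ∀ q : Pt 2, pt t v1 v2 q = 1 → q = 0) : ∀ v ∈ V, ∃ q : Pt 2, pt t v1 v2 q = v := by
  classical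
  intro v hv
  let f : Pt 2 → V := fun q => ⟨pt t v1 v2 q,
    mul_mem (mul_mem (pow_mem L.tV _) (pow_mem h1 _)) (pow_mem h2 _)⟩
  have hf : Function.Injective f := fun p q e => T.injective hi (congrArg Subtype.val e)
  obtain ⟨q, hq⟩ := ((Nat.bijective_iff_injective_and_card f).2 ⟨hf, by
    rw [L.cardV]; simp [Nat.card_eq_fintype_card]⟩).2 ⟨v, hv⟩
  exact ⟨q, congrArg Subtype.val hq⟩

theorem act_mem (h1 : v1 ∈ V) (h2 : v2 ∈ V) (T : Tri 2 t v1 v2)
    (hi : ∀ q : Pt 2, pt t v1 v2 q = 1 → q = 0) {g : G} (hg : g ∈ M) :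
    ∃ U : Mat 2, Act t v1 v2 g U ∧ ∀ q, mv U q = 0 → q = 0 := by
  obtain ⟨p0, e0⟩ := L.coord_V h1 h2 T hi _ (L.mem_M hg L.tV)
  obtain ⟨p1, e1⟩ := L.coord_V h1 h2 T hi _ (L.mem_M hg h1)
  obtain ⟨p2, e2⟩ := L.coord_V h1 h2 T hi _ (L.mem_M hg h2)
  have ha : Act t v1 v2 g ((p0, p1, p2) : Mat 2) := ⟨e0.symm, e1.symm, e2.symm⟩
  refine ⟨_, ha, fun q hq => hi q ?_⟩
  have := ha.conj T q
  rw [hq, pt_zero] at this
  exact conj_eq_one_iff.1 this

theorem mem_A_of_act (h1 : v1 ∈ V) (h2 : v2 ∈ V) (T : Tri 2 t v1 v2)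
    (hi : ∀ q : Pt 2, pt t v1 v2 q = 1 → q = 0) {g : G} (hg : g ∈ M) (e : Act t v1 v2 g (one3 2)) : g ∈ A := by
  haveI : Fact (1 < 2) := ⟨by norm_num⟩
  refine L.cen_V g hg fun v hv => ?_
  obtain ⟨q, rfl⟩ := L.coord_V h1 h2 T hi v hv
  have h := e.conj T q
  rw [show mv (one3 2) q = q by simp [mv, one3]] at h
  exact mul_inv_eq_iff_eq_mul.1 h

theorem inv_mul_mem_A (h1 : v1 ∈ V) (h2 : v2 ∈ V) (T : Tri 2 t v1 v2)
    (hi : ∀ q : Pt 2, pt t v1 v2 q = 1 → q = 0) {g h : G} (hg : g ∈ M) (hh : h ∈ M) {U : Mat 2}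
    (eg : Act t v1 v2 g U) (eh : Act t v1 v2 h U) : g⁻¹ * h ∈ A := by
  haveI : Fact (1 < 2) := ⟨by norm_num⟩
  refine L.mem_A_of_act h1 h2 T hi (mul_mem (inv_mem hg) hh) ⟨?_, ?_, ?_⟩
  · rw [one3, pt_e0, show g⁻¹ * h * t * (g⁻¹ * h)⁻¹ = g⁻¹ * (h * t * h⁻¹) * g by group, eh.e0, ← eg.e0]; group
  · rw [one3, pt_e1, show g⁻¹ * h * v1 * (g⁻¹ * h)⁻¹ = g⁻¹ * (h * v1 * h⁻¹) * g by group, eh.e1, ← eg.e1]; group
  · rw [one3, pt_e2, show g⁻¹ * h * v2 * (g⁻¹ * h)⁻¹ = g⁻¹ * (h * v2 * h⁻¹) * g by group, eh.e2, ← eg.e2]; group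

/-- Every invertible matrix on `V` is realised. -/
theorem lift (h1 : v1 ∈ V) (h2 : v2 ∈ V) (T : Tri 2 t v1 v2)
    (hi : ∀ q : Pt 2, pt t v1 v2 q = 1 → q = 0) (U : Mat 2) (hU : ∀ q, mv U q = 0 → q = 0) :
    ∃ g ∈ M, Act t v1 v2 g U := by
  classical
  let W := {U : Mat 2 // ∀ q, mv U q = 0 → q = 0}
  have hW : Nat.card W = 168 := by
    rw [Nat.card_eq_fintype_card]
    decide +kernel
  let f : M → W := fun g => ⟨(L.act_mem h1 h2 T hi g.2).choose, (L.act_mem h1 h2 T hi g.2).choose_spec.2⟩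
  have hf : ∀ g : M, Act t v1 v2 (g : G) (f g).1 := fun g => (L.act_mem h1 h2 T hi g.2).choose_spec.1
  let j : M → Set.range f × A := fun g =>
    (⟨f g, g, rfl⟩, ⟨((Set.rangeSplitting f ⟨f g, g, rfl⟩ : M) : G)⁻¹ * g,
      L.inv_mul_mem_A h1 h2 T hi (SetLike.coe_mem _) g.2 (hf _)
        (by rw [Set.apply_rangeSplitting f]; exact hf g)⟩)
  have hj : Function.Injective j := by
    intro g g' e
    obtain ⟨e1, e2⟩ := Prod.mk.inj e
    have e3 : ((Set.rangeSplitting f ⟨f g, g, rfl⟩ : M) : G)⁻¹ * g =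
        ((Set.rangeSplitting f ⟨f g', g', rfl⟩ : M) : G)⁻¹ * g' := congrArg Subtype.val e2
    have e4 := congrArg (fun r => ((Set.rangeSplitting f r : M) : G)) e1
    rw [← e4] at e3
    exact Subtype.ext (mul_left_cancel e3)
  have h := Nat.card_le_card_of_injective j hj
  rw [Nat.card_prod, L.cardA, L.cardM] at h
  have hr : Set.range f = Set.univ := by
    haveI : Finite W := Finite.of_injective _ Subtype.val_injective
    refine Set.eq_univ_of_forall fun u => ?_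
    by_contra hu
    have hle : Nat.card (Set.range f) < Nat.card W := by
      rw [Nat.card_coe_set_eq, ← Set.ncard_univ]
      exact Set.ncard_lt_ncard ((Set.ssubset_iff_of_subset (Set.subset_univ _)).2 ⟨u, Set.mem_univ _, hu⟩)
    rw [hW] at hle
    omega
  obtain ⟨g, hg⟩ : (⟨U, hU⟩ : W) ∈ Set.range f := hr ▸ Set.mem_univ _
  have hgU := hf g
  rw [hg] at hgU
  exact ⟨g, g.2, hgU⟩

end Loc

end Cfsg.Lib.HSType
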