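import Cfsg.Agent.Lib.HSType.ModelData
import Cfsg.Agent.Lib.J3Type.Table
import Cfsg.Agent.Lib.PermAut.HsData

/-!
# Evaluation of words in the letters on 100 points, and transfer of relations
-/

set_option autoImplicit false
set_option maxRecDepth 100000

namespace Cfsg.Lib.HSType

open Cfsg.Lib.J3Type Cfsg.Lib.PermAut Subgroup

/-- The table of a signed letter. -/
def ltab (l : ℕ) : ℕ :=
  bif Nat.beq (Nat.mod l 2) 0 then tabs.getD (Nat.div l 2) 0 else tabsI.getD (Nat.div l 2) 0

/-- The letters on 100 points. -/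
noncomputable def gHS (j : ℕ) : Equiv.Perm (Fin 100) := toP 7 100 (tabs.getD j 0)

/-- The word acts trivially. -/
noncomputable def evB (w : List ℕ) : Bool := (w.all fun l => Nat.blt l 22) && sameB 7 100 (w.map ltab) []

/-- The words act equally. -/
noncomputable def eqB (w w' : List ℕ) : Bool :=
  (w.all fun l => Nat.blt l 22) && (w'.all fun l => Nat.blt l 22) && sameB 7 100 (w.map ltab) (w'.map ltab)

theorem tabs_ok : ((List.range 11).all fun j => invPairOk 7 100 (tabs.getD j 0) (tabsI.getD j 0)) = true := by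
  decide +kernel

theorem ltab_spec : ∀ l < 22, Rep 7 (toP 7 100 (ltab l) : Equiv.Perm (Fin 100)) (ltab l) ∧
    toP 7 100 (ltab l) = lval gHS l := by
  intro l hl
  obtain ⟨h1, h2, h3⟩ := rep_of_invPairOk (b := 7) (N := 100)
    (List.all_eq_true.1 tabs_ok (l / 2) (List.mem_range.2 (by omega)))
  unfold ltab lval gHS
  rw [if_neg (by show ¬ 30 ≤ l; omega), show Nat.mod l 2 = l % 2 from rfl, show Nat.div l 2 = l / 2 from rfl]
  rcases Nat.mod_two_eq_zero_or_one l with h | h
  · rw [h, if_pos rfl, show Nat.beq 0 0 = true from rfl, cond_true]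
    exact ⟨h1, rfl⟩
  · rw [h, if_neg (by norm_num), show Nat.beq 1 0 = false from rfl, cond_false]
    exact ⟨h2, h3⟩

theorem wval_gHS : ∀ {w : List ℕ}, (∀ l ∈ w, l < 22) →
    (∀ T ∈ w.map ltab, Rep 7 (toP 7 100 T : Equiv.Perm (Fin 100)) T) ∧
      ((w.map ltab).map (toP 7 100)).prod = wval gHS w
  | [], _ => ⟨by simp, by simp [wval]⟩
  | l :: w, h => by
    obtain ⟨hr, hp⟩ := wval_gHS (w := w) fun m hm => h m (List.mem_cons_of_mem _ hm)
    obtain ⟨h1, h2⟩ := ltab_spec l (h l (List.mem_cons_self ..))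
    refine ⟨?_, by rw [List.map_cons, List.map_cons, List.prod_cons, hp, h2, wval_cons]⟩
    intro T hT
    rcases List.mem_cons.1 hT with rfl | hT
    · exact h1
    · exact hr T hT

theorem lt_of_all {n : ℕ} {w : List ℕ} (h : (w.all fun l => Nat.blt l n) = true) : ∀ l ∈ w, l < n :=
  fun l hl => Nat.lt_of_succ_le (Nat.le_of_ble_eq_true (List.all_eq_true.1 h l hl))

theorem eqB_iff {w w' : List ℕ} (h : ∀ l ∈ w, l < 22) (h' : ∀ l ∈ w', l < 22) :
    eqB w w' = true ↔ wval gHS w = wval gHS w' := by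
  have ha : (w.all fun l => Nat.blt l 22) = true :=
    List.all_eq_true.2 fun l hl => by simpa [Nat.blt] using h l hl
  have ha' : (w'.all fun l => Nat.blt l 22) = true :=
    List.all_eq_true.2 fun l hl => by simpa [Nat.blt] using h' l hl
  obtain ⟨hr, hp⟩ := wval_gHS h
  obtain ⟨hr', hp'⟩ := wval_gHS h'
  unfold eqB
  rw [ha, ha', Bool.and_self, Bool.true_and, ← hp, ← hp']
  refine ⟨eq_of_sameB hr hr', fun e => sameB_iff.2 fun x hx => ?_⟩
  rw [Nat.beq_eq]
  have := congrArg (fun p : Equiv.Perm (Fin 100) => (p ⟨x, hx⟩ : ℕ)) e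
  simp only [ev_rep hr ⟨x, hx⟩, ev_rep hr' ⟨x, hx⟩] at this
  exact this

theorem evB_eq (w : List ℕ) : evB w = eqB w [] := by simp [evB, eqB]

theorem evB_spec {w : List ℕ} (h : evB w = true) : wval gHS w = 1 := by
  have hl : ∀ l ∈ w, l < 22 := lt_of_all (Bool.and_eq_true _ _ ▸ h).1
  rw [evB_eq, eqB_iff hl (by simp)] at h
  simpa [wval] using h

theorem not_evB {w : List ℕ} (h : evB w = false) (hl : ∀ l ∈ w, l < 22) : wval gHS w ≠ 1 := fun e => by
  rw [evB_eq] at h
  rw [(eqB_iff hl (by simp)).2 (by simpa [wval] using e)] at h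
  exact Bool.noConfusion h

/-- The letters of a word have their indices in the list. -/
def inD (dom : List ℕ) (w : List ℕ) : Bool :=
  w.all fun l => dom.any (Nat.beq (Nat.div l 2)) && Nat.blt l 22

theorem inD_spec {dom w : List ℕ} (h : inD dom w = true) : ∀ l ∈ w, l / 2 ∈ dom ∧ l < 22 := by
  intro l hl
  have h1 := List.all_eq_true.1 h l hl
  simp only [Bool.and_eq_true, List.any_eq_true, Nat.beq_eq, Nat.blt, Nat.ble_eq] at h1
  obtain ⟨⟨a, ha, e⟩, h2⟩ := h1
  exact ⟨(show l / 2 = a from e).symm ▸ ha, h2⟩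

/-- Each rule is a relation of the model in the given letters, or one of the listed ones. -/
noncomputable def certOK (dom : List ℕ) (R : List (List ℕ)) (K : J3Type.Cert) : Bool :=
  K.rules.all fun ws => ws.all fun w => (inD dom w && evB w) || isRule R w

section Transfer

variable {G : Type*} [Group G]

/-- The subgroup generated by the letters with indices in the list. -/
def letG {M : Type*} [Group M] (f : ℕ → M) (dom : List ℕ) : Subgroup M := closure {y | ∃ j ∈ dom, f j = y}

theorem wval_mem_letG {M : Type*} [Group M] (f : ℕ → M) {dom : List ℕ} :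
    ∀ {w : List ℕ}, (∀ l ∈ w, l / 2 ∈ dom) → wval f w ∈ letG f dom
  | [], _ => one_mem _
  | l :: w, h => by
    rw [wval_cons]
    refine mul_mem ?_ (wval_mem_letG f fun m hm => h m (List.mem_cons_of_mem _ hm))
    have hm : f (l / 2) ∈ letG f dom := subset_closure ⟨_, h l (List.mem_cons_self ..), rfl⟩
    unfold lval
    split
    · exact one_mem _
    · split
      exacts [hm, inv_mem hm]

theorem letG_map {M N : Type*} [Group M] [Group N] (φ : M →* N) (f : ℕ → M) (dom : List ℕ) :
    (letG f dom).map φ = letG (fun j => φ (f j)) dom := by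
  rw [letG, letG, MonoidHom.map_closure]
  congr 1
  ext y
  constructor
  · rintro ⟨_, ⟨j, hj, rfl⟩, rfl⟩; exact ⟨j, hj, rfl⟩
  · rintro ⟨j, hj, rfl⟩; exact ⟨f j, ⟨j, hj, rfl⟩, rfl⟩

/-- The pairs of a letter and its image in the model. -/
noncomputable def pairF (f : ℕ → G) (j : ℕ) : G × Equiv.Perm (Fin 100) := (f j, gHS j)

theorem wval_pairF (f : ℕ → G) (w : List ℕ) : wval (pairF f) w = (wval f w, wval gHS w) := by
  refine Prod.ext ?_ ?_
  · exact wval_map (MonoidHom.fst G (Equiv.Perm (Fin 100))) (pairF f) w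
  · exact wval_map (MonoidHom.snd G (Equiv.Perm (Fin 100))) (pairF f) w

variable [Finite G]

/-- If the pairs generate no more than the letters, relations pass both ways, provided a word is nontrivial in
the model whose value lies in every nontrivial normal subgroup. -/
theorem transfer (f : ℕ → G) (dom : List ℕ) (hb : Nat.card (letG (pairF f) dom) ≤ Nat.card (letG f dom))
    {wt : List ℕ} (hwt : wval gHS wt ≠ 1)
    (hdom : ∀ l ∈ wt, l / 2 ∈ dom)
    (hk : ∀ N : Subgroup (letG f dom), N.Normal → N ≠ ⊥ → ∃ n ∈ N, ((n : letG f dom) : G) = wval f wt) :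
    ∀ w : List ℕ, (∀ l ∈ w, l / 2 ∈ dom) → (wval gHS w = 1 ↔ wval f w = 1) := by
  classical
  let D := letG (pairF f) dom
  let S := letG f dom
  have hD : D.map (MonoidHom.fst G (Equiv.Perm (Fin 100))) = S := letG_map _ _ _
  let π : D →* S := ((MonoidHom.fst G (Equiv.Perm (Fin 100))).comp D.subtype).codRestrict S fun a => by
    rw [← hD]; exact Subgroup.mem_map_of_mem _ a.2
  have hsurj : Function.Surjective π := by
    rintro ⟨x, hx⟩
    rw [← hD] at hx
    obtain ⟨a, ha, rfl⟩ := hx
    exact ⟨⟨a, ha⟩, rfl⟩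
  have hbij : Function.Bijective π :=
    (Nat.bijective_iff_surjective_and_card π).2 ⟨hsurj, le_antisymm hb (Nat.card_le_card_of_surjective π hsurj)⟩
  let e := MulEquiv.ofBijective π hbij
  let ψ : S →* Equiv.Perm (Fin 100) :=
    ((MonoidHom.snd G (Equiv.Perm (Fin 100))).comp D.subtype).comp e.symm.toMonoidHom
  have hψ : ∀ (w : List ℕ) (hw : ∀ l ∈ w, l / 2 ∈ dom), ψ ⟨wval f w, wval_mem_letG f hw⟩ = wval gHS w := by
    intro w hw
    have h1 : e.symm ⟨wval f w, wval_mem_letG f hw⟩ = ⟨wval (pairF f) w, wval_mem_letG _ hw⟩ := by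
      apply e.injective
      rw [MulEquiv.apply_symm_apply]
      exact Subtype.ext (congrArg Prod.fst (wval_pairF f w)).symm
    show ((e.symm ⟨wval f w, wval_mem_letG f hw⟩ : D) : G × Equiv.Perm (Fin 100)).2 = _
    rw [h1]
    exact congrArg Prod.snd (wval_pairF f w)
  have hinj : Function.Injective ψ := by
    rw [← MonoidHom.ker_eq_bot_iff]
    by_contra hne
    obtain ⟨n, hn, hv⟩ := hk ψ.ker inferInstance hne
    refine hwt ?_
    rw [← hψ wt hdom, show (⟨wval f wt, wval_mem_letG f hdom⟩ : S) = n from Subtype.ext hv.symm]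
    exact hn
  intro w hw
  constructor
  · intro h
    have h1 : (⟨wval f w, wval_mem_letG f hw⟩ : S) = 1 := hinj (by rw [hψ w hw, h, map_one])
    exact congrArg Subtype.val h1
  · intro h
    rw [← hψ w hw, show (⟨wval f w, wval_mem_letG f hw⟩ : S) = 1 from Subtype.ext h, map_one]

end Transfer

end Cfsg.Lib.HSType
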