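import Cfsg.Agent.Lib.HSType.MStep
import Cfsg.Agent.Lib.HSType.Model
import Cfsg.Agent.Lib.HSType.MCertChecks
import Cfsg.Agent.Lib.HSType.Words168

/-!
# The relations in the normaliser of `V`
-/

set_option autoImplicit false
set_option linter.style.haveILetI false
set_option linter.unusedSectionVars false
set_option maxRecDepth 100000
set_option maxHeartbeats 1000000

namespace Cfsg.Lib.HSType

open Subgroup Cfsg.Lib.J3Type
open scoped commutatorElement

variable {G : Type*} [Group G]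

theorem lval_lets_even {g : ℕ → G} {j : ℕ} (hj : j < 15) : lval g (2 * j) = g j := by
  unfold lval
  rw [if_neg (by show ¬ 30 ≤ 2 * j; omega), if_pos (by omega), show 2 * j / 2 = j by omega]

/-- The set generated by the certificate's letters. -/
theorem gens_set {g : ℕ → G} {K : J3Type.Cert} {dom : List ℕ} (h : K.gens = dom.map (2 * ·))
    (hd : ∀ j ∈ dom, j < 15) :
    Subgroup.closure {y | ∃ j < K.gens.length, lval g (K.gens.getD j idL) = y} = letG g dom := by
  rw [letG]
  congr 1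
  ext y
  constructor
  · rintro ⟨j, hj, rfl⟩
    rw [h, List.length_map] at hj
    refine ⟨dom[j], List.getElem_mem hj, ?_⟩
    rw [h, List.getD_eq_getElem _ _ (by simpa using hj), List.getElem_map,
      lval_lets_even (hd _ (List.getElem_mem hj))]
  · rintro ⟨i, hi, rfl⟩
    obtain ⟨j, hj, rfl⟩ := List.getElem_of_mem hi
    refine ⟨j, by rw [h, List.length_map]; exact hj, ?_⟩
    rw [h, List.getD_eq_getElem _ _ (by simpa using hj), List.getElem_map,
      lval_lets_even (hd _ (List.getElem_mem hj))]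

theorem valid_of_rules {g : ℕ → G} {K : J3Type.Cert} {H : Subgroup G} {R : List (List ℕ)}
    (hR : ∀ r ∈ R, wval g r = 1) (hK : (K.rules.all fun ws => ws.all (isRule R)) = true)
    (hs : ∀ l ∈ K.subs, lval g l ∈ H) : Valid K g H :=
  ⟨fun ws hws w hw => wval_isRule hR (List.all_eq_true.1 (List.all_eq_true.1 hK ws hws) w hw), hs⟩

theorem cert_bound [Finite G] {g : ℕ → G} {K : J3Type.Cert} {H : Subgroup G} (hV : Valid K g H)
    (h1 : ∀ i < K.nFacts, factOK K i = true) (h2 : ∀ c < K.nLive, rowOK K c = true)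
    (h0 : K.live.get 15 0 = 0) {n : ℕ} (hn : K.nLive = n) (hpos : 0 < n) {dom : List ℕ}
    (hg : K.gens = dom.map (2 * ·)) (hd : ∀ j ∈ dom, j < 15) :
    Nat.card (letG g dom) ≤ n * Nat.card H := by
  rw [← gens_set hg hd, ← hn]
  exact card_closure_le hV h1 h0 h2 (hn ▸ hpos)

theorem mem_letG {g : ℕ → G} {dom : List ℕ} {j : ℕ} (h : j ∈ dom) : g j ∈ letG g dom :=
  subset_closure ⟨j, h, rfl⟩

theorem letG_mono {g : ℕ → G} {d d' : List ℕ} (h : ∀ j ∈ d, g j ∈ letG g d') : letG g d ≤ letG g d' :=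
  (closure_le _).2 fun _ ⟨j, hj, e⟩ => e ▸ h j hj

/-- The letters of the normaliser. -/
def domM : List ℕ := [0, 1, 2, 3, 4, 5, 7, 8, 9, 10]

/-- The generators of the normaliser. -/
def domM4 : List ℕ := [0, 3, 4, 7]

/-- The matrix on `V` of a letter of the words. -/
def letMat (l : ℕ) : Mat 2 :=
  if l = 14 then matX2
  else if l = 15 then mm (mm (mm (mm (mm matX2 matX2) matX2) matX2) matX2) matX2
  else matS2

/-- The matrix on `V` of a word. -/
def wordMat : List ℕ → Mat 2
  | [] => one3 2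
  | l :: w => mm (letMat l) (wordMat w)

theorem words168_ok : (words168.map wordMat).Nodup ∧ words168.length = 168 ∧
    ∀ w ∈ words168, ∀ l ∈ w, l = 14 ∨ l = 15 ∨ l = 8 := by decide +kernel

theorem cert_rules_M : (abCert.rules.all fun ws => ws.all (isRule baseR)) = true ∧
    (mCert.rules.all fun ws => ws.all (isRule baseR)) = true ∧
    (frobCert.rules.all fun ws => ws.all (isRule baseR)) = true ∧
    (frobCert.rules.all fun ws => ws.all (isRule baseN)) = true := by decide +kernel

/-- The relators given a square of `s` equal to `t`. -/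
def killMR (j : ℕ) : List (List ℕ) := baseN ++ [[8, 8, 1, 1], [8, 14, 8, 14, 8, 14] ++ List.replicate j 3]

/-- The relators given a cube equal to `c₁` and an element of `R`. -/
def killNR (a : List ℕ) : List (List ℕ) :=
  let r := 10 :: a
  let q := 8 :: r ++ [9] ++ r
  baseN ++ [[8, 8], [8, 14, 8, 14, 8, 14, 3], r ++ r ++ r ++ r, q ++ q ++ q ++ q]

theorem cert_rules_kill : (killM0.rules.all fun ws => ws.all (isRule (killMR 0))) = true ∧
    (killM1.rules.all fun ws => ws.all (isRule (killMR 1))) = true ∧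
    (killN0.rules.all fun ws => ws.all (isRule (killNR []))) = true ∧
    (killN1.rules.all fun ws => ws.all (isRule (killNR [2]))) = true ∧
    (killN2.rules.all fun ws => ws.all (isRule (killNR [4]))) = true ∧
    (killN3.rules.all fun ws => ws.all (isRule (killNR [2, 4]))) = true := by decide +kernel

variable [Finite G] {t c y s x : G} {R Cy V A M : Subgroup G}

theorem x_orbit : ∀ q : Pt 2, q = 0 ∨ q = (1, 0, 0) ∨ mv matX2 q = (1, 0, 0) ∨ mv (mm matX2 matX2) q = (1, 0, 0) ∨
    mv (mm (mm matX2 matX2) matX2) q = (1, 0, 0) ∨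
    mv (mm (mm (mm matX2 matX2) matX2) matX2) q = (1, 0, 0) ∨
    mv (mm (mm (mm (mm matX2 matX2) matX2) matX2) matX2) q = (1, 0, 0) ∨
    mv (mm (mm (mm (mm (mm matX2 matX2) matX2) matX2) matX2) matX2) q = (1, 0, 0) := by decide +kernel

namespace MPre

variable (h : MPre t c y s x A M) (L : Loc t R Cy V A M)
include h L

theorem ptA (p : Pt 4) : pt c (cOne c x) (cTwo c x) p ∈ A :=
  have h1 : cOne c x ∈ A := L.conj_A h.xM h.cA
  mul_mem (mul_mem (pow_mem h.cA _) (pow_mem h1 _)) (pow_mem (L.conj_A h.xM h1) _)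

theorem v1_mem : cOne c x * cOne c x ∈ V := by
  rw [show cOne c x * cOne c x = x * (c * c) * x⁻¹ by simp only [cOne]; group, h.csq]
  exact L.mem_M h.xM L.tV

theorem v2_mem : cTwo c x * cTwo c x ∈ V := by
  rw [show cTwo c x * cTwo c x = x * (cOne c x * cOne c x) * x⁻¹ by simp only [cTwo]; group]
  exact L.mem_M h.xM (h.v1_mem L)

theorem tri2 : Tri 2 t (cOne c x * cOne c x) (cTwo c x * cTwo c x) :=
  ⟨by rw [pow_two]; exact L.tsq, by rw [pow_two]; exact L.V_sq _ (h.v1_mem L),
    by rw [pow_two]; exact L.V_sq _ (h.v2_mem L), L.V_comm _ L.tV _ (h.v1_mem L),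
    L.V_comm _ L.tV _ (h.v2_mem L), L.V_comm _ (h.v1_mem L) _ (h.v2_mem L)⟩

theorem inj2 : ∀ q : Pt 2, pt t (cOne c x * cOne c x) (cTwo c x * cTwo c x) q = 1 → q = 0 := by
  intro q hq
  have e := h.inj ((2 * q.1.val : ℕ), (2 * q.2.1.val : ℕ), (2 * q.2.2.val : ℕ))
  rw [show pt c (cOne c x) (cTwo c x) (((2 * q.1.val : ℕ), (2 * q.2.1.val : ℕ), (2 * q.2.2.val : ℕ)) : Pt 4)
    = pt t (cOne c x * cOne c x) (cTwo c x * cTwo c x) q by
      simp only [pt, ZMod.val_natCast]
      rw [← pow_eq_pow_mod _ h.core.tri.pa, ← pow_eq_pow_mod _ h.core.tri.pb, ← pow_eq_pow_mod _ h.core.tri.pc,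
        pow_mul, pow_mul, pow_mul, pow_two, pow_two, pow_two, h.csq]] at e
  have key : ∀ q : Pt 2,
      ((((2 * q.1.val : ℕ) : ZMod 4), ((2 * q.2.1.val : ℕ) : ZMod 4), ((2 * q.2.2.val : ℕ) : ZMod 4)) : Pt 4) = 0 →
        q = 0 := by decide +kernel
  exact key q (e hq)

theorem w_eq : wEl s x = x * x * x * s * (x * x * x * x) := by
  rw [wEl, show (x * x * x)⁻¹ = x * x * x * x from inv_eq_of_mul_eq_one_right
    (by simpa [mul_assoc] using h.core.x7)]

theorem aw2 : Act t (cOne c x * cOne c x) (cTwo c x * cTwo c x) (wEl s x)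
    (((1, 0, 0), (0, 1, 0), (1, 0, 1)) : Mat 2) := by
  have T := h.tri2 L
  have := (((h.ax2.mul h.ax2 T).mul h.ax2 T).mul h.as2 T).mul (((h.ax2.mul h.ax2 T).mul h.ax2 T).mul h.ax2 T) T
  rw [show mm (mm (mm (mm matX2 matX2) matX2) matS2) (mm (mm (mm matX2 matX2) matX2) matX2)
      = ((1, 0, 0), (0, 1, 0), (1, 0, 1)) by decide +kernel, ← h.w_eq L] at this
  exact this

theorem aw4 : Act c (cOne c x) (cTwo c x) (wEl s x) matW := by
  have T := h.core.tri
  have := (((h.ax.mul h.ax T).mul h.ax T).mul h.as4 T).mul (((h.ax.mul h.ax T).mul h.ax T).mul h.ax T) T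
  rw [show mm (mm (mm (mm matX matX) matX) matS) (mm (mm (mm matX matX) matX) matX) = matW by decide +kernel,
    ← h.w_eq L] at this
  exact this

theorem wM : wEl s x ∈ M :=
  mul_mem (mul_mem (mul_mem (mul_mem h.xM h.xM) h.xM) h.sM) (inv_mem (mul_mem (mul_mem h.xM h.xM) h.xM))

theorem y_comm_t : y * t = t * y := by
  haveI : Fact (1 < 2) := ⟨by norm_num⟩
  exact mul_inv_eq_iff_eq_mul.1 (h.ay2.e0.trans (pt_e0 t (cOne c x * cOne c x) (cTwo c x * cTwo c x)))

theorem s_comm_t : s * t = t * s := by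
  haveI : Fact (1 < 2) := ⟨by norm_num⟩
  exact mul_inv_eq_iff_eq_mul.1 (h.as2.e0.trans (pt_e0 t (cOne c x * cOne c x) (cTwo c x * cTwo c x)))

theorem letMat_act (d : G) : ∀ l, l = 14 ∨ l = 15 ∨ l = 8 →
    Act t (cOne c x * cOne c x) (cTwo c x * cTwo c x) (lval (lets c y s x d) l) (letMat l) := by
  have T := h.tri2 L
  rintro l (rfl | rfl | rfl) <;>
    simp only [lval, lets, idL, letMat, Nat.reduceDiv, Nat.reduceMod, Nat.reduceLeDiff, if_true, if_false,
      Nat.reduceEqDiff, one_ne_zero]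
  · exact h.ax2
  · rw [show x⁻¹ = x * x * x * x * x * x from inv_eq_of_mul_eq_one_right (by simpa [mul_assoc] using h.core.x7)]
    exact (((((h.ax2.mul h.ax2 T).mul h.ax2 T).mul h.ax2 T).mul h.ax2 T).mul h.ax2 T)
  · exact h.as2

theorem wordMat_act (d : G) : ∀ w, (∀ l ∈ w, l = 14 ∨ l = 15 ∨ l = 8) →
    Act t (cOne c x * cOne c x) (cTwo c x * cTwo c x) (wval (lets c y s x d) w) (wordMat w) ∧
      wval (lets c y s x d) w ∈ letG (lets c y s x d) domM4 := by
  haveI : Fact (1 < 2) := ⟨by norm_num⟩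
  intro w
  induction w with
  | nil => exact fun _ => ⟨Act.one, one_mem _⟩
  | cons l w ih =>
    intro hl
    obtain ⟨e, m⟩ := ih fun k hk => hl k (List.mem_cons_of_mem _ hk)
    rw [wval_cons]
    refine ⟨(h.letMat_act L d l (hl l (List.mem_cons_self ..))).mul e (h.tri2 L), mul_mem ?_ m⟩
    rcases hl l (List.mem_cons_self ..) with rfl | rfl | rfl
    · exact mem_letG (g := lets c y s x d) (j := 7) (by decide)
    · exact inv_mem (mem_letG (g := lets c y s x d) (j := 7) (by decide))
    · exact mem_letG (g := lets c y s x d) (j := 4) (by decide)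

theorem letG4 (d : G) : letG (lets c y s x d) domM4 = M := by
  classical
  haveI : Fact (1 < 2) := ⟨by norm_num⟩
  set f := lets c y s x d with hf
  have hle : letG f domM4 ≤ M := by
    refine (closure_le _).2 ?_
    rintro _ ⟨j, hj, rfl⟩
    simp only [domM4, List.mem_cons, List.not_mem_nil, or_false] at hj
    rcases hj with rfl | rfl | rfl | rfl
    exacts [L.A_le h.cA, h.yM, h.sM, h.xM]
  have hA : ∀ a ∈ A, a ∈ letG f domM4 := by
    intro a ha
    obtain ⟨p, rfl⟩ := h.sur a ha
    have hc : c ∈ letG f domM4 := mem_letG (g := f) (j := 0) (by decide)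
    have hx : x ∈ letG f domM4 := mem_letG (g := f) (j := 7) (by decide)
    have h1 : cOne c x ∈ letG f domM4 := mul_mem (mul_mem hx hc) (inv_mem hx)
    exact mul_mem (mul_mem (pow_mem hc _) (pow_mem h1 _)) (pow_mem (mul_mem (mul_mem hx h1) (inv_mem hx)) _)
  refine Subgroup.eq_of_le_of_card_ge hle ?_
  obtain ⟨hnd, hlen, hlet⟩ := words168_ok
  have hwa : ∀ i : Fin words168.length, _ := fun i => h.wordMat_act L d words168[i] (hlet _ (List.getElem_mem i.2))
  let F : Fin words168.length × A → letG f domM4 := fun p =>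
    ⟨wval f words168[p.1] * p.2, mul_mem (hwa p.1).2 (hA _ p.2.2)⟩
  have hF : Function.Injective F := by
    rintro ⟨i, a⟩ ⟨k, b⟩ e
    have e' : wval f words168[i] * (a : G) = wval f words168[k] * (b : G) := congrArg Subtype.val e
    have key : ∀ (i : Fin words168.length) (a : A), Act t (cOne c x * cOne c x) (cTwo c x * cTwo c x)
        (wval f words168[i] * (a : G)) (wordMat words168[i]) := by
      intro i a
      have := (hwa i).1.mul (Act.of_comm (L.A_comm _ a.2 _ (L.VA L.tV)) (L.A_comm _ a.2 _ (L.VA (h.v1_mem L)))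
        (L.A_comm _ a.2 _ (L.VA (h.v2_mem L)))) (h.tri2 L)
      rwa [show mm (wordMat words168[i]) (one3 2) = wordMat words168[i] by simp [mm, mv, one3]] at this
    have hU := (key i a).unique (e'.symm ▸ key k b) ((h.tri2 L).injective (h.inj2 L))
    have hik : i = k := by
      apply Fin.ext
      refine (hnd.getElem_inj_iff (hi := by simp [i.2]) (hj := by simp [k.2])).1 ?_
      simpa using hU
    subst hik
    exact Prod.ext rfl (Subtype.ext (mul_left_cancel e'))
  have := Nat.card_le_card_of_injective F hF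
  rw [Nat.card_prod, Nat.card_fin, L.cardA, hlen] at this
  rw [L.cardM]
  exact this

theorem kill_bound {K : J3Type.Cert} {Rl : List (List ℕ)} (hR : ∀ r ∈ Rl, wval (lets c y s x 1) r = 1)
    (hN : ∀ r ∈ baseN, r ∈ Rl) (hK : (K.rules.all fun ws => ws.all (isRule Rl)) = true)
    (hsub : K.subs = [14, 6]) (hgens : K.gens = domM4.map (2 * ·)) (hlive : K.nLive = 64)
    (h1 : ∀ i < K.nFacts, factOK K i = true) (h2 : ∀ c < K.nLive, rowOK K c = true)
    (h0 : K.live.get 15 0 = 0) : False := by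
  set f := lets c y s x (1 : G)
  have hfr : Nat.card (letG f [3, 7]) ≤ 21 * Nat.card (⊥ : Subgroup G) :=
    cert_bound (valid_of_rules (R := baseN) (fun r hr => hR r (hN r hr)) cert_rules_M.2.2.2 (by
        intro l hl; simp [show frobCert.subs = [] from rfl] at hl))
      frobCert_fact_ok frobCert_row_ok frobCert_live_zero (n := 21) rfl (by norm_num) rfl (by decide)
  rw [Subgroup.card_bot, mul_one] at hfr
  have hM : Nat.card (letG f domM4) ≤ 64 * Nat.card (letG f [3, 7]) :=
    cert_bound (valid_of_rules hR hK (by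
        intro l hl
        rw [hsub] at hl
        simp only [List.mem_cons, List.not_mem_nil, or_false] at hl
        rcases hl with rfl | rfl
        · exact mem_letG (g := f) (j := 7) (by decide)
        · exact mem_letG (g := f) (j := 3) (by decide)))
      h1 h2 h0 hlive (by norm_num) hgens (by decide)
  rw [h.letG4 L, L.cardM] at hM
  omega

theorem sq_one : s * s = 1 := by
  refine h.sq.resolve_right fun hst => ?_
  have hN := h.core.baseN_rel (1 : G)
  have e : ∀ l, wval (lets c y s x (1 : G)) l = (l.map (lval (lets c y s x (1 : G)))).prod := fun _ => rfl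
  have k0 : wval (lets c y s x (1 : G)) [8, 8, 1, 1] = 1 := by
    simp only [e, lval, lets, idL, List.map, List.prod_cons, List.prod_nil, mul_one, Nat.reduceDiv, Nat.reduceMod,
      Nat.reduceLeDiff, if_true, if_false, one_ne_zero]
    rw [← mul_assoc, hst, ← h.csq]; group
  rcases h.cube with hc | hc
  · refine h.kill_bound L ?_ (fun r hr => List.mem_append_left _ hr) cert_rules_kill.1 rfl rfl rfl
      killM0_fact_ok killM0_row_ok killM0_live_zero
    intro r hr
    simp only [List.replicate, List.append_nil, List.mem_append, List.mem_cons, List.not_mem_nil,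
      or_false] at hr
    rcases hr with hr | rfl | rfl
    · exact hN r hr
    · exact k0
    · simpa [wval, lval, lets, idL, mul_assoc] using hc
  · refine h.kill_bound L ?_ (fun r hr => List.mem_append_left _ hr) cert_rules_kill.2.1 rfl rfl rfl
      killM1_fact_ok killM1_row_ok killM1_live_zero
    intro r hr
    simp only [List.replicate, List.mem_append, List.mem_cons, List.not_mem_nil,
      or_false, List.cons_append, List.nil_append] at hr
    rcases hr with hr | rfl | rfl
    · exact hN r hr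
    · exact k0
    · simp only [e, lval, lets, idL, List.map, List.prod_cons, List.prod_nil, mul_one, Nat.reduceDiv,
        Nat.reduceMod, Nat.reduceLeDiff, if_true, if_false, one_ne_zero]
      rw [← hc]; group

theorem R_le_M : R ≤ M := by
  intro r hr
  rw [L.hM]
  have key : ∀ r ∈ R, ∀ v ∈ V, r * v * r⁻¹ ∈ V := by
    intro r hr v hv
    rw [show r * v * r⁻¹ = ⁅r, v⁆ * v by simp only [commutatorElement_def]; group]
    rcases L.cm r hr v (L.V_le hv) with e | e <;> rw [e]
    · rwa [one_mul]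
    · exact mul_mem L.tV hv
  refine mem_normalizer_iff.2 fun v => ⟨key r hr v, fun hv => ?_⟩
  have := key r⁻¹ (inv_mem hr) _ hv
  rwa [inv_inv, show r⁻¹ * (r * v * r⁻¹) * r = v by group] at this

theorem A_le_cen {a : G} (ha : a ∈ A) : a * t = t * a := (L.A_comm a ha t (L.VA L.tV)).eq

/-- `R` contains `c` and, up to `A`, the element `w`. -/
theorem R_facts : c ∈ R ∧ ∃ j k : ZMod 2, wEl s x * cOne c x ^ j.val * cTwo c x ^ k.val ∈ R := by
  classical
  haveI : Fact (1 < 2) := ⟨by norm_num⟩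
  have T := h.tri2 L
  have hTinj := T.injective (h.inj2 L)
  obtain ⟨r, hr, hrA⟩ : ∃ r ∈ R, r ∉ A := by
    by_contra hh
    push Not at hh
    have : Nat.card R ≤ Nat.card Cy :=
      card_le_of_le fun r hr => L.cy_of r hr fun b hb => L.A_comm r (hh r hr) b (hh b hb)
    rw [L.cardR, L.cardCy] at this
    omega
  have hrM := h.R_le_M L hr
  have hrt : r * t * r⁻¹ = t := by
    rw [mem_centralizer_singleton_iff.1 (L.R_le hr), mul_inv_cancel_right]
  have himg : ∀ v ∈ V, r * v * r⁻¹ = v ∨ r * v * r⁻¹ = t * v := by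
    intro v hv
    rw [show r * v * r⁻¹ = ⁅r, v⁆ * v by simp only [commutatorElement_def]; group]
    rcases L.cm r hr v (L.V_le hv) with e | e <;> rw [e]
    · exact Or.inl (one_mul v)
    · exact Or.inr rfl
  have hab : ∀ v ∈ V, ∀ q : Pt 2, pt t (cOne c x * cOne c x) (cTwo c x * cTwo c x) q = v →
      ∃ α : ZMod 2, r * v * r⁻¹ = pt t (cOne c x * cOne c x) (cTwo c x * cTwo c x) ((α, 0, 0) + q) := by
    intro v hv q hq
    rcases himg v hv with e | e
    · refine ⟨0, ?_⟩
      rw [e, show ((0, 0, 0) : Pt 2) + q = q from zero_add q, hq]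
    · refine ⟨1, ?_⟩
      rw [e, T.add, pt_e0, hq]
  obtain ⟨α, hα⟩ := hab _ (h.v1_mem L) _ (pt_e1 t (cOne c x * cOne c x) (cTwo c x * cTwo c x))
  obtain ⟨β, hβ⟩ := hab _ (h.v2_mem L) _ (pt_e2 t (cOne c x * cOne c x) (cTwo c x * cTwo c x))
  have ar : Act t (cOne c x * cOne c x) (cTwo c x * cTwo c x) r
      ((1, 0, 0), (α, 0, 0) + (0, 1, 0), (β, 0, 0) + (0, 0, 1)) :=
    ⟨by rw [hrt]; exact (pt_e0 t _ _).symm, hα, hβ⟩
  have hne : (α, β) ≠ (0, 0) := by
    intro e
    obtain ⟨rfl, rfl⟩ := Prod.mk.inj e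
    refine hrA (L.mem_A_of_act (h.v1_mem L) (h.v2_mem L) T (h.inj2 L) hrM ?_)
    simpa [one3] using ar
  have hyR : ∀ u ∈ R, y * u * y⁻¹ ∈ R := fun u hu => L.R_norm y (h.y_comm_t L) u hu
  have key : ∀ α β : ZMod 2, (α, β) ≠ (0, 0) →
      (((1, 0, 0), (α, 0, 0) + (0, 1, 0), (β, 0, 0) + (0, 0, 1)) : Mat 2) = ((1, 0, 0), (0, 1, 0), (1, 0, 1)) ∨
      mm (mm matY2 ((1, 0, 0), (α, 0, 0) + (0, 1, 0), (β, 0, 0) + (0, 0, 1))) (mm matY2 matY2)
        = ((1, 0, 0), (0, 1, 0), (1, 0, 1)) ∨
      mm (mm matY2 (mm (mm matY2 ((1, 0, 0), (α, 0, 0) + (0, 1, 0), (β, 0, 0) + (0, 0, 1))) (mm matY2 matY2)))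
        (mm matY2 matY2) = ((1, 0, 0), (0, 1, 0), (1, 0, 1)) := by decide +kernel
  have hyinv : y⁻¹ = y * y := inv_eq_of_mul_eq_one_right (by rw [← mul_assoc]; exact h.core.y3)
  have conjy : ∀ u U, Act t (cOne c x * cOne c x) (cTwo c x * cTwo c x) u U →
      Act t (cOne c x * cOne c x) (cTwo c x * cTwo c x) (y * u * y⁻¹) (mm (mm matY2 U) (mm matY2 matY2)) := by
    intro u U e
    rw [hyinv]
    exact (h.ay2.mul e T).mul (h.ay2.mul h.ay2 T) T
  obtain ⟨r1, hr1, ar1⟩ : ∃ r1 ∈ R, Act t (cOne c x * cOne c x) (cTwo c x * cTwo c x) r1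
      ((1, 0, 0), (0, 1, 0), (1, 0, 1)) := by
    rcases key α β hne with e | e | e
    · exact ⟨r, hr, e ▸ ar⟩
    · exact ⟨_, hyR r hr, e ▸ conjy _ _ ar⟩
    · exact ⟨_, hyR _ (hyR r hr), e ▸ conjy _ _ (conjy _ _ ar)⟩
  have hz : (wEl s x)⁻¹ * r1 ∈ A :=
    L.inv_mul_mem_A (h.v1_mem L) (h.v2_mem L) T (h.inj2 L) (h.wM L) (h.R_le_M L hr1) (h.aw2 L) ar1
  obtain ⟨p, hp⟩ := h.sur _ hz
  have hr1' : wEl s x * pt c (cOne c x) (cTwo c x) p = r1 := by rw [hp]; group
  have hc2 : cTwo c x ∈ A := L.conj_A h.xM (L.conj_A h.xM h.cA)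
  have hcR : c ∈ R := by
    haveI : Fact (1 < 4) := ⟨by norm_num⟩
    have e1 : cTwo c x * r1 * (cTwo c x)⁻¹ * r1⁻¹ ∈ R := mul_mem (L.R_norm _ (A_le_cen h L hc2) _ hr1) (inv_mem hr1)
    have e2 : cTwo c x * r1 * (cTwo c x)⁻¹ * r1⁻¹
        = cTwo c x * (wEl s x * cTwo c x * (wEl s x)⁻¹)⁻¹ := by
      rw [← hr1', show cTwo c x * (wEl s x * pt c (cOne c x) (cTwo c x) p) * (cTwo c x)⁻¹
          * (wEl s x * pt c (cOne c x) (cTwo c x) p)⁻¹
        = cTwo c x * wEl s x * (pt c (cOne c x) (cTwo c x) p * (cTwo c x)⁻¹) *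
          (pt c (cOne c x) (cTwo c x) p)⁻¹ * (wEl s x)⁻¹ by group,
        (L.A_comm _ (h.ptA L p) _ (inv_mem hc2)).eq]
      group
    rw [e2, (h.aw4 L).e2] at e1
    nth_rw 1 [← pt_e2 (n := 4) c (cOne c x) (cTwo c x)] at e1
    rw [← h.core.tri.sub, show ((0, 0, 1) : Pt 4) - matW.2.2 = (1, 2, 2) by decide +kernel] at e1
    have e3 : c ^ 1 * (cOne c x ^ 2 * cTwo c x ^ 2) ∈ R := by
      rw [← mul_assoc]; exact e1
    rw [pow_one] at e3
    have e4 : cOne c x ^ 2 * cTwo c x ^ 2 ∈ R := by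
      rw [pow_two, pow_two]; exact mul_mem (L.V_le (h.v1_mem L)) (L.V_le (h.v2_mem L))
    have := mul_mem e3 (inv_mem e4)
    rwa [mul_inv_cancel_right] at this
  refine ⟨hcR, ?_⟩
  have dec : ∀ p : Pt 4, ∃ j k : ZMod 2, ∃ i : ZMod 4, ∃ a b : ZMod 2,
      p = ((0, (j.val : ZMod 4), (k.val : ZMod 4)) : Pt 4) + (i, 2 * (a.val : ZMod 4), 2 * (b.val : ZMod 4)) := by
    decide +kernel
  obtain ⟨j, k, i, a, b, rfl⟩ := dec p
  refine ⟨j, k, ?_⟩
  have v4 : ∀ a : ZMod 2, ((a.val : ℕ) : ZMod 4).val = a.val ∧ (2 * ((a.val : ℕ) : ZMod 4)).val = 2 * a.val := by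
    decide +kernel
  rw [h.core.tri.add] at hr1'
  have hrest : pt c (cOne c x) (cTwo c x) ((i, 2 * (a.val : ZMod 4), 2 * (b.val : ZMod 4)) : Pt 4) ∈ R := by
    simp only [pt, (v4 a).2, (v4 b).2, pow_mul]
    refine mul_mem (mul_mem (pow_mem hcR _) (pow_mem ?_ _)) (pow_mem ?_ _) <;> rw [pow_two]
    exacts [L.V_le (h.v1_mem L), L.V_le (h.v2_mem L)]
  have := mul_mem (hr1'.symm ▸ hr1) (inv_mem hrest)
  rw [← mul_assoc, mul_inv_cancel_right] at this
  simp only [pt, (v4 j).1, (v4 k).1, ZMod.val_zero, pow_zero, one_mul] at this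
  simpa [mul_assoc] using this

theorem cube_one : s * x * (s * x) * (s * x) = 1 := by
  refine h.cube.resolve_right fun hc => ?_
  obtain ⟨-, j, k, hr⟩ := h.R_facts L
  have hN := h.core.baseN_rel (1 : G)
  have e : ∀ l, wval (lets c y s x (1 : G)) l = (l.map (lval (lets c y s x (1 : G)))).prod := fun _ => rfl
  have hs1 := h.sq_one L
  have p4 : ∀ u ∈ R, u * u * u * u = 1 := by
    intro u hu
    rcases L.sq u hu with e | e
    · rw [e, one_mul, e]
    · rw [mul_assoc, e, L.tsq]
  have z2 : ∀ i : ZMod 2, i = 0 ∨ i = 1 := by decide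
  have build : ∀ (a : List ℕ), wval (lets c y s x (1 : G)) (10 :: a) ∈ R →
      ∀ r ∈ killNR a, wval (lets c y s x (1 : G)) r = 1 := by
    intro a ha r hr'
    simp only [killNR, List.mem_append, List.mem_cons, List.not_mem_nil, or_false] at hr'
    rcases hr' with hr' | rfl | rfl | rfl | rfl
    · exact hN r hr'
    · simpa [wval, lval, lets, idL] using hs1
    · simp only [e, lval, lets, idL, List.map, List.prod_cons, List.prod_nil, mul_one, Nat.reduceDiv,
        Nat.reduceMod, Nat.reduceLeDiff, if_true, if_false, one_ne_zero]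
      rw [← hc]; group
    · simp only [wval_append]; exact p4 _ ha
    · have hq : wval (lets c y s x (1 : G)) (8 :: (10 :: a) ++ [9] ++ (10 :: a)) ∈ R := by
        rw [wval_append, wval_append, wval_cons,
          show lval (lets c y s x (1 : G)) 8 = s from rfl,
          show wval (lets c y s x (1 : G)) [9] = s⁻¹ by simp [wval, lval, lets, idL]]
        exact mul_mem (L.R_norm s (h.s_comm_t L) _ ha) ha
      rw [wval_append, wval_append, wval_append]
      exact p4 _ hq
  rcases z2 j with rfl | rfl <;> rcases z2 k with rfl | rfl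
  · exact h.kill_bound L (build [] (by simpa [wval, lval, lets, idL] using hr))
      (fun r hr => List.mem_append_left _ hr) cert_rules_kill.2.2.1 rfl rfl rfl
      killN0_fact_ok killN0_row_ok killN0_live_zero
  · exact h.kill_bound L (build [4] (by simpa [wval, lval, lets, idL, ZMod.val_one] using hr))
      (fun r hr => List.mem_append_left _ hr) cert_rules_kill.2.2.2.2.1 rfl rfl rfl
      killN2_fact_ok killN2_row_ok killN2_live_zero
  · exact h.kill_bound L (build [2] (by simpa [wval, lval, lets, idL, ZMod.val_one] using hr))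
      (fun r hr => List.mem_append_left _ hr) cert_rules_kill.2.2.2.1 rfl rfl rfl
      killN1_fact_ok killN1_row_ok killN1_live_zero
  · exact h.kill_bound L (build [2, 4] (by simpa [wval, lval, lets, idL, ZMod.val_one, mul_assoc] using hr))
      (fun r hr => List.mem_append_left _ hr) cert_rules_kill.2.2.2.2.2 rfl rfl rfl
      killN3_fact_ok killN3_row_ok killN3_live_zero

theorem baseR_rel (d : G) : ∀ r ∈ baseR, wval (lets c y s x d) r = 1 := by
  intro r hr
  simp only [baseR, List.mem_append, List.mem_cons, List.not_mem_nil, or_false] at hr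
  rcases hr with hr | rfl | rfl
  · exact h.core.baseN_rel d r hr
  · simpa [wval, lval, lets, idL] using h.sq_one L
  · simpa [wval, lval, lets, idL, mul_assoc] using h.cube_one L

theorem letG_domM (d : G) : letG (lets c y s x d) domM = M := by
  refine le_antisymm ?_ (le_trans (h.letG4 L d).symm.le (letG_mono fun j hj => mem_letG (by
    simp only [domM4, domM, List.mem_cons, List.not_mem_nil, or_false] at hj ⊢; tauto)))
  refine (closure_le _).2 ?_
  rintro _ ⟨j, hj, rfl⟩
  have hc := L.A_le h.cA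
  have h1 : cOne c x ∈ M := mul_mem (mul_mem h.xM hc) (inv_mem h.xM)
  have h2 : cTwo c x ∈ M := mul_mem (mul_mem h.xM h1) (inv_mem h.xM)
  have hw := h.wM L
  simp only [domM, List.mem_cons, List.not_mem_nil, or_false] at hj
  rcases hj with rfl | rfl | rfl | rfl | rfl | rfl | rfl | rfl | rfl | rfl
  exacts [hc, h1, h2, h.yM, h.sM, hw, h.xM, mul_mem (mul_mem (mul_mem (inv_mem hc) h1) h.yM) hw,
    mul_mem (mul_mem (mul_mem (mul_mem (inv_mem hc) (inv_mem h.yM)) h1) h.sM) hw,
    mul_mem (mul_mem (mul_mem (mul_mem (mul_mem h1 h.yM) h.xM) h2) h.xM) hw]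

theorem pairs_M (d : G) : Nat.card (letG (pairF (lets c y s x d)) domM) ≤ 10752 := by
  set f := lets c y s x d with hf
  set g := pairF f with hg
  have hR : ∀ r ∈ baseR, wval g r = 1 := by
    intro r hr
    rw [hg, wval_pairF, h.baseR_rel L d r hr,
      evB_spec (List.all_eq_true.1 (show (baseR.all evB) = true by decide +kernel) r hr)]
    rfl
  have ewd : ∀ j w, eqB [2 * j] w = true → j < 11 → (∀ l ∈ w, l < 22) → f j = wval f w →
      g j = wval g w := by
    intro j w e hj hw e'
    rw [hg, wval_pairF, ← (eqB_iff (by simpa using (by omega : 2 * j < 22)) hw).1 e, ← e']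
    simp [pairF, wval, lval_lets_even (g := gHS) (by omega : j < 15)]
  have h1 : g 1 = g 7 * g 0 * (g 7)⁻¹ := by
    have := hR [14, 0, 15, 3] (by simp [baseR, baseN])
    simp [wval, lval, idL, ← mul_assoc] at this
    exact (mul_inv_eq_one.1 this).symm
  have h2 : g 2 = g 7 * g 1 * (g 7)⁻¹ := by
    have := hR [14, 2, 15, 5] (by simp [baseR, baseN])
    simp [wval, lval, idL, ← mul_assoc] at this
    exact (mul_inv_eq_one.1 this).symm
  have h5 : g 5 = g 7 * g 7 * g 7 * g 4 * (g 7)⁻¹ * (g 7)⁻¹ * (g 7)⁻¹ := by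
    have := hR [14, 14, 14, 8, 15, 15, 15, 11] (by simp [baseR, baseN])
    simp [wval, lval, idL, ← mul_assoc] at this
    exact (mul_inv_eq_one.1 this).symm
  have m0 : g 0 ∈ letG g domM4 := mem_letG (by decide)
  have m3 : g 3 ∈ letG g domM4 := mem_letG (by decide)
  have m4 : g 4 ∈ letG g domM4 := mem_letG (by decide)
  have m7 : g 7 ∈ letG g domM4 := mem_letG (by decide)
  have m1 : g 1 ∈ letG g domM4 := h1 ▸ mul_mem (mul_mem m7 m0) (inv_mem m7)
  have m2 : g 2 ∈ letG g domM4 := h2 ▸ mul_mem (mul_mem m7 m1) (inv_mem m7)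
  have m5 : g 5 ∈ letG g domM4 :=
    h5 ▸ mul_mem (mul_mem (mul_mem (mul_mem (mul_mem (mul_mem m7 m7) m7) m4) (inv_mem m7)) (inv_mem m7)) (inv_mem m7)
  have small : letG g [0, 1, 2, 3, 4, 5, 7] ≤ letG g domM4 := letG_mono fun j hj => by
    simp only [List.mem_cons, List.not_mem_nil, or_false] at hj
    rcases hj with rfl | rfl | rfl | rfl | rfl | rfl | rfl <;> assumption
  have hle : letG g domM ≤ letG g domM4 := letG_mono fun j hj => by
    simp only [domM, List.mem_cons, List.not_mem_nil, or_false] at hj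
    rcases hj with rfl | rfl | rfl | rfl | rfl | rfl | rfl | rfl | rfl | rfl <;> try assumption
    · exact small (ewd 8 kWord0 (by decide +kernel) (by norm_num) (by decide) (kWord0_val c y s x d) ▸
        wval_mem_letG g (by decide))
    · exact small (ewd 9 kWord1 (by decide +kernel) (by norm_num) (by decide) (kWord1_val c y s x d) ▸
        wval_mem_letG g (by decide))
    · exact small (ewd 10 xbWord (by decide +kernel) (by norm_num) (by decide) (xbWord_val c y s x d) ▸
        wval_mem_letG g (by decide))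
  refine le_trans (card_le_of_le hle) ?_
  have hA : Nat.card (letG g [0, 1, 2]) ≤ 64 * Nat.card (⊥ : Subgroup (G × Equiv.Perm (Fin 100))) :=
    cert_bound (valid_of_rules hR cert_rules_M.1 (by
        intro l hl; simp [show abCert.subs = [] from rfl] at hl))
      abCert_fact_ok abCert_row_ok abCert_live_zero (n := 64) rfl (by norm_num) rfl (by decide)
  rw [Subgroup.card_bot, mul_one] at hA
  have hM : Nat.card (letG g domM4) ≤ 168 * Nat.card (letG g [0, 1, 2]) :=
    cert_bound (valid_of_rules hR cert_rules_M.2.1 (by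
        intro l hl
        simp only [show mCert.subs = [0, 2, 4] from rfl, List.mem_cons, List.not_mem_nil, or_false] at hl
        rcases hl with rfl | rfl | rfl
        · exact mem_letG (g := g) (j := 0) (by decide)
        · exact mem_letG (g := g) (j := 1) (by decide)
        · exact mem_letG (g := g) (j := 2) (by decide)))
      mCert_fact_ok mCert_row_ok mCert_live_zero (n := 168) rfl (by norm_num) rfl (by decide)
  omega

/-- A nontrivial subgroup invariant under `M` contains `t`. -/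
theorem t_mem_normal {N : Subgroup G} (hN : N ≤ M) (hn : ∀ g ∈ M, ∀ n ∈ N, g * n * g⁻¹ ∈ N) (hne : N ≠ ⊥) :
    t ∈ N := by
  classical
  haveI : Fact (1 < 2) := ⟨by norm_num⟩
  have T := h.tri2 L
  obtain ⟨n, hnN, hn1⟩ := N.bot_or_exists_ne_one.resolve_left hne
  obtain ⟨v, hvV, hvN, hv1⟩ : ∃ v ∈ V, v ∈ N ∧ v ≠ 1 := by
    by_cases hnA : n ∈ A
    · by_cases h2 : n * n = 1
      · exact ⟨n, L.A_two n hnA h2, hnN, hn1⟩
      · exact ⟨n * n, L.A_two _ (mul_mem hnA hnA) (by
          rw [show n * n * (n * n) = n ^ 4 by simp [pow_succ, mul_assoc], L.A_four n hnA]),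
          mul_mem hnN hnN, h2⟩
    · obtain ⟨v, hv, hc⟩ : ∃ v ∈ V, ¬ Commute n v := by
        by_contra hh
        push Not at hh
        exact hnA (L.cen_V n (hN hnN) hh)
      have hvM : v ∈ M := L.A_le (L.VA hv)
      refine ⟨⁅n, v⁆, ?_, ?_, fun e => hc (commutatorElement_eq_one_iff_commute.1 e)⟩
      · rw [commutatorElement_def]
        exact mul_mem (L.mem_M (hN hnN) hv) (inv_mem hv)
      · rw [commutatorElement_def, show n * v * n⁻¹ * v⁻¹ = n * (v * n⁻¹ * v⁻¹) by group]
        exact mul_mem hnN (hn v hvM _ (inv_mem hnN))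
  obtain ⟨q, rfl⟩ := L.coord_V (h.v1_mem L) (h.v2_mem L) T (h.inj2 L) v hvV
  have step : ∀ (g : G) (U : Mat 2), g ∈ M → Act t (cOne c x * cOne c x) (cTwo c x * cTwo c x) g U →
      mv U q = (1, 0, 0) → t ∈ N := by
    intro g U hg a e
    have := hn g hg _ hvN
    rwa [a.conj T, e, pt_e0] at this
  have hx := h.xM
  have a2 := h.ax2.mul h.ax2 T
  have a3 := a2.mul h.ax2 T
  have a4 := a3.mul h.ax2 T
  have a5 := a4.mul h.ax2 T
  rcases x_orbit q with e | e | e | e | e | e | e | e
  · exact absurd (by rw [e, pt_zero]) hv1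
  · rw [e, pt_e0] at hvN; exact hvN
  · exact step _ _ hx h.ax2 e
  · exact step _ _ (mul_mem hx hx) a2 e
  · exact step _ _ (mul_mem (mul_mem hx hx) hx) a3 e
  · exact step _ _ (mul_mem (mul_mem (mul_mem hx hx) hx) hx) a4 e
  · exact step _ _ (mul_mem (mul_mem (mul_mem (mul_mem hx hx) hx) hx) hx) a5 e
  · exact step _ _ (mul_mem (mul_mem (mul_mem (mul_mem (mul_mem hx hx) hx) hx) hx) hx) (a5.mul h.ax2 T) e

/-- The model decides the relations among the letters of the normaliser. -/
theorem rel_iff (d : G) : ∀ w : List ℕ, (∀ l ∈ w, l / 2 ∈ domM) →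
    (wval gHS w = 1 ↔ wval (lets c y s x d) w = 1) := by
  refine transfer (lets c y s x d) domM ?_ (wt := [0, 0]) (not_evB (by decide +kernel) (by decide)) (by decide) ?_
  · rw [h.letG_domM L, L.cardM]
    exact h.pairs_M L d
  · intro N hN hne
    have hmap : t ∈ N.map (letG (lets c y s x d) domM).subtype := by
      refine h.t_mem_normal L (le_trans (map_subtype_le _) (h.letG_domM L d).le) ?_ ?_
      · rintro g hg _ ⟨n, hn, rfl⟩
        rw [← h.letG_domM L d] at hg
        exact ⟨⟨g, hg⟩ * n * ⟨g, hg⟩⁻¹, hN.conj_mem n hn _, rfl⟩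
      · exact fun e => hne ((Subgroup.map_eq_bot_iff_of_injective _ (subtype_injective _)).1 e)
    obtain ⟨n, hn, e⟩ := hmap
    exact ⟨n, hn, e.trans (by simpa [wval, lval, lets, idL] using h.csq.symm)⟩

end MPre

end Cfsg.Lib.HSType
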