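import Cfsg.Agent.Lib.HSType.MCoord

/-!
# Standard generators of the normaliser of `V`
-/

set_option autoImplicit false
set_option linter.style.haveILetI false
set_option linter.unusedSectionVars false
set_option maxHeartbeats 1000000
set_option synthInstance.maxSize 1000

namespace Cfsg.Lib.HSType

open Subgroup

variable {G : Type*} [Group G] [Finite G] {t : G} {R Cy V A M : Subgroup G}

/-- The standard generators, two exponents still open. -/
structure MPre (t c y s x : G) (A M : Subgroup G) : Prop where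
  core : MCore c y s x
  cA : c ∈ A
  csq : c * c = t
  xM : x ∈ M
  yM : y ∈ M
  sM : s ∈ M
  ax2 : Act t (cOne c x * cOne c x) (cTwo c x * cTwo c x) x matX2
  ay2 : Act t (cOne c x * cOne c x) (cTwo c x * cTwo c x) y matY2
  as2 : Act t (cOne c x * cOne c x) (cTwo c x * cTwo c x) s matS2
  sur : ∀ a ∈ A, ∃ p : Pt 4, pt c (cOne c x) (cTwo c x) p = a
  inj : ∀ p : Pt 4, pt c (cOne c x) (cTwo c x) p = 1 → p = 0
  ax : Act c (cOne c x) (cTwo c x) x matX
  ay : Act c (cOne c x) (cTwo c x) y matY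
  as4 : Act c (cOne c x) (cTwo c x) s matS
  sq : s * s = 1 ∨ s * s = t
  cube : s * x * (s * x) * (s * x) = 1 ∨ s * x * (s * x) * (s * x) = cOne c x

theorem fix_X2 : ∀ q : Pt 2, mv matX2 q = q → q = 0 := by
  decide +kernel

theorem fix_YS : ∀ p : Pt 4, mv matY p = p → mv matS p = p → p = 0 ∨ p = (2, 0, 0) := by
  decide +kernel

theorem fix_SX : ∀ p : Pt 4, mv (mm matS matX) p = p → p = 0 ∨ p = (0, 1, 0) ∨ p = (0, 2, 0) ∨ p = (0, 3, 0) := by
  decide +kernel

theorem fix_Yc : ∀ p : Pt 4, red p = (1, 0, 0) → mv matY p = p → p = (1, 0, 0) ∨ p = (3, 0, 0) := by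
  decide +kernel

theorem col_X : ∀ p : Pt 4, red p = (1, 1, 0) →
      mm (((0, 1, 0), (0, 0, 1), p) : Mat 4) (mm (((0, 1, 0), (0, 0, 1), p) : Mat 4) (mm (((0, 1, 0), (0, 0, 1), p) : Mat 4) (mm (((0, 1, 0), (0, 0, 1), p) : Mat 4)
        (mm (((0, 1, 0), (0, 0, 1), p) : Mat 4) (mm (((0, 1, 0), (0, 0, 1), p) : Mat 4) (((0, 1, 0), (0, 0, 1), p) : Mat 4)))))) = one3 4 →
      p = colX := by
  decide +kernel

theorem norm_Y : ∀ p : Pt 4, p + mv (mm matY matY) p + mv matY p = 0 → ∃ q, p = mv (mm matY matY) q - q := by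
  decide +kernel

theorem s_unique : ∀ p : Pt 4, red p = (1, 0, 0) → ∀ q : Pt 4, red q = (0, 0, 1) → ∀ r : Pt 4, red r = (0, 1, 0) →
    ([mm ((p, q, r) : Mat 4) matY, mm ((p, q, r) : Mat 4) ((p, q, r) : Mat 4), mm (mm (mm ((p, q, r) : Mat 4) matX) (mm ((p, q, r) : Mat 4) matX)) (mm ((p, q, r) : Mat 4) matX)] : List (Mat 4)) =
        [mm (mm matY matY) ((p, q, r) : Mat 4), one3 4, one3 4] → ((p, q, r) : Mat 4) = matS := by
  decide +kernel

namespace Loc

variable (L : Loc t R Cy V A M)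
include L

theorem conj_A {g a : G} (hg : g ∈ M) (ha : a ∈ A) : g * a * g⁻¹ ∈ A := L.A_norm g hg a ha

theorem act_A {c c1 c2 g : G} (hg : g ∈ A) (h : c ∈ A) (h1 : c1 ∈ A) (h2 : c2 ∈ A) :
    Act c c1 c2 g (one3 4) := by
  haveI : Fact (1 < 4) := ⟨by norm_num⟩
  exact Act.of_comm (L.A_comm _ hg _ h) (L.A_comm _ hg _ h1) (L.A_comm _ hg _ h2)

/-- The element `x` and its fixed points. -/
theorem exists_x : ∃ v1 v2 x : G, v1 ∈ V ∧ v2 ∈ V ∧ x ∈ M ∧ Tri 2 t v1 v2 ∧
    (∀ q : Pt 2, pt t v1 v2 q = 1 → q = 0) ∧ Act t v1 v2 x matX2 ∧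
    x * x * x * x * x * x * x = 1 ∧ ∀ a ∈ A, Commute a x → a = 1 := by
  haveI : Fact (1 < 2) := ⟨by norm_num⟩
  obtain ⟨v1, v2, h1, h2, T, hi⟩ := L.exists_base
  obtain ⟨g, hg, ag⟩ := L.lift h1 h2 T hi matX2 (by decide +kernel)
  have a2 := ag.mul ag T
  have a4 := a2.mul a2 T
  have a7 : Act t v1 v2 (g * g * (g * g) * (g * g) * g) (one3 2) := by
    have := (a4.mul a2 T).mul ag T
    rwa [show mm (mm (mm (mm matX2 matX2) (mm matX2 matX2)) (mm matX2 matX2)) matX2 = one3 2 by decide +kernel]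
      at this
  have hg7 : g ^ 7 ∈ A := L.mem_A_of_act h1 h2 T hi (pow_mem hg _) (by
    rwa [show g ^ 7 = g * g * (g * g) * (g * g) * g by simp [pow_succ, mul_assoc]])
  have hx : Act t v1 v2 (g ^ 8) matX2 := by
    have := a4.mul a4 T
    rw [show mm (mm (mm matX2 matX2) (mm matX2 matX2)) (mm (mm matX2 matX2) (mm matX2 matX2)) = matX2 by
      decide +kernel] at this
    rwa [show g ^ 8 = g * g * (g * g) * (g * g * (g * g)) by simp [pow_succ, mul_assoc]]
  refine ⟨v1, v2, g ^ 8, h1, h2, pow_mem hg _, T, hi, hx, ?_, ?_⟩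
  · have e : g ^ 8 * g ^ 8 * g ^ 8 * g ^ 8 * g ^ 8 * g ^ 8 * g ^ 8 = ((g ^ 7) ^ 4) ^ 2 := by
      simp only [← pow_add, ← pow_mul]
    rw [e, L.A_four _ hg7, one_pow]
  · intro a ha hc
    have hfix : ∀ v ∈ V, Commute v (g ^ 8) → v = 1 := by
      intro v hv hvx
      obtain ⟨q, rfl⟩ := L.coord_V h1 h2 T hi v hv
      have h := hx.conj T q
      rw [← hvx.eq, mul_inv_cancel_right] at h
      rw [fix_X2 q (T.injective hi h).symm, pt_zero]
    have h2' : a * a ∈ V := L.A_two _ (mul_mem ha ha) (by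
      rw [show a * a * (a * a) = a ^ 4 by simp [pow_succ, mul_assoc], L.A_four a ha])
    exact hfix a (L.A_two a ha (hfix _ h2' (hc.mul_left hc))) hc

/-- The element `y`. -/
theorem exists_y {v1 v2 x : G} (h1 : v1 ∈ V) (h2 : v2 ∈ V) (T : Tri 2 t v1 v2)
    (hi : ∀ q : Pt 2, pt t v1 v2 q = 1 → q = 0) (hx : x ∈ M) (ax : Act t v1 v2 x matX2)
    (x7 : x * x * x * x * x * x * x = 1) (fixx : ∀ a ∈ A, Commute a x → a = 1) :
    ∃ y ∈ M, Act t v1 v2 y matY2 ∧ y * x * y⁻¹ = x * x ∧ y * y * y = 1 := by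
  classical
  haveI : Fact (1 < 2) := ⟨by norm_num⟩
  obtain ⟨g, hg, ag⟩ := L.lift h1 h2 T hi matY2 (by decide +kernel)
  have hxx : x * x ∈ M := mul_mem hx hx
  have hz : (x * x * g)⁻¹ * (g * x) ∈ A := L.inv_mul_mem_A h1 h2 T hi (mul_mem hxx hg) (mul_mem hg hx)
    ((ax.mul ax T).mul ag T) (by
      have := ag.mul ax T
      rwa [show mm matY2 matX2 = mm (mm matX2 matX2) matY2 by decide +kernel] at this)
  set z := (x * x * g)⁻¹ * (g * x) with hzd
  have hA : x * x * (g * z * g⁻¹) * (x * x)⁻¹ ∈ A := L.conj_A hxx (L.conj_A hg hz)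
  let f : A → A := fun b => ⟨(b : G)⁻¹ * (x * x * b * (x * x)⁻¹), mul_mem (inv_mem b.2) (L.conj_A hxx b.2)⟩
  have hf : Function.Injective f := by
    intro b b' e
    have e' : (b : G)⁻¹ * (x * x * b * (x * x)⁻¹) = (b' : G)⁻¹ * (x * x * b' * (x * x)⁻¹) := congrArg Subtype.val e
    have hb : (b' : G) * (b : G)⁻¹ = 1 := by
      refine fixx _ (mul_mem b'.2 (inv_mem b.2)) ?_
      have hu : Commute ((b' : G) * (b : G)⁻¹) (x * x) := by
        have e2 : (b' : G) * (b : G)⁻¹ = x * x * ((b' : G) * (b : G)⁻¹) * (x * x)⁻¹ := by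
          calc (b' : G) * (b : G)⁻¹ = b' * ((b : G)⁻¹ * (x * x * b * (x * x)⁻¹)) * (x * x * b * (x * x)⁻¹)⁻¹ := by
                group
            _ = x * x * ((b' : G) * (b : G)⁻¹) * (x * x)⁻¹ := by rw [e']; group
        show _ * _ = _ * _
        conv_lhs => rw [e2]
        group
      have := (hu.mul_right hu).mul_right (hu.mul_right hu)
      rwa [show x * x * (x * x) * (x * x * (x * x)) = x by
        rw [show x * x * (x * x) * (x * x * (x * x)) = x * x * x * x * x * x * x * x by group, x7, one_mul]] at this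
    exact Subtype.ext (mul_inv_eq_one.1 hb).symm
  obtain ⟨b, hb⟩ := (Finite.injective_iff_surjective.1 hf) ⟨_, hA⟩
  have hb' : (b : G)⁻¹ * (x * x * b * (x * x)⁻¹) = x * x * (g * z * g⁻¹) * (x * x)⁻¹ := congrArg Subtype.val hb
  have yM : (b : G) * g ∈ M := mul_mem (L.A_le b.2) hg
  have ay : Act t v1 v2 ((b : G) * g) matY2 := by
    have := (Act.of_comm (L.A_comm _ b.2 _ (L.VA L.tV)) (L.A_comm _ b.2 _ (L.VA h1))
      (L.A_comm _ b.2 _ (L.VA h2))).mul ag T
    rwa [show mm (one3 2) matY2 = matY2 by decide +kernel] at this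
  have yx : (b : G) * g * x * ((b : G) * g)⁻¹ = x * x := by
    have e1 : g * x * g⁻¹ = x * x * (g * z * g⁻¹) * (x * x)⁻¹ * (x * x) := by rw [hzd]; group
    rw [show (b : G) * g * x * ((b : G) * g)⁻¹ = b * (g * x * g⁻¹) * (b : G)⁻¹ by group, e1, ← hb']
    group
  refine ⟨_, yM, ay, yx, ?_⟩
  set y := (b : G) * g
  have a3 := (ay.mul ay T).mul ay T
  rw [show mm (mm matY2 matY2) matY2 = one3 2 by decide +kernel] at a3
  refine fixx _ (L.mem_A_of_act h1 h2 T hi (mul_mem (mul_mem yM yM) yM) a3) ?_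
  have k : ∀ u, y * (u * u) * y⁻¹ = (y * u * y⁻¹) * (y * u * y⁻¹) := fun u => by group
  have e : y * y * y * x * (y * y * y)⁻¹ = x := by
    rw [show y * y * y * x * (y * y * y)⁻¹ = y * (y * (y * x * y⁻¹) * y⁻¹) * y⁻¹ by group, yx, k x, yx, k (x * x),
      k x, yx, show x * x * (x * x) * (x * x * (x * x)) = x * x * x * x * x * x * x * x by group, x7, one_mul]
  exact mul_inv_eq_iff_eq_mul.1 e

/-- Standard generators exist. -/
theorem exists_pre : ∃ c y s x : G, MPre t c y s x A M := by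
  classical
  haveI : Fact (1 < 2) := ⟨by norm_num⟩
  haveI : Fact (1 < 4) := ⟨by norm_num⟩
  obtain ⟨v1, v2, x, h1, h2, hx, T2, hi, ax2, x7, fixx⟩ := L.exists_x
  obtain ⟨y, hy, ay2, yx, y3⟩ := L.exists_y h1 h2 T2 hi hx ax2 x7 fixx
  obtain ⟨a, ha, haa⟩ := L.A_root t L.tV
  have hy3 : ∀ u : G, y * (y * (y * u * y⁻¹) * y⁻¹) * y⁻¹ = u := fun u => by
    rw [show y * (y * (y * u * y⁻¹) * y⁻¹) * y⁻¹ = y * y * y * u * (y * y * y)⁻¹ by group, y3]; group
  have ha' := L.conj_A hy ha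
  have ha'' := L.conj_A hy ha'
  obtain ⟨c, hc⟩ : ∃ c, a * (y * a * y⁻¹) * (y * (y * a * y⁻¹) * y⁻¹) = c := ⟨_, rfl⟩
  have cA : c ∈ A := hc ▸ mul_mem (mul_mem ha ha') ha''
  have yt : y * t * y⁻¹ = t := ay2.e0.trans (pt_e0 t v1 v2)
  have csq : c * c = t := by
    rw [← hc, Commute.mul_mul_mul_comm (L.A_comm _ ha'' _ (mul_mem ha ha')),
      Commute.mul_mul_mul_comm (L.A_comm _ ha' _ ha), haa]
    rw [show y * a * y⁻¹ * (y * a * y⁻¹) = y * (a * a) * y⁻¹ by group,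
      show y * (y * a * y⁻¹) * y⁻¹ * (y * (y * a * y⁻¹) * y⁻¹) = y * (y * (a * a) * y⁻¹) * y⁻¹ by group,
      haa, yt, yt, L.tsq, one_mul]
  have yc : y * c * y⁻¹ = c := by
    rw [← hc]
    rw [show y * (a * (y * a * y⁻¹) * (y * (y * a * y⁻¹) * y⁻¹)) * y⁻¹
      = (y * a * y⁻¹) * (y * (y * a * y⁻¹) * y⁻¹) * (y * (y * (y * a * y⁻¹) * y⁻¹) * y⁻¹) by group, hy3,
      (L.A_comm _ (mul_mem ha' ha'') _ ha).eq]
    group
  have c1A : cOne c x ∈ A := L.conj_A hx cA
  have c2A : cTwo c x ∈ A := L.conj_A hx c1A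
  have hv1 : cOne c x * cOne c x = v1 := by
    rw [show cOne c x * cOne c x = x * (c * c) * x⁻¹ by simp only [cOne]; group, csq]
    exact ax2.e0.trans (pt_e1 t v1 v2)
  have hv2 : cTwo c x * cTwo c x = v2 := by
    rw [show cTwo c x * cTwo c x = x * (cOne c x * cOne c x) * x⁻¹ by simp only [cTwo]; group, hv1]
    exact ax2.e1.trans (pt_e2 t v1 v2)
  have T : Tri 4 c (cOne c x) (cTwo c x) := ⟨L.A_four _ cA, L.A_four _ c1A, L.A_four _ c2A,
    L.A_comm _ cA _ c1A, L.A_comm _ cA _ c2A, L.A_comm _ c1A _ c2A⟩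
  have ptA : ∀ p : Pt 4, pt c (cOne c x) (cTwo c x) p ∈ A := fun p =>
    mul_mem (mul_mem (pow_mem cA _) (pow_mem c1A _)) (pow_mem c2A _)
  have sqpt : ∀ p : Pt 4, pt c (cOne c x) (cTwo c x) p * pt c (cOne c x) (cTwo c x) p = pt t v1 v2 (red p) := by
    intro p
    have k : ∀ (u v : G) (i : ℕ), u * u = v → v ^ 2 = 1 → (u ^ i) ^ 2 = v ^ (i : ZMod 2).val := by
      intro u v i e e2
      rw [← pow_mul, mul_comm, pow_mul, pow_two, e, ZMod.val_natCast, ← pow_eq_pow_mod i e2]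
    rw [← pow_two]
    simp only [pt, red]
    rw [((T.ac.pow_pow _ _).mul_left (T.bc.pow_pow _ _)).mul_pow, (T.ab.pow_pow _ _).mul_pow,
      k _ _ _ csq T2.pa, k _ _ _ hv1 T2.pb, k _ _ _ hv2 T2.pc]
  have inj : ∀ p : Pt 4, pt c (cOne c x) (cTwo c x) p = 1 → p = 0 := by
    intro p hp
    have h0 : red p = 0 := hi _ (by rw [← sqpt, hp, one_mul])
    obtain ⟨q, q1, q2, q3⟩ := red_facts.1 p h0
    refine red_facts.2 p ⟨q, q1, q2, q3, hi q ?_⟩
    rw [← hp]
    simp only [pt]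
    rw [q1, q2, q3, pow_mul, pow_mul, pow_mul, pow_two, pow_two, pow_two, csq, hv1, hv2]
  have pinj := T.injective inj
  have sur : ∀ b ∈ A, ∃ p : Pt 4, pt c (cOne c x) (cTwo c x) p = b := by
    intro b hb
    let f : Pt 4 → A := fun p => ⟨_, ptA p⟩
    have hf : Function.Injective f := fun p q e => pinj (congrArg Subtype.val e)
    obtain ⟨p, hp⟩ := ((Nat.bijective_iff_injective_and_card f).2 ⟨hf, by
      rw [L.cardA]; simp [Nat.card_eq_fintype_card]⟩).2 ⟨b, hb⟩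
    exact ⟨p, congrArg Subtype.val hp⟩
  have up : ∀ g ∈ M, ∀ U2 : Mat 2, Act t v1 v2 g U2 →
      ∃ U : Mat 4, Act c (cOne c x) (cTwo c x) g U ∧ redM U = U2 := by
    intro g hg U2 e
    obtain ⟨p0, e0⟩ := sur _ (L.conj_A hg cA)
    obtain ⟨p1, e1⟩ := sur _ (L.conj_A hg c1A)
    obtain ⟨p2, e2⟩ := sur _ (L.conj_A hg c2A)
    refine ⟨(p0, p1, p2), ⟨e0.symm, e1.symm, e2.symm⟩, ?_⟩
    have k : ∀ u : G, g * u * g⁻¹ * (g * u * g⁻¹) = g * (u * u) * g⁻¹ := fun u => by group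
    exact Prod.ext (T2.injective hi (show pt t v1 v2 (red p0) = _ by rw [← e.e0, ← sqpt, e0, k, csq]))
      (Prod.ext (T2.injective hi (show pt t v1 v2 (red p1) = _ by rw [← e.e1, ← sqpt, e1, k, hv1]))
        (T2.injective hi (show pt t v1 v2 (red p2) = _ by rw [← e.e2, ← sqpt, e2, k, hv2])))
  -- the matrix of x
  obtain ⟨Ux, aUx, rUx⟩ := up x hx _ ax2
  have ax : Act c (cOne c x) (cTwo c x) x matX := by
    have e0 : Ux.1 = (0, 1, 0) := pinj (aUx.e0.symm.trans (pt_e1 c (cOne c x) (cTwo c x)).symm)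
    have e1 : Ux.2.1 = (0, 0, 1) := pinj (aUx.e1.symm.trans (pt_e2 c (cOne c x) (cTwo c x)).symm)
    have eU : Ux = ((0, 1, 0), (0, 0, 1), Ux.2.2) := Prod.ext e0 (Prod.ext e1 rfl)
    have a7 := aUx.mul (aUx.mul (aUx.mul (aUx.mul (aUx.mul (aUx.mul aUx T) T) T) T) T) T
    rw [show x * (x * (x * (x * (x * (x * x))))) = 1 by simpa [mul_assoc] using x7] at a7
    have h7 := a7.unique Act.one pinj
    rw [eU] at h7
    rw [eU, col_X _ (congrArg (fun U : Mat 2 => U.2.2) rUx) h7] at aUx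
    exact aUx
  have yc1 : y * cOne c x * y⁻¹ = cTwo c x := by
    rw [show y * cOne c x * y⁻¹ = (y * x * y⁻¹) * (y * c * y⁻¹) * (y * x * y⁻¹)⁻¹ by simp only [cOne]; group,
      yx, yc]
    simp only [cTwo, cOne]; group
  have yc2 : y * cTwo c x * y⁻¹ = pt c (cOne c x) (cTwo c x) ((2, 3, 3) : Pt 4) := by
    rw [show y * cTwo c x * y⁻¹ = (y * x * y⁻¹) * (y * cOne c x * y⁻¹) * (y * x * y⁻¹)⁻¹ by
      simp only [cTwo]; group, yx, yc1,
      show x * x * cTwo c x * (x * x)⁻¹ = x * (x * cTwo c x * x⁻¹) * x⁻¹ by group, ax.e2, ax.conj T]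
    exact congrArg _ (by decide +kernel)
  have ay : Act c (cOne c x) (cTwo c x) y matY := ⟨by rw [yc]; exact (pt_e0 c (cOne c x) (cTwo c x)).symm,
    by rw [yc1]; exact (pt_e2 c (cOne c x) (cTwo c x)).symm, yc2⟩
  -- the element s
  obtain ⟨g, hg, ag⟩ := L.lift h1 h2 T2 hi matS2 (by decide +kernel)
  have hyy : y * y ∈ M := mul_mem hy hy
  have hz : (y * y * g)⁻¹ * (g * y) ∈ A := L.inv_mul_mem_A h1 h2 T2 hi (mul_mem hyy hg) (mul_mem hg hy)
    ((ay2.mul ay2 T2).mul ag T2) (by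
      have := ag.mul ay2 T2
      rwa [show mm matS2 matY2 = mm (mm matY2 matY2) matS2 by decide +kernel] at this)
  obtain ⟨d, hd⟩ : ∃ d, y * y * (g * ((y * y * g)⁻¹ * (g * y)) * g⁻¹) * (y * y)⁻¹ = d := ⟨_, rfl⟩
  have hdA : d ∈ A := hd ▸ L.conj_A hyy (L.conj_A hg hz)
  have hgy : g * y * g⁻¹ = d * (y * y) := by rw [← hd]; group
  obtain ⟨p, hp⟩ := sur d hdA
  have hnorm : d * (y * y * d * (y * y)⁻¹) * (y * d * y⁻¹) = 1 := by
    have e : (g * y * g⁻¹) * (g * y * g⁻¹) * (g * y * g⁻¹) = 1 := by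
      rw [show (g * y * g⁻¹) * (g * y * g⁻¹) * (g * y * g⁻¹) = g * (y * y * y) * g⁻¹ by group, y3]; group
    rw [hgy] at e
    rw [← e]
    have e' : y * y * y * (y * y * y) = 1 := by rw [y3, one_mul]
    rw [show d * (y * y) * (d * (y * y)) * (d * (y * y))
      = d * (y * y * d * (y * y)⁻¹) * ((y * y * y) * (y * d * y⁻¹) * (y * y * y)⁻¹) * (y * y * y * (y * y * y)) by
        simp [mul_assoc], e', y3]
    group
  obtain ⟨q, hq⟩ := norm_Y p (inj _ (by
    rw [T.add, T.add, ← (ay.mul ay T).conj T, ← ay.conj T, hp]; exact hnorm))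
  obtain ⟨b, hb⟩ : ∃ b, pt c (cOne c x) (cTwo c x) q = b := ⟨_, rfl⟩
  have hbA : b ∈ A := hb ▸ ptA q
  have hdb : d = y * y * b * (y * y)⁻¹ * b⁻¹ := by
    rw [← hp, hq, T.sub, ← (ay.mul ay T).conj T, hb]
  obtain ⟨s, hs⟩ : ∃ s, b * g = s := ⟨_, rfl⟩
  have hsM : s ∈ M := hs ▸ mul_mem (L.A_le hbA) hg
  have sy' : s * y * s⁻¹ = y * y := by
    rw [← hs, show b * g * y * (b * g)⁻¹ = b * (g * y * g⁻¹) * b⁻¹ by group, hgy, hdb,
      show b * (y * y * b * (y * y)⁻¹ * b⁻¹ * (y * y)) * b⁻¹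
        = (b * (y * y * b * (y * y)⁻¹) * b⁻¹) * (y * y) * b⁻¹ by group,
      (L.A_comm _ hbA _ (L.conj_A hyy hbA)).eq]
    group
  have as2 : Act t v1 v2 s matS2 := by
    have := (Act.of_comm (L.A_comm _ hbA _ (L.VA L.tV)) (L.A_comm _ hbA _ (L.VA h1))
      (L.A_comm _ hbA _ (L.VA h2))).mul ag T2
    rw [show mm (one3 2) matS2 = matS2 by decide +kernel, hs] at this
    exact this
  have hssA : s * s ∈ A := L.mem_A_of_act h1 h2 T2 hi (mul_mem hsM hsM) (by
    have := as2.mul as2 T2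
    rwa [show mm matS2 matS2 = one3 2 by decide +kernel] at this)
  have hsx : s * x ∈ M := mul_mem hsM hx
  have hcuA : s * x * (s * x) * (s * x) ∈ A :=
    L.mem_A_of_act h1 h2 T2 hi (mul_mem (mul_mem hsx hsx) hsx) (by
      have h := as2.mul ax2 T2
      have := (h.mul h T2).mul h T2
      rwa [show mm (mm (mm matS2 matX2) (mm matS2 matX2)) (mm matS2 matX2) = one3 2 by decide +kernel] at this)
  obtain ⟨Us, aUs, rUs⟩ := up s hsM _ as2
  have as4 : Act c (cOne c x) (cTwo c x) s matS := by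
    have hSX := aUs.mul ax T
    have c1 : mm Us matY = mm (mm matY matY) Us := by
      refine Act.unique (aUs.mul ay T) ?_ pinj
      have := (ay.mul ay T).mul aUs T
      rwa [← sy', show s * y * s⁻¹ * s = s * y by group] at this
    have c2 : mm Us Us = one3 4 := (aUs.mul aUs T).unique (L.act_A hssA cA c1A c2A) pinj
    have c3 := ((hSX.mul hSX T).mul hSX T).unique (L.act_A hcuA cA c1A c2A) pinj
    have h := s_unique Us.1 (congrArg (fun U : Mat 2 => U.1) rUs) Us.2.1 (congrArg (fun U : Mat 2 => U.2.1) rUs)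
      Us.2.2 (congrArg (fun U : Mat 2 => U.2.2) rUs) (by simp only [Prod.mk.eta, c1, c2, c3])
    rw [show Us = matS from h] at aUs
    exact aUs
  have hs2 : s * s = 1 ∨ s * s = t := by
    obtain ⟨e, he⟩ := sur _ hssA
    have f1 : mv matY e = e := by
      refine pinj ?_
      rw [← ay.conj T, he]
      have : s * s * y * (s * s)⁻¹ = y := by
        rw [show s * s * y * (s * s)⁻¹ = s * (s * y * s⁻¹) * s⁻¹ by group, sy',
          show s * (y * y) * s⁻¹ = (s * y * s⁻¹) * (s * y * s⁻¹) by group, sy',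
          show y * y * (y * y) = y * (y * y * y) by group, y3, mul_one]
      rw [mul_inv_eq_iff_eq_mul.2 (mul_inv_eq_iff_eq_mul.1 this).symm]
    have f2 : mv matS e = e := pinj (by rw [← as4.conj T, he]; group)
    rcases fix_YS e f1 f2 with rfl | rfl
    · left; rw [← he, pt_zero]
    · right
      rw [← he, ← csq]
      show c ^ 2 * cOne c x ^ 0 * cTwo c x ^ 0 = c * c
      simp [pow_two]
  -- shift s
  obtain ⟨e, he⟩ := sur _ hcuA
  have hfix : mv (mm matS matX) e = e := pinj (by rw [← (as4.mul ax T).conj T, he]; group)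
  obtain ⟨u, hu⟩ : ∃ u, x * x * x * x * x * x * c * (x * x * x * x * x * x)⁻¹ = u := ⟨_, rfl⟩
  have hupt : u = pt c (cOne c x) (cTwo c x) ((1, 2, 1) : Pt 4) := by
    have h6 := ((((ax.mul ax T).mul ax T).mul ax T).mul ax T).mul ax T
    rw [← hu, h6.e0]
    exact congrArg _ (by decide +kernel)
  have hshift : ∀ j : Pt 4, e = j → s * c * x * (s * c * x) * (s * c * x)
      = pt c (cOne c x) (cTwo c x) (((0, 2, 0) : Pt 4) + j) := by
    intro j hj
    have hxu : c * x = x * u := by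
      rw [← hu, show x * (x * x * x * x * x * x * c * (x * x * x * x * x * x)⁻¹)
        = (x * x * x * x * x * x * x) * c * (x * x * x * x * x * x * x)⁻¹ * x by group, x7]
      group
    have e1 : s * c * x = s * x * u := by rw [mul_assoc, hxu, mul_assoc]
    rw [e1, show s * x * u * (s * x * u) * (s * x * u) = (s * x * u * (s * x)⁻¹) *
      ((s * x) * (s * x) * u * ((s * x) * (s * x))⁻¹) * ((s * x * (s * x) * (s * x)) * u) by group,
      ← he, hupt, (as4.mul ax T).conj T, ((as4.mul ax T).mul (as4.mul ax T) T).conj T,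
      ← T.add, ← T.add, ← T.add, hj]
    refine congrArg _ ?_
    rw [add_comm j, ← add_assoc]
    exact congrArg (· + j) (by decide +kernel)
  have core : ∀ s', s' * y * s'⁻¹ = y * y → Act c (cOne c x) (cTwo c x) s' matS → MCore c y s' x := by
    intro s' h a'
    refine ⟨T, x7, y3, yx, ax.e2, yc, yc1, yc2, by rw [h]; exact y3, ?_, ?_, ?_⟩
    · rw [a'.e0, eq_inv_iff_mul_eq_one]
      show c ^ 3 * cOne c x ^ 0 * cTwo c x ^ 0 * c = 1
      simpa [pow_succ] using T.pa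
    · exact a'.e1.trans (pt_e2 c (cOne c x) (cTwo c x))
    · exact a'.e2.trans (pt_e1 c (cOne c x) (cTwo c x))
  have fin : ∀ s', s' ∈ M → s' * y * s'⁻¹ = y * y → Act t v1 v2 s' matS2 →
      Act c (cOne c x) (cTwo c x) s' matS → (s' * s' = 1 ∨ s' * s' = t) →
      (s' * x * (s' * x) * (s' * x) = 1 ∨ s' * x * (s' * x) * (s' * x) = cOne c x) →
      ∃ c y s x : G, MPre t c y s x A M := by
    intro s' hM' h a2' a' hq' hc'
    exact ⟨c, y, s', x,
      { core := core s' h a', cA := cA, csq := csq, xM := hx, yM := hy, sM := hM'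
        ax2 := by rw [hv1, hv2]; exact ax2
        ay2 := by rw [hv1, hv2]; exact ay2
        as2 := by rw [hv1, hv2]; exact a2'
        sur := sur, inj := inj, ax := ax, ay := ay, as4 := a', sq := hq', cube := hc' }⟩
  have sc' : s * c * s⁻¹ = c⁻¹ := (core s sy' as4).sc
  have hsc : s * c * y * (s * c)⁻¹ = y * y := by
    rw [show s * c * y * (s * c)⁻¹ = s * (c * y * c⁻¹) * s⁻¹ by group,
      show c * y * c⁻¹ = y by rw [mul_inv_eq_iff_eq_mul]; exact (mul_inv_eq_iff_eq_mul.1 yc).symm, sy']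
  have a2c : Act t v1 v2 (s * c) matS2 := by
    have := as2.mul (Act.of_comm (L.A_comm _ cA _ (L.VA L.tV)) (L.A_comm _ cA _ (L.VA h1))
      (L.A_comm _ cA _ (L.VA h2))) T2
    rwa [show mm matS2 (one3 2) = matS2 by decide +kernel] at this
  have a4c : Act c (cOne c x) (cTwo c x) (s * c) matS := by
    have := as4.mul (L.act_A cA cA c1A c2A) T
    rwa [show mm matS (one3 4) = matS by decide +kernel] at this
  have sq' : s * c * (s * c) = 1 ∨ s * c * (s * c) = t := by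
    have e : s * c * (s * c) = s * s := by
      rw [show s * c * (s * c) = (s * c * s⁻¹) * (s * s * c) by group, sc', (L.A_comm _ hssA _ cA).eq]
      group
    rwa [e]
  have hscM : s * c ∈ M := mul_mem hsM (L.A_le cA)
  rcases fix_SX e hfix with h | h | h | h
  · exact fin s hsM sy' as2 as4 hs2 (Or.inl (by rw [← he, h, pt_zero]))
  · exact fin s hsM sy' as2 as4 hs2 (Or.inr (by rw [← he, h, pt_e1]))
  · refine fin _ hscM hsc a2c a4c sq' (Or.inl ?_)
    rw [hshift _ h, show ((0, 2, 0) : Pt 4) + (0, 2, 0) = 0 by decide +kernel, pt_zero]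
  · refine fin _ hscM hsc a2c a4c sq' (Or.inr ?_)
    rw [hshift _ h, show ((0, 2, 0) : Pt 4) + (0, 3, 0) = (0, 1, 0) by decide +kernel, pt_e1]

end Loc

end Cfsg.Lib.HSType
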