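import Cfsg.Agent.Lib.HSType.Model
import Cfsg.Agent.Lib.HSType.RData

/-!
# The subgroup `R` of the model, by numbers
-/

set_option autoImplicit false
set_option maxRecDepth 100000

namespace Cfsg.Lib.HSType

open Cfsg.Lib.J3Type

/-- An entry of a packed table. -/
def tget (T n : ℕ) : ℕ := Nat.mod (Nat.shiftRight T (Nat.mul 7 n)) 128

/-- An exponent digit of a number. -/
def digit (n g : ℕ) : ℕ :=
  Nat.mod (Nat.shiftRight n (Nat.sub 4 g)) (bif Nat.beq g 0 then 4 else 2)

/-- Apply a table so many times. -/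
def iterT (T : ℕ) : ℕ → ℕ → ℕ
  | 0, m => m
  | k + 1, m => iterT T k (tget T m)

/-- A word repeated. -/
def repW (w : List ℕ) : ℕ → List ℕ
  | 0 => []
  | k + 1 => w ++ repW w k

namespace RTab

/-- The word of a number. -/
def word (Z : RTab) (n : ℕ) : List ℕ :=
  repW (Z.gens.getD 0 []) (digit n 0) ++ (repW (Z.gens.getD 1 []) (digit n 1) ++
    (repW (Z.gens.getD 2 []) (digit n 2) ++ (repW (Z.gens.getD 3 []) (digit n 3) ++ repW (Z.gens.getD 4 []) (digit n 4))))

/-- The product of numbers. -/
def rmul (Z : RTab) (m n : ℕ) : ℕ :=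
  iterT (Z.steps.getD 4 0) (digit n 4) (iterT (Z.steps.getD 3 0) (digit n 3)
    (iterT (Z.steps.getD 2 0) (digit n 2) (iterT (Z.steps.getD 1 0) (digit n 1)
      (iterT (Z.steps.getD 0 0) (digit n 0) m))))

/-- So many factors equal to a number. -/
def rpow (Z : RTab) (P : ℕ) : ℕ → ℕ → ℕ
  | 0, m => m
  | k + 1, m => rpow Z P k (rmul Z m P)

/-- The image of a number under the map sending `c` to its inverse, `c₁²` to `P` and the fourth generator to
`Q`, and commuting with conjugation by `y`. -/
def dImg (Z : RTab) (P Q n : ℕ) : ℕ :=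
  Z.rpow (tget Z.sy Q) (digit n 4) (Z.rpow Q (digit n 3) (Z.rpow (tget Z.sy P) (digit n 2)
    (Z.rpow P (digit n 1) (Z.rpow 48 (digit n 0) 0))))

/-- The map composed with conjugation by `c₁ s c₁⁻¹`. -/
def fImg (Z : RTab) (P Q n : ℕ) : ℕ := Z.dImg P Q (tget Z.s3 n)

/-- The conditions on the images under an involution of the normaliser of `y`. -/
def candOK (Z : RTab) (P Q : ℕ) : Bool :=
  Nat.beq (Z.rmul P P) 0 && (Nat.beq (Z.dImg P Q P) 8 && (Nat.beq (Z.dImg P Q Q) 2 &&
    (Nat.beq (Z.dImg P Q (tget Z.sy 4)) (tget Z.sy (Z.dImg P Q 4)) &&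
      (Nat.beq (Z.dImg P Q (tget Z.sy 1)) (tget Z.sy (Z.dImg P Q 1)) &&
        ([8, 2].all fun u =>
          let v := Z.fImg P Q (Z.fImg P Q (Z.fImg P Q u))
          Nat.beq v u || Nat.beq v (Z.rmul 32 u))))))

/-- All numbers stay in range and stand for the right elements. -/
noncomputable def tabOK (Z : RTab) : Bool :=
  (List.range 64).all fun n =>
    ((List.range 5).all fun g =>
      Nat.blt (tget (Z.steps.getD g 0) n) 64 &&
        eqB (Z.word n ++ Z.gens.getD g []) (Z.word (tget (Z.steps.getD g 0) n))) &&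
    (Nat.blt (tget Z.sy n) 64 && eqB ([6] ++ (Z.word n ++ [7])) (Z.word (tget Z.sy n))) &&
    (Nat.blt (tget Z.s3 n) 64 && eqB ([2, 8, 3] ++ (Z.word n ++ [2, 9, 3])) (Z.word (tget Z.s3 n))) &&
    (Nat.blt (tget Z.inv n) 64 && eqB (Z.word (tget Z.inv n) ++ Z.word n) []) &&
    (Nat.beq n 0 || not (evB (Z.word n)))

/-- Elements of order three in the coset of `y` are conjugate to `y`. -/
noncomputable def conjOK (Z : RTab) : Bool :=
  (List.range 64).all fun n =>
    not (evB ([6] ++ Z.word n ++ ([6] ++ Z.word n) ++ ([6] ++ Z.word n))) ||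
      (Nat.blt (tget Z.cy n) 64 &&
        eqB (Z.word (tget Z.cy n) ++ [6] ++ invW (Z.word (tget Z.cy n))) ([6] ++ Z.word n))

end RTab

theorem tabA_ok : rTabA.tabOK = true := by decide +kernel
theorem tabB_ok : rTabB.tabOK = true := by decide +kernel
theorem conjA_ok : rTabA.conjOK = true := by decide +kernel
theorem conjB_ok : rTabB.conjOK = true := by decide +kernel

theorem candA : ((List.range 64).all fun P => (List.range 64).all fun Q =>
    not (rTabA.candOK P Q) || (Nat.beq P 42 && Nat.beq Q 2) || (Nat.beq P 2 && Nat.beq Q 8)) = true := by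
  decide +kernel

theorem candB : ((List.range 64).all fun P => (List.range 64).all fun Q => not (rTabB.candOK P Q)) = true := by
  decide +kernel

theorem cubeA : ([16, 8, 4, 2, 1].all fun u =>
    Nat.beq (rTabA.fImg 42 2 (rTabA.fImg 42 2 (rTabA.fImg 42 2 u))) u) = true := by decide +kernel

/-- The facts about an element of the tables commuting with `y` or of the centre. -/
theorem fixA : ((List.range 64).all fun n => not (Nat.beq (tget rTabA.sy n) n) || Nat.beq (Nat.mod n 16) 0) = true ∧
    ((List.range 64).all fun n => not (Nat.beq (tget rTabB.sy n) n) || Nat.beq (Nat.mod n 16) 0) = true := by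
  decide +kernel

end Cfsg.Lib.HSType

namespace Cfsg.Lib.HSType

open Cfsg.Lib.J3Type

/-- Further facts about the tables: the words use the letters of the normaliser and the numbering is one-to-one. -/
noncomputable def RTab.formOK (Z : RTab) : Bool :=
  (List.range 64).all fun m =>
    ((Z.word m).all fun l => [0, 1, 2, 3, 4, 5].any (Nat.beq (Nat.div l 2))) &&
    ((List.range 5).all fun g => (Z.gens.getD g []).all fun l => [0, 1, 2, 3, 4, 5].any (Nat.beq (Nat.div l 2))) &&
    ((List.range 64).all fun n => not (Nat.beq (Z.rmul (tget Z.inv m) n) 0) || Nat.beq n m) &&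
    (not (Nat.beq (Nat.mod m 16) 0) || (Z.word m == List.replicate (Nat.div m 16) 0))

theorem formA : rTabA.formOK = true := by decide +kernel
theorem formB : rTabB.formOK = true := by decide +kernel

end Cfsg.Lib.HSType
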