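import Cfsg.Agent.Lib.HSType.MRel
import Cfsg.Agent.Lib.HSType.RModel

/-!
# The elements of `R` in the letters
-/

set_option autoImplicit false
set_option linter.style.haveILetI false
set_option linter.unusedSectionVars false
set_option maxRecDepth 100000
set_option maxHeartbeats 1000000

namespace Cfsg.Lib.HSType

open Subgroup Cfsg.Lib.J3Type

variable {G : Type*} [Group G] [Finite G] {t c y s x : G} {R Cy V A M : Subgroup G}

theorem digit_lt {n : ℕ} (g : ℕ) : digit n g < 4 := by
  unfold digit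
  cases Nat.beq g 0
  · exact lt_of_lt_of_le (Nat.mod_lt _ (by norm_num)) (by norm_num)
  · exact Nat.mod_lt _ (by norm_num)

theorem wval_repW {f : ℕ → G} (w : List ℕ) : ∀ k, wval f (repW w k) = wval f w ^ k
  | 0 => by simp [repW, wval]
  | k + 1 => by rw [repW, wval_append, wval_repW w k, pow_succ']

theorem MPre.eq_of_eqB (h : MPre t c y s x A M) (L : Loc t R Cy V A M) (d : G) {w w' : List ℕ}
    (hd : ∀ l ∈ w, l / 2 ∈ domM) (hd' : ∀ l ∈ w', l / 2 ∈ domM) (e : eqB w w' = true) :
    wval (lets c y s x d) w = wval (lets c y s x d) w' := by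
  simp only [eqB, Bool.and_eq_true] at e
  have hl := lt_of_all e.1.1
  have hl' := lt_of_all e.1.2
  have hg := (eqB_iff hl hl').1 (by simp [eqB, e])
  have hdd : ∀ l ∈ w ++ invW w', l / 2 ∈ domM := by
    intro l hm
    rcases List.mem_append.1 hm with hm | hm
    · exact hd l hm
    · obtain ⟨k, hk, rfl⟩ := List.mem_map.1 hm
      have hk' := List.mem_reverse.1 hk
      have h22 := hl' k hk'
      unfold invL
      rw [show Nat.blt k idL = true from Nat.ble_eq ▸ (show k + 1 ≤ 30 by omega),
        cond_true, show Nat.mod k 2 = k % 2 from rfl]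
      have := hd' k hk'
      rcases Nat.mod_two_eq_zero_or_one k with p | p <;> rw [p]
      · rw [show Nat.beq 0 0 = true from rfl, cond_true]
        rwa [show Nat.add k 1 = k + 1 from rfl, show (k + 1) / 2 = k / 2 by omega]
      · rw [show Nat.beq 1 0 = false from rfl, cond_false]
        rwa [show Nat.sub k 1 = k - 1 from rfl, show (k - 1) / 2 = k / 2 by omega]
  have h1 := (h.rel_iff L d (w ++ invW w') hdd).1 (by rw [wval_append, wval_invW, hg, mul_inv_cancel])
  rw [wval_append, wval_invW] at h1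
  exact mul_inv_eq_one.1 h1

/-- The numbers stand for the elements of `R`. -/
structure RSem (c y s x : G) (R : Subgroup G) (Z : RTab) : Prop where
  shape : Z ∈ [rTabA, rTabB]
  mem : ∀ (d : G) n, n < 64 → wval (lets c y s x d) (Z.word n) ∈ R
  cover : ∀ d : G, ∀ u ∈ R, ∃ n, n < 64 ∧ wval (lets c y s x d) (Z.word n) = u
  inj : ∀ (d : G) m n, m < 64 → n < 64 →
    wval (lets c y s x d) (Z.word m) = wval (lets c y s x d) (Z.word n) → m = n
  mul : ∀ (d : G) m n, m < 64 → n < 64 → Z.rmul m n < 64 ∧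
    wval (lets c y s x d) (Z.word m) * wval (lets c y s x d) (Z.word n) =
      wval (lets c y s x d) (Z.word (Z.rmul m n))
  conjy : ∀ (d : G) n, n < 64 → tget Z.sy n < 64 ∧
    y * wval (lets c y s x d) (Z.word n) * y⁻¹ = wval (lets c y s x d) (Z.word (tget Z.sy n))
  conjs3 : ∀ (d : G) n, n < 64 → tget Z.s3 n < 64 ∧
    cOne c x * s * (cOne c x)⁻¹ * wval (lets c y s x d) (Z.word n) * (cOne c x * s * (cOne c x)⁻¹)⁻¹ =
      wval (lets c y s x d) (Z.word (tget Z.s3 n))

namespace MPre

variable (h : MPre t c y s x A M) (L : Loc t R Cy V A M)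
include h L

theorem rsem {Z : RTab} (hsh : Z ∈ [rTabA, rTabB]) (hT : Z.tabOK = true) (hF : Z.formOK = true)
    (hg : ∀ (d : G) g, g < 5 → wval (lets c y s x d) (Z.gens.getD g []) ∈ R) : RSem c y s x R Z := by
  classical
  have sub : ∀ l : ℕ, ([0, 1, 2, 3, 4, 5].any (Nat.beq (Nat.div l 2))) = true → l / 2 ∈ domM := by
    intro l hl
    rw [List.any_eq_true] at hl
    obtain ⟨k, hk, e⟩ := hl
    have e' : l / 2 = k := Nat.eq_of_beq_eq_true e
    rw [e']
    exact (by decide : ∀ k ∈ [0, 1, 2, 3, 4, 5], k ∈ domM) k hk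
  have F := fun n (hn : n < 64) => List.all_eq_true.1 hF n (List.mem_range.2 hn)
  have hw : ∀ n, n < 64 → ∀ l ∈ Z.word n, l / 2 ∈ domM := by
    intro n hn l hl
    have := F n hn
    simp only [Bool.and_eq_true] at this
    exact sub l (List.all_eq_true.1 this.1.1.1 l hl)
  have hwg : ∀ g, g < 5 → ∀ l ∈ Z.gens.getD g [], l / 2 ∈ domM := by
    intro g hg' l hl
    have := F 0 (by norm_num)
    simp only [Bool.and_eq_true] at this
    exact sub l (List.all_eq_true.1 (List.all_eq_true.1 this.1.1.2 g (List.mem_range.2 hg')) l hl)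
  have dap : ∀ {u v : List ℕ}, (∀ l ∈ u, l / 2 ∈ domM) → (∀ l ∈ v, l / 2 ∈ domM) → ∀ l ∈ u ++ v, l / 2 ∈ domM :=
    fun hu hv l hl => (List.mem_append.1 hl).elim (hu l) (hv l)
  have T := fun n (hn : n < 64) => List.all_eq_true.1 hT n (List.mem_range.2 hn)
  simp only [Bool.and_eq_true] at T
  intros
  have mem : ∀ (d : G) n, n < 64 → wval (lets c y s x d) (Z.word n) ∈ R := by
    intro d n hn
    simp only [RTab.word, wval_append, wval_repW]
    exact mul_mem (pow_mem (hg d 0 (by norm_num)) _) (mul_mem (pow_mem (hg d 1 (by norm_num)) _)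
      (mul_mem (pow_mem (hg d 2 (by norm_num)) _) (mul_mem (pow_mem (hg d 3 (by norm_num)) _)
        (pow_mem (hg d 4 (by norm_num)) _))))
  have step : ∀ (d : G) g n, g < 5 → n < 64 → tget (Z.steps.getD g 0) n < 64 ∧
      wval (lets c y s x d) (Z.word n) * wval (lets c y s x d) (Z.gens.getD g []) =
        wval (lets c y s x d) (Z.word (tget (Z.steps.getD g 0) n)) := by
    intro d g n hg' hn
    have := List.all_eq_true.1 (T n hn).1.1.1.1 g (List.mem_range.2 hg')
    simp only [Bool.and_eq_true] at this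
    have hlt := Nat.lt_of_succ_le (Nat.le_of_ble_eq_true this.1)
    exact ⟨hlt, by rw [← wval_append]; exact h.eq_of_eqB L d (dap (hw n hn) (hwg g hg')) (hw _ hlt) this.2⟩
  have iter : ∀ (d : G) g, g < 5 → ∀ k m, m < 64 → iterT (Z.steps.getD g 0) k m < 64 ∧
      wval (lets c y s x d) (Z.word m) * wval (lets c y s x d) (Z.gens.getD g []) ^ k =
        wval (lets c y s x d) (Z.word (iterT (Z.steps.getD g 0) k m)) := by
    intro d g hg' k
    induction k with
    | zero => exact fun m hm => ⟨hm, by simp [iterT]⟩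
    | succ k ih =>
      intro m hm
      obtain ⟨h1, h2⟩ := step d g m hg' hm
      obtain ⟨h3, h4⟩ := ih _ h1
      exact ⟨h3, by rw [pow_succ', ← mul_assoc, h2]; exact h4⟩
  have mul : ∀ (d : G) m n, m < 64 → n < 64 → Z.rmul m n < 64 ∧
      wval (lets c y s x d) (Z.word m) * wval (lets c y s x d) (Z.word n) =
        wval (lets c y s x d) (Z.word (Z.rmul m n)) := by
    intro d m n hm _
    obtain ⟨a0, b0⟩ := iter d 0 (by norm_num) (digit n 0) m hm
    obtain ⟨a1, b1⟩ := iter d 1 (by norm_num) (digit n 1) _ a0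
    obtain ⟨a2, b2⟩ := iter d 2 (by norm_num) (digit n 2) _ a1
    obtain ⟨a3, b3⟩ := iter d 3 (by norm_num) (digit n 3) _ a2
    obtain ⟨a4, b4⟩ := iter d 4 (by norm_num) (digit n 4) _ a3
    refine ⟨a4, ?_⟩
    conv_lhs => arg 2; unfold RTab.word
    simp only [wval_append, wval_repW]
    rw [← mul_assoc, b0, ← mul_assoc, b1, ← mul_assoc, b2, ← mul_assoc, b3, b4]
    rfl
  have w0 : ∀ d : G, wval (lets c y s x d) (Z.word 0) = 1 := fun d => rfl
  have inj : ∀ (d : G) m n, m < 64 → n < 64 →
      wval (lets c y s x d) (Z.word m) = wval (lets c y s x d) (Z.word n) → m = n := by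
    intro d m n hm hn e
    have hiv := (T m hm).1.2
    have hlt := Nat.lt_of_succ_le (Nat.le_of_ble_eq_true hiv.1)
    have e1 : wval (lets c y s x d) (Z.word (tget Z.inv m)) * wval (lets c y s x d) (Z.word m) = 1 := by
      rw [← wval_append, h.eq_of_eqB L d (dap (hw _ hlt) (hw m hm)) (by simp) hiv.2]
      rfl
    rw [e] at e1
    obtain ⟨hk, hk'⟩ := mul d _ n hlt hn
    rw [hk'] at e1
    have hk0 : Z.rmul (tget Z.inv m) n = 0 := by
      by_contra hne
      have := (T _ hk).2
      rw [Bool.or_eq_true] at this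
      rcases this with this | this
      · exact hne (Nat.eq_of_beq_eq_true this)
      · rw [Bool.not_eq_true'] at this
        have hd2 := hw _ hk
        have hlt22 : ∀ l ∈ Z.word (Z.rmul (tget Z.inv m) n), l < 22 := by
          intro l hl
          have := hd2 l hl
          have h10 : ∀ a ∈ domM, a < 11 := by decide
          have := h10 _ this
          omega
        exact not_evB this hlt22 ((h.rel_iff L d _ hd2).2 e1)
    have := F m hm
    simp only [Bool.and_eq_true] at this
    have := List.all_eq_true.1 this.1.2 n (List.mem_range.2 hn)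
    rw [Bool.or_eq_true, Bool.not_eq_true'] at this
    rcases this with this | this
    · rw [hk0] at this; exact absurd this (by decide)
    · exact (Nat.eq_of_beq_eq_true this).symm
  refine ⟨hsh, mem, ?_, inj, mul, ?_, ?_⟩
  · intro d u hu
    let f : Fin 64 → R := fun n => ⟨_, mem d n n.2⟩
    have hf : Function.Injective f := fun m n e => Fin.ext (inj d m n m.2 n.2 (congrArg Subtype.val e))
    obtain ⟨n, hn⟩ := ((Nat.bijective_iff_injective_and_card f).2 ⟨hf, by rw [L.cardR, Nat.card_fin]⟩).2 ⟨u, hu⟩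
    exact ⟨n, n.2, congrArg Subtype.val hn⟩
  · intro d n hn
    have := (T n hn).1.1.1.2
    have hlt := Nat.lt_of_succ_le (Nat.le_of_ble_eq_true this.1)
    refine ⟨hlt, ?_⟩
    rw [← h.eq_of_eqB L d (dap (by decide : ∀ l ∈ ([6] : List ℕ), l / 2 ∈ domM) (dap (hw n hn) (by decide)))
      (hw _ hlt) this.2]
    simp [wval, lval, lets, idL, mul_assoc]
  · intro d n hn
    have := (T n hn).1.1.2
    have hlt := Nat.lt_of_succ_le (Nat.le_of_ble_eq_true this.1)
    refine ⟨hlt, ?_⟩
    rw [← h.eq_of_eqB L d (dap (by decide : ∀ l ∈ ([2, 8, 3] : List ℕ), l / 2 ∈ domM) (dap (hw n hn) (by decide)))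
      (hw _ hlt) this.2]
    simp [wval, lval, lets, idL, mul_assoc]

/-- One of the two shapes of `R`. -/
theorem exists_rsem : RSem c y s x R rTabA ∨ RSem c y s x R rTabB := by
  obtain ⟨hc, j, k, hr⟩ := h.R_facts L
  have z2 : ∀ i : ZMod 2, i = 0 ∨ i = 1 := by decide
  have e : ∀ (d : G) l, wval (lets c y s x d) l = (l.map (lval (lets c y s x d))).prod := fun _ _ => rfl
  have kill : ∀ w : List ℕ, (∀ l ∈ w, l / 2 ∈ domM ∧ l < 22) → evB (w ++ w) = false →
      evB (w ++ w ++ [1, 1]) = false → wval (lets c y s x (1 : G)) w ∈ R → False := by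
    intro w hw e1 e2 hm
    have hd : ∀ v : List ℕ, (∀ l ∈ v, l / 2 ∈ domM ∧ l < 22) → evB v = false →
        wval (lets c y s x (1 : G)) v ≠ 1 := fun v hv ev hv1 =>
      not_evB ev (fun l hl => (hv l hl).2) ((h.rel_iff L 1 v fun l hl => (hv l hl).1).2 hv1)
    have hww : ∀ l ∈ w ++ w, l / 2 ∈ domM ∧ l < 22 := fun l hl => (List.mem_append.1 hl).elim (hw l) (hw l)
    rcases L.sq _ hm with q | q
    · exact hd _ hww e1 (by rw [wval_append, q])
    · refine hd (w ++ w ++ [1, 1]) (fun l hl => (List.mem_append.1 hl).elim (hww l) (fun h1 => ?_)) e2 ?_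
      · exact (by decide : ∀ l ∈ ([1, 1] : List ℕ), l / 2 ∈ domM ∧ l < 22) l h1
      · rw [wval_append, wval_append, q, ← h.csq]
        simp [wval, lval, lets, idL, mul_assoc]
  have hV1 := L.V_le (h.v1_mem L)
  have hV2 := L.V_le (h.v2_mem L)
  have hy := h.y_comm_t L
  rcases z2 k with rfl | rfl
  · rcases z2 j with rfl | rfl
    · left
      refine h.rsem L (List.mem_cons_self ..) tabA_ok formA fun d g hg => ?_
      have hr' : wEl s x ∈ R := by simpa using hr
      interval_cases g <;> simp [rTabA, e, lval, lets, idL, ← mul_assoc]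
      exacts [hc, hV1, hV2, hr', L.R_norm y hy _ hr']
    · right
      refine h.rsem L (List.mem_cons_of_mem _ (List.mem_cons_self ..)) tabB_ok formB fun d g hg => ?_
      have hr' : wEl s x * cOne c x ∈ R := by simpa [ZMod.val_one] using hr
      interval_cases g <;> simp [rTabB, e, lval, lets, idL, ← mul_assoc]
      exacts [hc, hV1, hV2, hr', by simpa [mul_assoc] using L.R_norm y hy _ hr']
  · exfalso
    rcases z2 j with rfl | rfl
    · exact kill [10, 4] (by decide) (by decide +kernel) (by decide +kernel)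
        (by simpa [wval, lval, lets, idL, ZMod.val_one] using hr)
    · exact kill [10, 2, 4] (by decide) (by decide +kernel) (by decide +kernel)
        (by simpa [wval, lval, lets, idL, ZMod.val_one, mul_assoc] using hr)

end MPre

end Cfsg.Lib.HSType
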